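import Cfsg.Agent.Lib.Compute.E6Two.Gens
import Cfsg.Agent.Lib.Compute.Perm

/-!
# Bound on central deviations by collection, two free values

`ζ X g` is the deviation of the relation `relAt g` at elements `X`. Consistency of collection in positive
systems and comparison of words give linear equations between the deviations; a certificate solves
them in terms of two deviations of order two.
-/

set_option autoImplicit false
set_option maxRecDepth 100000

namespace Cfsg.Agent.Lib.Compute.E6Two

open Cfsg.Agent.Lib.Compute.Schur

/-- A numbered positive system with its rules. -/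
structure Sys where
  o : List ℕ
  R : PcData
  gx : List ℕ

/-- The generator at a position. -/
def Sys.root (S : Sys) (i : ℕ) : ℕ := S.o.getD i 0

/-- The relation of a tail. -/
def Sys.var (S : Sys) (n : ℕ) : ℕ := S.gx.getD n 0

/-- Equality of relations. -/
def relEq (p q : List ℕ × List ℕ) : Bool := natListEq p.1 q.1 && natListEq p.2 q.2

/-- The rules of a system are relations of the list. -/
def sysCheck (S : Sys) : Bool :=
  Nat.beq S.R.p 2 && S.gx.all (fun g => Nat.blt g numRel) &&
  (List.range S.R.k).all fun i => (List.range (i + 1)).all fun j =>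
    bif Nat.beq i j then
      relEq (relAt (S.var (tix i i))) ([S.root i, S.root i], (S.R.rhs i i).map S.root)
    else
      relEq (relAt (S.var (tix i j))) ([S.root i, S.root j], S.root j :: (S.R.rhs i j).map S.root)

/-- Sources of equations. -/
inductive Src
  | cons (a b c : ℕ)
  | link (g : ℕ) (u v : List ℕ)

/-- The two sides of an equation and its validity. -/
noncomputable def rowOf (S : Sys) : Src → Bool × List ℕ × List ℕ
  | .cons a b c =>
    match ev S.R [a, b] [], ev S.R [b, c] [] with
    | (l1, v1), (m1, v2) =>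
      match ev S.R l1 [c], ev S.R [a] m1 with
      | (n2, u1), (m2, u2) => (natListEq n2 m2, (v1 ++ u1).map S.var, (v2 ++ u2).map S.var)
  | .link g u v =>
    match ev S.R u [], ev S.R v [] with
    | (a1, v1), (a2, v2) =>
      (Nat.blt g numRel && relEq (relAt g) (u.map S.root, v.map S.root) && natListEq a1 a2,
        v1.map S.var, g :: v2.map S.var)

/-- Remove the common members of two lists. -/
def cancel : List ℕ → List ℕ → List ℕ × List ℕ
  | [], Q => ([], Q)
  | x :: P, Q =>
    if x ∈ Q then cancel P (Q.erase x) else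
      match cancel P Q with
      | (a, b) => (x :: a, b)

/-- Entry of a relation: sixteen times its position plus the two values, `16` bits each shifted by `8`. -/
noncomputable def posOf (pv g : ℕ) : ℕ := getP 24 pv g / 256

/-- First value. -/
noncomputable def valA (pv g : ℕ) : ℤ := Int.ofNat (getP 24 pv g / 16 % 16) - 8

/-- Second value. -/
noncomputable def valB (pv g : ℕ) : ℤ := Int.ofNat (getP 24 pv g % 16) - 8

/-- An equation fixing the relation in position `k`. -/
noncomputable def stepOK (pv ord : ℕ) (S : Sys) (k : ℕ) (src : Src) : Bool :=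
  match rowOf S src, getP 16 ord k with
  | (ok, P₀, N₀), g =>
    match cancel P₀ N₀ with
    | (P, N) =>
    ok && Nat.blt g numRel && ((P ++ N).all fun x => Nat.beq x g || Nat.blt (posOf pv x) k) &&
    (decide ((P.count g : ℤ) - N.count g = 1) || decide ((P.count g : ℤ) - N.count g = -1)) &&
    decide ((P.map (valA pv)).sum = (N.map (valA pv)).sum) &&
    decide ((P.map (valB pv)).sum = (N.map (valB pv)).sum) && (P₀ ++ N₀).all (fun x => Nat.blt x numRel)

/-- An equation showing that the combination `(s, t)` of the free values is zero. -/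
noncomputable def freeOK (pv : ℕ) (S : Sys) (src : Src) (s t : ℤ) : Bool :=
  match rowOf S src with
  | (ok, P, N) => ok && ((P ++ N).all fun x => Nat.blt x numRel) &&
    decide ((P.map (valA pv)).sum - (N.map (valA pv)).sum = s) &&
    decide ((P.map (valB pv)).sum - (N.map (valB pv)).sum = t)

/-- The tables are inverse to each other. -/
noncomputable def ordOK (pv ord : ℕ) : Bool :=
  ((List.range numRel).all fun g => Nat.blt (posOf pv g) numRel && Nat.beq (getP 16 ord (posOf pv g)) g) &&
  Nat.blt (getP 16 ord 72) numRel && decide (valA pv (getP 16 ord 72) = 1) && decide (valB pv (getP 16 ord 72) = 0) &&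
  Nat.blt (getP 16 ord 73) numRel && decide (valA pv (getP 16 ord 73) = 0) && decide (valB pv (getP 16 ord 73) = 1) &&
  ((List.range 72).all fun t => decide (valA pv (getP 16 ord t) = 0) && decide (valB pv (getP 16 ord t) = 0))

/-- Check of consecutive steps in one system. -/
noncomputable def stepsOK (pv ord : ℕ) (S : Sys) : List (ℕ × Src) → Bool
  | [] => true
  | (k, src) :: L => stepOK pv ord S k src && stepsOK pv ord S L

/-- A verified step. -/
def Good (pv ord k : ℕ) : Prop := ∃ S src, sysCheck S = true ∧ stepOK pv ord S k src = true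

theorem good_of_stepsOK {pv ord : ℕ} {S : Sys} (hS : sysCheck S = true) :
    ∀ (L : List (ℕ × Src)), stepsOK pv ord S L = true → ∀ k ∈ L.map Prod.fst, Good pv ord k
  | [], _, k, h => by simp at h
  | (a, src) :: L, h, k, hk => by
    simp only [stepsOK, Bool.and_eq_true] at h
    rcases List.mem_cons.1 hk with rfl | hk
    · exact ⟨S, src, hS, h.1⟩
    · exact good_of_stepsOK hS L h.2 k hk

section Sound

variable {Y : Type*} [Group Y] (X : ℕ → Y)

/-- The deviation of relation `g`. -/
def ζ (g : ℕ) : Y := (prodT X (relAt g).2)⁻¹ * prodT X (relAt g).1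

theorem prod_eq_mul_zeta {g : ℕ} {u v : List ℕ} (h : relEq (relAt g) (u, v) = true) :
    prodT X u = prodT X v * ζ X g := by
  simp only [relEq, Bool.and_eq_true] at h
  rw [ζ, natListEq_eq h.1, natListEq_eq h.2, mul_inv_cancel_left]

variable {X}

theorem prodT_map (t : ℕ → Y) (f : ℕ → ℕ) (u : List ℕ) :
    prodT t (u.map f) = prodT (fun i => t (f i)) u := by
  simp [prodT, List.map_map, Function.comp_def]

theorem var_lt {S : Sys} (h : S.gx.all (fun g => Nat.blt g numRel) = true) (n : ℕ) : S.var n < numRel := by
  rw [Sys.var]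
  by_cases hn : n < S.gx.length
  · rw [List.getD_eq_getElem _ _ hn]
    simpa [Nat.blt_eq] using List.all_eq_true.1 h _ (List.getElem_mem hn)
  · rw [List.getD_eq_default _ _ (by omega)]
    decide

theorem isLift_of_sysCheck (hc : ∀ g < numRel, ζ X g ∈ Subgroup.center Y) {S : Sys} (h : sysCheck S = true) :
    IsLift S.R (fun i => X (S.root i)) (fun n => ζ X (S.var n)) ∧
      S.gx.all (fun g => Nat.blt g numRel) = true := by
  simp only [sysCheck, Bool.and_eq_true] at h
  obtain ⟨⟨hp, hgx⟩, hr⟩ := h
  have hr := fun i (hi : i < S.R.k) j (hj : j < i + 1) =>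
    List.all_eq_true.1 (List.all_eq_true.1 hr i (List.mem_range.2 hi)) j (List.mem_range.2 hj)
  have hp := Nat.eq_of_beq_eq_true hp
  refine ⟨⟨fun n => hc _ (var_lt hgx n), fun i hi => ?_, fun i j hj hi => ?_, by omega⟩, hgx⟩
  · have := hr i hi i (by omega)
    simp only [show Nat.beq i i = true from Nat.beq_refl i, cond_true] at this
    have := prod_eq_mul_zeta X this
    rw [prodT_map, prodT_cons, prodT_cons, show prodT X ([] : List ℕ) = 1 from rfl, mul_one] at this
    rw [hp, pow_two]
    exact this
  · have := hr i hi j (by omega)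
    simp only [show Nat.beq i j = false from
      Bool.eq_false_iff.2 fun hb => (by have := Nat.eq_of_beq_eq_true hb; omega), cond_false] at this
    have := prod_eq_mul_zeta X this
    rw [prodT_cons, prodT_cons, prodT_cons, prodT_map, show prodT X ([] : List ℕ) = 1 from rfl, mul_one] at this
    exact this

/-- The equation holds. -/
theorem rowOf_sound (hc : ∀ g < numRel, ζ X g ∈ Subgroup.center Y) {S : Sys}
    (h : sysCheck S = true) {src : Src} (hok : (rowOf S src).1 = true) :
    prodT (ζ X) (rowOf S src).2.1 = prodT (ζ X) (rowOf S src).2.2 := by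
  obtain ⟨hl, hgx⟩ := isLift_of_sysCheck hc h
  set t : ℕ → Y := fun i => X (S.root i) with ht
  set z : ℕ → Y := fun n => ζ X (S.var n) with hz
  have hcen := fun u => Subgroup.mem_center_iff.1 (prodT_mem_center hl u)
  have hmap : ∀ u : List ℕ, prodT (ζ X) (u.map S.var) = prodT z u := fun u => prodT_map (ζ X) S.var u
  cases src with
  | cons a b c =>
    simp only [rowOf] at hok ⊢
    have s1 := ev_sound hl [a, b] []
    have s2 := ev_sound hl [b, c] []
    cases e1 : ev S.R [a, b] [] with | mk l1 v1 =>
    cases e2 : ev S.R [b, c] [] with | mk m1 v2 =>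
    have s3 := ev_sound hl l1 [c]
    have s4 := ev_sound hl [a] m1
    cases e3 : ev S.R l1 [c] with | mk n2 u1 =>
    cases e4 : ev S.R [a] m1 with | mk m2 u2 =>
    simp only [e1, e2, e3, e4] at hok s1 s2 s3 s4 ⊢
    obtain rfl := natListEq_eq hok
    rw [hmap, hmap, prodT_append, prodT_append]
    simp only [prodT_cons, show prodT t ([] : List ℕ) = 1 from rfl, mul_one] at s1 s2 s3 s4
    have k1 : t a * t b * t c = prodT t n2 * (prodT z v1 * prodT z u1) := by
      rw [s1, mul_assoc _ (prodT z v1), ← hcen v1 (t c), ← mul_assoc, s3, mul_assoc, hcen v1 (prodT z u1)]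
    have k2 : t a * (t b * t c) = prodT t n2 * (prodT z v2 * prodT z u2) := by
      rw [s2, ← mul_assoc, s4, mul_assoc, hcen v2 (prodT z u2)]
    rw [mul_assoc, k2] at k1
    exact (mul_left_cancel k1).symm
  | link g u v =>
    simp only [rowOf] at hok ⊢
    have s1 := ev_sound hl u []
    have s2 := ev_sound hl v []
    cases e1 : ev S.R u [] with | mk a1 v1 =>
    cases e2 : ev S.R v [] with | mk a2 v2 =>
    simp only [e1, e2, Bool.and_eq_true] at hok s1 s2 ⊢
    obtain ⟨⟨-, hg⟩, ha⟩ := hok
    obtain rfl := natListEq_eq ha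
    rw [hmap, prodT_cons, hmap]
    simp only [show prodT t ([] : List ℕ) = 1 from rfl, mul_one] at s1 s2
    have k : prodT t a1 * prodT z v1 = prodT t a1 * (prodT z v2 * ζ X g) := by
      rw [← mul_assoc, ← s2, ← s1]
      have := prod_eq_mul_zeta X hg
      rw [prodT_map, prodT_map] at this
      exact this
    rw [mul_left_cancel k, hcen v2]

/-- The values of a sum in terms of the exceptional member. -/
theorem sum_map_eq {A : Type*} [AddCommGroup A] (f : ℕ → A) (v w : ℕ → ℤ) (a b : A) (g : ℕ) :
    ∀ P : List ℕ, (∀ x ∈ P, x ≠ g → f x = v x • a + w x • b) →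
      (P.map f).sum = (P.count g : ℤ) • (f g - (v g • a + w g • b)) + ((P.map v).sum • a + (P.map w).sum • b)
  | [], _ => by simp
  | x :: P, h => by
    rw [List.map_cons, List.sum_cons, sum_map_eq f v w a b g P fun y hy => h y (List.mem_cons_of_mem _ hy),
      List.map_cons, List.sum_cons, List.map_cons, List.sum_cons, add_smul, add_smul]
    by_cases hx : x = g
    · subst hx
      rw [List.count_cons_self, Nat.cast_succ, add_smul, one_smul]
      abel
    · rw [List.count_cons_of_ne hx, h x (List.mem_cons_self ..) hx]
      abel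

theorem cancel_sound {A : Type*} [AddCommGroup A] (f : ℕ → A) : ∀ P Q : List ℕ,
    ((cancel P Q).1.map f).sum - ((cancel P Q).2.map f).sum = (P.map f).sum - (Q.map f).sum
  | [], _ => by simp [cancel]
  | x :: P, Q => by
    by_cases h : x ∈ Q
    · rw [show cancel (x :: P) Q = cancel P (Q.erase x) by simp [cancel, h], cancel_sound f P,
        ← List.sum_map_erase f h, List.map_cons, List.sum_cons]
      abel
    · rw [show cancel (x :: P) Q = (x :: (cancel P Q).1, (cancel P Q).2) by simp [cancel, h],
        List.map_cons, List.sum_cons, add_sub_assoc, cancel_sound f P, List.map_cons, List.sum_cons,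
        add_sub_assoc]

theorem cancel_mem : ∀ P Q : List ℕ, ∀ x ∈ (cancel P Q).1 ++ (cancel P Q).2, x ∈ P ++ Q
  | [], _ => by simp [cancel]
  | y :: P, Q => by
    intro x hx
    by_cases h : y ∈ Q
    · rw [show cancel (y :: P) Q = cancel P (Q.erase y) by simp [cancel, h]] at hx
      rcases List.mem_append.1 (cancel_mem P _ x hx) with h' | h'
      · exact List.mem_cons_of_mem _ (List.mem_append_left _ h')
      · exact List.mem_cons_of_mem _ (List.mem_append_right _ (List.mem_of_mem_erase h'))
    · rw [show cancel (y :: P) Q = (y :: (cancel P Q).1, (cancel P Q).2) by simp [cancel, h]] at hx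
      rcases List.mem_cons.1 (show x ∈ y :: ((cancel P Q).1 ++ (cancel P Q).2) from hx) with h' | h'
      · simp [h']
      · exact List.mem_cons_of_mem _ (cancel_mem P Q x h')

/-- All deviations lie in the group of two of order two. -/
theorem exists_zeta {pv ord : ℕ} (hord : ordOK pv ord = true) (hgood : ∀ k, 74 ≤ k → k < numRel → Good pv ord k)
    {S₂ S₃ : Sys} {src₂ src₃ : Src} (hS₂ : sysCheck S₂ = true) (hS₃ : sysCheck S₃ = true)
    (h20 : freeOK pv S₂ src₂ 2 0 = true) (h02 : freeOK pv S₃ src₃ 0 2 = true)
    (hc : ∀ g < numRel, ζ X g ∈ Subgroup.center Y) (hunit : ∀ t < 72, ζ X (getP 16 ord t) = 1) :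
    ∃ a ∈ Subgroup.center Y, ∃ b ∈ Subgroup.center Y, a ^ 2 = 1 ∧ b ^ 2 = 1 ∧
      a = ζ X (getP 16 ord 72) ∧ b = ζ X (getP 16 ord 73) ∧
      ∀ g < numRel, ζ X g = a ^ valA pv g * b ^ valB pv g := by
  simp only [ordOK, Bool.and_eq_true, List.all_eq_true, List.mem_range, decide_eq_true_eq, Nat.blt_eq] at hord
  obtain ⟨⟨⟨⟨⟨⟨⟨hpos, ha0⟩, haa⟩, hab⟩, hb0⟩, hba⟩, hbb⟩, hu⟩ := hord
  let Z := Subgroup.center Y
  letI : CommGroup Z :=
    { (inferInstance : Group Z) with
      mul_comm := fun a b => Subtype.ext (Subgroup.mem_center_iff.1 b.2 a.1) }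
  let f : ℕ → Additive Z := fun g =>
    if h : g < numRel then Additive.ofMul ⟨ζ X g, hc g h⟩ else 0
  have hsum : ∀ P : List ℕ, (∀ x ∈ P, x < numRel) →
      (((P.map f).sum).toMul : Y) = prodT (ζ X) P := by
    intro P hP
    induction P with
    | nil => rfl
    | cons x P ih =>
      rw [List.map_cons, List.sum_cons, prodT_cons, ← ih fun y hy => hP y (List.mem_cons_of_mem _ hy)]
      simp [f, hP x (List.mem_cons_self ..)]
  have heq : ∀ (S : Sys) (src : Src), sysCheck S = true → (rowOf S src).1 = true →
      (∀ x ∈ (rowOf S src).2.1 ++ (rowOf S src).2.2, x < numRel) →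
      ((rowOf S src).2.1.map f).sum = ((rowOf S src).2.2.map f).sum := by
    intro S src hS hok hall
    refine Additive.toMul.injective (Subtype.ext ?_)
    rw [hsum _ fun x hx => hall x (List.mem_append_left _ hx),
      hsum _ fun x hx => hall x (List.mem_append_right _ hx)]
    exact rowOf_sound hc hS hok
  let v : ℕ → ℤ := valA pv
  let w : ℕ → ℤ := valB pv
  set a := f (getP 16 ord 72) with ha
  set b := f (getP 16 ord 73) with hb
  have main : ∀ k g, g < numRel → posOf pv g = k → f g = v g • a + w g • b := by
    intro k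
    induction k using Nat.strong_induction_on with
    | h k ih =>
      intro g hg hk
      obtain ⟨hlt, hinv⟩ := hpos g hg
      have hinv := Nat.eq_of_beq_eq_true hinv
      rw [hk] at hlt hinv
      rcases (show k < 72 ∨ k = 72 ∨ k = 73 ∨ 74 ≤ k by omega) with h | h | h | h
      · subst hinv
        have e : f (getP 16 ord k) = 0 := by
          simp only [f, dif_pos hg]
          exact congrArg Additive.ofMul (Subtype.ext (hunit k h))
        rw [e, show v (getP 16 ord k) = 0 from (hu k h).1, show w (getP 16 ord k) = 0 from (hu k h).2,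
          zero_smul, zero_smul, add_zero]
      · subst hinv; subst h
        rw [show v (getP 16 ord 72) = 1 from haa, show w (getP 16 ord 72) = 0 from hab, one_smul, zero_smul,
          add_zero]
      · subst hinv; subst h
        rw [show v (getP 16 ord 73) = 0 from hba, show w (getP 16 ord 73) = 1 from hbb, one_smul, zero_smul,
          zero_add]
      · obtain ⟨S, src, hS, hst⟩ := hgood k h hlt
        unfold stepOK at hst
        have := heq S src hS
        cases hrow : rowOf S src with | mk ok q =>
        obtain ⟨P₀, Q₀⟩ := q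
        rw [hrow, hinv] at hst
        rw [hrow] at this
        have hcs := cancel_sound f P₀ Q₀
        cases hcq : cancel P₀ Q₀ with | mk P Q =>
        rw [hcq] at hcs
        simp only [hcq, Bool.and_eq_true, List.all_eq_true, Bool.or_eq_true, decide_eq_true_eq, Nat.blt_eq] at hst
        obtain ⟨⟨⟨⟨⟨⟨hok, -⟩, hall⟩, hcnt⟩, hva⟩, hvb⟩, hvar⟩ := hst
        have hlt' : ∀ x ∈ P ++ Q, x < numRel := fun x hx => hvar x (cancel_mem P₀ Q₀ x (by rw [hcq]; exact hx))
        have hoth : ∀ x ∈ P ++ Q, x ≠ g → f x = v x • a + w x • b := fun x hx hne => by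
          rcases hall x hx with he | he
          · exact absurd (Nat.eq_of_beq_eq_true he) hne
          · exact ih _ he x (hlt' x hx) rfl
        have h' := this hok hvar
        rw [← sub_eq_zero, ← hcs, sub_eq_zero] at h'
        rw [sum_map_eq f v w a b g P fun x hx => hoth x (List.mem_append_left _ hx),
          sum_map_eq f v w a b g Q fun x hx => hoth x (List.mem_append_right _ hx),
          show (P.map v).sum = (Q.map v).sum from hva, show (P.map w).sum = (Q.map w).sum from hvb] at h'
        have h' := sub_eq_zero.2 (add_right_cancel h')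
        rw [← sub_smul] at h'
        rcases hcnt with e | e <;> rw [e] at h'
        · rw [one_smul, sub_eq_zero] at h'; exact h'
        · rw [neg_smul, one_smul, neg_sub, sub_eq_zero] at h'; exact h'.symm
  have hall : ∀ g < numRel, f g = v g • a + w g • b := fun g hg => main _ g hg rfl
  have hfree : ∀ {S : Sys} {src : Src} {s t : ℤ}, sysCheck S = true → freeOK pv S src s t = true →
      s • a + t • b = 0 := by
    intro S src s t hS hfr
    unfold freeOK at hfr
    have := heq S src hS
    cases hrow : rowOf S src with | mk ok q =>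
    obtain ⟨P, Q⟩ := q
    rw [hrow] at hfr this
    simp only [Bool.and_eq_true, List.all_eq_true, decide_eq_true_eq, Nat.blt_eq] at hfr
    obtain ⟨⟨⟨hok, hvar⟩, e1⟩, e2⟩ := hfr
    have h := this hok hvar
    rw [sum_map_eq f v w a b (getP 16 ord 72) P fun x hx _ => hall x (hvar x (List.mem_append_left _ hx)),
      sum_map_eq f v w a b (getP 16 ord 72) Q fun x hx _ => hall x (hvar x (List.mem_append_right _ hx)),
      show f (getP 16 ord 72) - (v (getP 16 ord 72) • a + w (getP 16 ord 72) • b) = 0 from
        sub_eq_zero.2 (hall _ ha0)] at h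
    simp only [smul_zero, zero_add] at h
    have h := sub_eq_zero.2 h
    rw [← e1, ← e2, sub_smul, sub_smul]
    rw [← h]
    abel
  have ea : (a.toMul : Y) = ζ X (getP 16 ord 72) := by simp [ha, f, ha0]
  have eb : (b.toMul : Y) = ζ X (getP 16 ord 73) := by simp [hb, f, hb0]
  refine ⟨_, hc _ ha0, _, hc _ hb0, ?_, ?_, rfl, rfl, fun g hg => ?_⟩
  · have := congrArg (fun x : Additive Z => (x.toMul : Y)) (hfree hS₂ h20)
    simpa [ea] using this
  · have := congrArg (fun x : Additive Z => (x.toMul : Y)) (hfree hS₃ h02)
    simpa [eb] using this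
  · have := congrArg (fun x : Additive Z => (x.toMul : Y)) (hall g hg)
    simp only [f, dif_pos hg, toMul_ofMul, toMul_add, toMul_zsmul, Subgroup.coe_mul, Subgroup.coe_zpow, ea, eb] at this
    exact this

end Sound

end Cfsg.Agent.Lib.Compute.E6Two
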