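import Cfsg.Agent.Lib.Compute.E6Two.Lower

/-! The deformation of the positive system is consistent. -/

set_option autoImplicit false
set_option maxRecDepth 100000
set_option maxHeartbeats 4000000

namespace Cfsg.Agent.Lib.Compute.E6Two

theorem step_ok_low : ∀ l ∈ List.range' 0 9, Tower.towerStepOK sysPos.R klVal l = true := by
  simpa [List.all_eq_true] using
    (show ((List.range' 0 9).all fun l => Tower.towerStepOK sysPos.R klVal l) = true by decide +kernel)

theorem step_ok_high : ∀ l ∈ List.range' 9 27, Tower.towerStepOK sysPos.R klVal l = true := by
  simpa [List.all_eq_true] using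
    (show ((List.range' 9 27).all fun l => Tower.towerStepOK sysPos.R klVal l) = true by decide +kernel)

/-- The tails satisfy all overlap conditions. -/
theorem cons_ok : Tower.consOK sysPos.R klVal = true := by
  refine Tower.consOK_of_steps (by decide +kernel) fun l hl => ?_
  have hl : l < 36 := hl
  rcases Nat.lt_or_ge l 9 with h | h
  · exact step_ok_low l (List.mem_range'_1.2 (by omega))
  · exact step_ok_high l (List.mem_range'_1.2 (by omega))

end Cfsg.Agent.Lib.Compute.E6Two
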