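import Cfsg.Agent.Lib.Compute.E6Two.RootCollect
import Cfsg.Agent.Lib.Schur.TwistUnip
import Cfsg.Agent.Lib.Twisted.Core.E6Group
import Cfsg.Agent.Lib.Twisted.Core.BN

/-!
The generators inside `²E₆(2)`, and the fixed parts of the groups of the closed sets of positive roots.
-/

set_option autoImplicit false
set_option maxRecDepth 8000

namespace Cfsg.Agent.Lib.Compute.E6Two

open Cfsg.Lie Cfsg.Agent.Lib.Chev Cfsg.Agent.Lib.ChevCent
open Cfsg.Agent.Lib.Twisted (e6Graph_facts GraphData e6Graph)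
open Cfsg.Agent.Lib.Twisted.Core (rootedE6 chkGraph_E6 e6Twist e6Orbits)

variable {K : Type*} [Field K]

/-- A root element with its partner under the twist, or a fixed one. -/
def genOK : W4 → Bool
  | [] => true
  | [(r, c)] => Nat.blt r 72 && Nat.beq (e6Graph.root r) r && (Nat.beq c 0 || Nat.beq c 1)
  | [(r, c), (s, d)] => Nat.blt r 72 && Nat.beq (e6Graph.root r) s && Nat.beq (e6Graph.root s) r &&
      Nat.beq d (mul4 c c) && Nat.beq c (mul4 d d) && sameW [(r, c), (s, d)] [(s, d), (r, c)]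
  | _ => false

theorem genOK_all : (genTab.all genOK) = true := by decide +kernel

theorem signs_odd : ((List.range 72).all fun r => decide (e6Graph.sign r % 2 = 1)) = true := by decide +kernel

/-- What is used about the field. -/
structure FieldData (K : Type*) [Field K] [Fintype K] where
  ω : K
  φ : K ≃+* K
  hK : Fintype.card K = 4
  hω : ω * ω = ω + 1
  hφ : ∀ t, φ t = t ^ 2
  h2 : ∀ t, φ (φ t) = t
  cases : ∀ t : K, t = val4 ω 0 ∨ t = val4 ω 1 ∨ t = val4 ω 2 ∨ t = val4 ω 3
  char_two : CharP K 2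

theorem exists_fieldData [Fintype K] (hK : Fintype.card K = 4) : Nonempty (FieldData K) := by
  classical
  haveI : CharP K 2 := by
    obtain ⟨n, hp, e⟩ := FiniteField.card K (ringChar K)
    haveI := Fact.mk hp
    have h2 : ringChar K = 2 := by
      have hd : ringChar K ∣ 2 ^ 2 := by
        rw [show 2 ^ 2 = Fintype.card K from hK.symm, e]
        exact dvd_pow_self _ n.ne_zero
      exact (Nat.prime_dvd_prime_iff_eq hp Nat.prime_two).1 (hp.dvd_of_dvd_pow hd)
    exact h2 ▸ ringChar.charP K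
  obtain ⟨φ, hφ, h2⟩ := Twisted.Core.e6_powAut (K := K) (q := 2) Nat.prime_two.isPrimePow (by rw [hK]; rfl)
  obtain ⟨ω, hω⟩ : ∃ ω : K, ω ∉ ({0, 1} : Finset K) := by
    by_contra hn
    push Not at hn
    have := (Finset.card_le_card (fun x _ => hn x : (Finset.univ : Finset K) ⊆ {0, 1})).trans Finset.card_le_two
    rw [Finset.card_univ, hK] at this
    omega
  simp only [Finset.mem_insert, Finset.mem_singleton, not_or] at hω
  have hω' : ω * ω = ω + 1 := by
    have h4 : ω ^ 4 = ω := by rw [← hK]; exact FiniteField.pow_card ω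
    have : ω * ((ω - 1) * (ω * ω + ω + 1)) = 0 := by linear_combination h4
    rcases mul_eq_zero.1 this with h | h
    · exact absurd h hω.1
    rcases mul_eq_zero.1 h with h | h
    · exact absurd (sub_eq_zero.1 h) hω.2
    have h' := eq_neg_of_add_eq_zero_left (show ω * ω + (ω + 1) = 0 by linear_combination h)
    rwa [CharTwo.neg_eq] at h'
  refine ⟨⟨ω, φ, hK, hω', hφ, h2, fun t => ?_, inferInstance⟩⟩
  have e1 : ω + 1 ≠ 0 := fun e => hω.2 (by rwa [CharTwo.add_eq_zero] at e)
  have hs : ({0, 1, ω, ω + 1} : Finset K) = Finset.univ := by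
    refine Finset.eq_univ_of_card _ ?_
    rw [hK]
    refine Finset.card_eq_succ.2 ⟨0, {1, ω, ω + 1}, ?_, rfl, ?_⟩
    · simp [Ne.symm hω.1, Ne.symm e1]
    · refine Finset.card_eq_three.2 ⟨1, ω, ω + 1, Ne.symm hω.2, ?_, ?_, rfl⟩
      · simp [hω.1]
      · simp
  have := (hs ▸ Finset.mem_univ t : t ∈ ({0, 1, ω, ω + 1} : Finset K))
  simpa [val4] using this

variable [Fintype K] (H : FieldData K)

namespace FieldData

/-- The twist. -/
noncomputable abbrev T := e6Twist H.φ

/-- The orbit system. -/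
noncomputable def O := e6Orbits Nat.prime_two.isPrimePow (by rw [H.hK]; rfl) H.φ H.hφ H.h2

/-- The endomorphism on codes. -/
theorem phi_val4 (a : ℕ) : H.φ (val4 H.ω a) = val4 H.ω (mul4 a a) := by
  haveI := H.char_two
  rw [H.hφ, val4_mul H.ω H.hω, sq]

include H in
theorem G_eq : twistedE6 K 2 = H.T.fixedGroup := H.O.system.eq_fixedGroup

include H in
theorem mem_group (r : ℕ) (t : K) : xg checked_E6 r t ∈ chevE6.group K := by
  unfold xg
  split_ifs with hr
  · exact checked_E6.xGL_mem_group hr t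
  · exact one_mem _

theorem sig_xg {r : ℕ} (hr : r < 72) (t : K) :
    H.T.sig (xg checked_E6 r t) = xg checked_E6 (e6Graph.root r) (H.φ t) := by
  haveI := H.char_two
  have hr' : r < chevE6.nroots := hr
  have hs : (e6Graph.sign r : K) = 1 := by
    have := List.all_eq_true.1 signs_odd r (List.mem_range.2 hr)
    have h2 : ((e6Graph.sign r - 1 : ℤ) : K) = 0 := natCast_even (by have := of_decide_eq_true this; omega)
    rwa [Int.cast_sub, Int.cast_one, sub_eq_zero] at h2
  have hlt : e6Graph.root r < chevE6.nroots := (GraphData.rootEquiv e6Graph_facts ⟨r, hr'⟩).2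
  unfold xg
  rw [dif_pos hr', dif_pos hlt]
  refine (H.T.sig_x hr' t).trans (Units.ext ?_)
  show chevE6.x K (e6Graph.root r) ((e6Graph.sign r : K) * H.φ t) = _
  rw [hs, one_mul]
  rfl

/-- The word of a generator is fixed. -/
theorem genOK_mem {w : W4} (h : genOK w = true) : valW H.ω w ∈ twistedE6 K 2 := by
  haveI := H.char_two
  rw [H.G_eq]
  match w, h with
  | [], _ => exact one_mem _
  | [(r, c)], h =>
    simp only [genOK, Bool.and_eq_true, Nat.blt_eq, natBeq_iff, Bool.or_eq_true] at h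
    obtain ⟨⟨hr, hroot⟩, hc⟩ := h
    rw [valW_cons, show valW H.ω ([] : W4) = 1 from rfl, mul_one, Twisted.Core.Twist.mem_fixedGroup]
    refine ⟨H.mem_group _ _, ?_⟩
    show H.T.sig (xg checked_E6 r (val4 H.ω c)) = xg checked_E6 r (val4 H.ω c)
    rw [H.sig_xg hr, hroot, H.phi_val4]
    rcases hc with rfl | rfl <;> simp [mul4]
  | [(r, c), (s, d)], h =>
    simp only [genOK, Bool.and_eq_true, Nat.blt_eq, natBeq_iff] at h
    obtain ⟨⟨⟨⟨⟨hr, hroot⟩, hroot'⟩, hd⟩, hc⟩, hsw⟩ := h
    have hs : s < 72 := by rw [← hroot]; exact (GraphData.rootEquiv e6Graph_facts ⟨r, hr⟩).2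
    have e := valW_of_sameW H.ω H.hω hsw
    simp only [valW_cons, show valW H.ω ([] : W4) = 1 from rfl, mul_one] at e ⊢
    rw [Twisted.Core.Twist.mem_fixedGroup]
    refine ⟨mul_mem (H.mem_group _ _) (H.mem_group _ _), ?_⟩
    rw [H.T.sig_mul (H.mem_group _ _) (H.mem_group _ _), H.sig_xg hr, H.sig_xg hs, hroot, hroot', H.phi_val4,
      H.phi_val4, ← hd, ← hc]
    exact e.symm

theorem gl_mem (n : ℕ) : valW H.ω (genTab.getD n []) ∈ twistedE6 K 2 := by
  refine H.genOK_mem ?_
  by_cases hn : n < genTab.length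
  · rw [List.getD_eq_getElem _ _ hn]
    exact List.all_eq_true.1 genOK_all _ (List.getElem_mem hn)
  · rw [List.getD_eq_default _ _ (not_lt.1 hn)]
    rfl

/-- The generators. -/
noncomputable def x (n : ℕ) : ↥(twistedE6 K 2) := ⟨valW H.ω (genTab.getD n []), H.gl_mem n⟩

theorem coe_prodT (l : List ℕ) :
    ((Schur.prodT H.x l : ↥(twistedE6 K 2)) : GL chevE6.Idx K) = valW H.ω (wordOf l) := by
  induction l with
  | nil => rfl
  | cons n l ih =>
    rw [Schur.prodT_cons, Subgroup.coe_mul, ih]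
    simp only [wordOf, List.flatMap_cons, valW_append]
    rfl

theorem prodT_eq {u v : List ℕ} (h : sameW (wordOf u) (wordOf v) = true) :
    Schur.prodT H.x u = Schur.prodT H.x v := by
  haveI := H.char_two
  refine Subtype.ext ?_
  rw [H.coe_prodT, H.coe_prodT]
  exact valW_of_sameW H.ω H.hω h

end FieldData

end Cfsg.Agent.Lib.Compute.E6Two
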