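import Cfsg.Agent.Lib.Compute.Schur.Cert

/-! Generators and relation words of `²E₆(2)` inside `E₆(4)`. -/

set_option autoImplicit false
set_option maxRecDepth 100000

namespace Cfsg.Agent.Lib.Compute.E6Two

/-- The generators: products of root elements `(r, c)` with `c = 1, 2, 3` for `1, ω, ω + 1`, where `ω` is a root of
`ω ^ 2 + ω + 1 = 0`; a pair is `x_r(c) x_{r'}(c ^ 2)`. -/
def genTab : List (List (ℕ × ℕ)) :=
  [[(0, 1)],
   [(1, 1)],
   [(2, 1)],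
   [(3, 1), (5, 1)],
   [(3, 2), (5, 3)],
   [(4, 1), (16, 1)],
   [(4, 2), (16, 3)],
   [(6, 1)],
   [(7, 1), (17, 1)],
   [(7, 2), (17, 3)],
   [(8, 1)],
   [(9, 1), (19, 1)],
   [(9, 2), (19, 3)],
   [(10, 1), (22, 1)],
   [(10, 2), (22, 3)],
   [(11, 1)],
   [(12, 1), (26, 1)],
   [(12, 2), (26, 3)],
   [(13, 1), (30, 1)],
   [(13, 2), (30, 3)],
   [(14, 1), (33, 1)],
   [(14, 2), (33, 3)],
   [(15, 1), (35, 1)],
   [(15, 2), (35, 3)],
   [(18, 1)],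
   [(20, 1)],
   [(21, 1), (23, 1)],
   [(21, 2), (23, 3)],
   [(24, 1)],
   [(25, 1)],
   [(27, 1)],
   [(28, 1), (31, 1)],
   [(28, 2), (31, 3)],
   [(29, 1), (34, 1)],
   [(29, 2), (34, 3)],
   [(32, 1)],
   [(36, 1), (56, 1)],
   [(36, 2), (56, 3)],
   [(37, 1), (42, 1)],
   [(37, 2), (42, 3)],
   [(38, 1), (57, 1)],
   [(38, 2), (57, 3)],
   [(39, 1)],
   [(40, 1), (43, 1)],
   [(40, 2), (43, 3)],
   [(41, 1), (58, 1)],
   [(41, 2), (58, 3)],
   [(44, 1)],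
   [(45, 1), (59, 1)],
   [(45, 2), (59, 3)],
   [(46, 1)],
   [(47, 1)],
   [(48, 1), (50, 1)],
   [(48, 2), (50, 3)],
   [(49, 1), (61, 1)],
   [(49, 2), (61, 3)],
   [(51, 1)],
   [(52, 1), (62, 1)],
   [(52, 2), (62, 3)],
   [(53, 1)],
   [(54, 1), (64, 1)],
   [(54, 2), (64, 3)],
   [(55, 1), (67, 1)],
   [(55, 2), (67, 3)],
   [(60, 1)],
   [(63, 1)],
   [(65, 1)],
   [(66, 1), (68, 1)],
   [(66, 2), (68, 3)],
   [(69, 1)],
   [(70, 1)],
   [(71, 1)]]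

/-- The positive generators. -/
def posGens : List ℕ := [36, 37, 38, 39, 40, 41, 42, 43, 44, 45, 46, 47, 48, 49, 50, 51, 52, 53, 54, 55, 56, 57, 58, 59, 60, 61, 62, 63, 64, 65, 66, 67, 68, 69, 70, 71]

/-- Representatives of the four simple reflections and of two torus elements, as words. -/
def repTab : List (List ℕ) :=
  [[50, 29, 50],
   [42, 35, 42],
   [38, 33, 38],
   [36, 22, 36],
   [38, 39, 33, 34, 38, 39, 38, 33, 38],
   [36, 37, 22, 23, 36, 37, 36, 22, 36]]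

/-- Positive generators staying positive under the representatives. -/
def stayTab : List (List ℕ) :=
  [[36, 37, 38, 39, 40, 41, 42, 43, 44, 45, 46, 47, 48, 49, 51, 52, 53, 54, 55, 56, 57, 58, 59, 60, 61, 62, 63, 64, 65, 66, 67, 68, 69, 70, 71],
   [36, 37, 38, 39, 40, 41, 43, 44, 45, 46, 47, 48, 49, 50, 51, 52, 53, 54, 55, 56, 57, 58, 59, 60, 61, 62, 63, 64, 65, 66, 67, 68, 69, 70, 71],
   [36, 37, 40, 41, 42, 43, 44, 45, 46, 47, 48, 49, 50, 51, 52, 53, 54, 55, 56, 57, 58, 59, 60, 61, 62, 63, 64, 65, 66, 67, 68, 69, 70, 71],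
   [38, 39, 40, 41, 42, 43, 44, 45, 46, 47, 48, 49, 50, 51, 52, 53, 54, 55, 56, 57, 58, 59, 60, 61, 62, 63, 64, 65, 66, 67, 68, 69, 70, 71],
   [36, 37, 38, 39, 40, 41, 42, 43, 44, 45, 46, 47, 48, 49, 50, 51, 52, 53, 54, 55, 56, 57, 58, 59, 60, 61, 62, 63, 64, 65, 66, 67, 68, 69, 70, 71],
   [36, 37, 38, 39, 40, 41, 42, 43, 44, 45, 46, 47, 48, 49, 50, 51, 52, 53, 54, 55, 56, 57, 58, 59, 60, 61, 62, 63, 64, 65, 66, 67, 68, 69, 70, 71]]

/-- Relations, part 0. -/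
def varTab0 : List (List ℕ × List ℕ) :=
  [([40, 40], []),
   ([41, 41], []),
   ([41, 40], [40, 41]),
   ([50, 50], []),
   ([50, 40], [40, 50]),
   ([50, 41], [41, 50]),
   ([42, 42], []),
   ([42, 40], [40, 42, 45, 64]),
   ([42, 41], [41, 42, 46, 64]),
   ([42, 50], [50, 42, 51]),
   ([45, 45], []),
   ([45, 40], [40, 45]),
   ([45, 41], [41, 45, 64]),
   ([45, 50], [50, 45, 54, 66]),
   ([45, 42], [42, 45]),
   ([46, 46], []),
   ([46, 40], [40, 46, 64]),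
   ([46, 41], [41, 46]),
   ([46, 50], [50, 46, 55, 66]),
   ([46, 42], [42, 46]),
   ([46, 45], [45, 46]),
   ([64, 64], []),
   ([64, 40], [40, 64]),
   ([64, 41], [41, 64]),
   ([64, 50], [50, 64, 65]),
   ([64, 42], [42, 64]),
   ([64, 45], [45, 64]),
   ([64, 46], [46, 64]),
   ([22, 22], []),
   ([22, 40], [40, 22, 38]),
   ([22, 41], [41, 22, 39]),
   ([22, 50], [50, 22]),
   ([22, 42], [42, 22]),
   ([22, 45], [45, 22, 43]),
   ([22, 46], [46, 22, 44]),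
   ([22, 64], [64, 22, 48, 47]),
   ([23, 23], []),
   ([23, 40], [40, 23, 38, 39]),
   ([23, 41], [41, 23, 38]),
   ([23, 50], [50, 23]),
   ([23, 42], [42, 23]),
   ([23, 45], [45, 23, 43, 44]),
   ([23, 46], [46, 23, 43]),
   ([23, 64], [64, 23, 49, 47]),
   ([23, 22], [22, 23]),
   ([38, 38], []),
   ([38, 40], [40, 38]),
   ([38, 41], [41, 38]),
   ([38, 50], [50, 38]),
   ([38, 42], [42, 38, 43, 47]),
   ([38, 45], [45, 38, 48]),
   ([38, 46], [46, 38, 49]),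
   ([38, 64], [64, 38]),
   ([38, 22], [22, 38]),
   ([38, 23], [23, 38]),
   ([39, 39], []),
   ([39, 40], [40, 39]),
   ([39, 41], [41, 39]),
   ([39, 50], [50, 39]),
   ([39, 42], [42, 39, 44, 47]),
   ([39, 45], [45, 39, 48, 49]),
   ([39, 46], [46, 39, 48]),
   ([39, 64], [64, 39]),
   ([39, 22], [22, 39])]

/-- Relations, part 1. -/
def varTab1 : List (List ℕ × List ℕ) :=
  [([39, 23], [23, 39]),
   ([39, 38], [38, 39]),
   ([51, 51], []),
   ([51, 40], [40, 51, 54, 65]),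
   ([51, 41], [41, 51, 55, 65]),
   ([51, 50], [50, 51]),
   ([51, 42], [42, 51]),
   ([51, 45], [45, 51]),
   ([51, 46], [46, 51]),
   ([51, 64], [64, 51, 66]),
   ([51, 22], [22, 51]),
   ([51, 23], [23, 51]),
   ([51, 38], [38, 51, 52, 56]),
   ([51, 39], [39, 51, 53, 56]),
   ([54, 54], []),
   ([54, 40], [40, 54]),
   ([54, 41], [41, 54, 65]),
   ([54, 50], [50, 54]),
   ([54, 42], [42, 54]),
   ([54, 45], [45, 54]),
   ([54, 46], [46, 54, 66]),
   ([54, 64], [64, 54]),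
   ([54, 22], [22, 54, 52]),
   ([54, 23], [23, 54, 52, 53]),
   ([54, 38], [38, 54, 57]),
   ([54, 39], [39, 54, 57, 58]),
   ([54, 51], [51, 54]),
   ([55, 55], []),
   ([55, 40], [40, 55, 65]),
   ([55, 41], [41, 55]),
   ([55, 50], [50, 55]),
   ([55, 42], [42, 55]),
   ([55, 45], [45, 55, 66]),
   ([55, 46], [46, 55]),
   ([55, 64], [64, 55]),
   ([55, 22], [22, 55, 53]),
   ([55, 23], [23, 55, 52]),
   ([55, 38], [38, 55, 58]),
   ([55, 39], [39, 55, 57]),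
   ([55, 51], [51, 55]),
   ([55, 54], [54, 55]),
   ([65, 65], []),
   ([65, 40], [40, 65]),
   ([65, 41], [41, 65]),
   ([65, 50], [50, 65]),
   ([65, 42], [42, 65, 66]),
   ([65, 45], [45, 65]),
   ([65, 46], [46, 65]),
   ([65, 64], [64, 65]),
   ([65, 22], [22, 65, 57, 56]),
   ([65, 23], [23, 65, 58, 56]),
   ([65, 38], [38, 65]),
   ([65, 39], [39, 65]),
   ([65, 51], [51, 65]),
   ([65, 54], [54, 65]),
   ([65, 55], [55, 65]),
   ([43, 43], []),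
   ([43, 40], [40, 43, 48]),
   ([43, 41], [41, 43, 49]),
   ([43, 50], [50, 43, 52, 59]),
   ([43, 42], [42, 43]),
   ([43, 45], [45, 43]),
   ([43, 46], [46, 43]),
   ([43, 64], [64, 43])]

/-- Relations, part 2. -/
def varTab2 : List (List ℕ × List ℕ) :=
  [([43, 22], [22, 43]),
   ([43, 23], [23, 43]),
   ([43, 38], [38, 43]),
   ([43, 39], [39, 43, 47]),
   ([43, 51], [51, 43]),
   ([43, 54], [54, 43, 60]),
   ([43, 55], [55, 43, 61]),
   ([43, 65], [65, 43, 67, 70]),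
   ([44, 44], []),
   ([44, 40], [40, 44, 48, 49]),
   ([44, 41], [41, 44, 48]),
   ([44, 50], [50, 44, 53, 59]),
   ([44, 42], [42, 44]),
   ([44, 45], [45, 44]),
   ([44, 46], [46, 44]),
   ([44, 64], [64, 44]),
   ([44, 22], [22, 44]),
   ([44, 23], [23, 44]),
   ([44, 38], [38, 44, 47]),
   ([44, 39], [39, 44]),
   ([44, 51], [51, 44]),
   ([44, 54], [54, 44, 60, 61]),
   ([44, 55], [55, 44, 60]),
   ([44, 65], [65, 44, 68, 70]),
   ([44, 43], [43, 44]),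
   ([48, 48], []),
   ([48, 40], [40, 48]),
   ([48, 41], [41, 48]),
   ([48, 50], [50, 48, 57, 69]),
   ([48, 42], [42, 48]),
   ([48, 45], [45, 48]),
   ([48, 46], [46, 48]),
   ([48, 64], [64, 48]),
   ([48, 22], [22, 48]),
   ([48, 23], [23, 48, 47]),
   ([48, 38], [38, 48]),
   ([48, 39], [39, 48]),
   ([48, 51], [51, 48, 60, 70]),
   ([48, 54], [54, 48, 67]),
   ([48, 55], [55, 48, 68]),
   ([48, 65], [65, 48]),
   ([48, 43], [43, 48]),
   ([48, 44], [44, 48]),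
   ([49, 49], []),
   ([49, 40], [40, 49]),
   ([49, 41], [41, 49]),
   ([49, 50], [50, 49, 58, 69]),
   ([49, 42], [42, 49]),
   ([49, 45], [45, 49]),
   ([49, 46], [46, 49]),
   ([49, 64], [64, 49]),
   ([49, 22], [22, 49, 47]),
   ([49, 23], [23, 49]),
   ([49, 38], [38, 49]),
   ([49, 39], [39, 49]),
   ([49, 51], [51, 49, 61, 70]),
   ([49, 54], [54, 49, 67, 68]),
   ([49, 55], [55, 49, 67]),
   ([49, 65], [65, 49]),
   ([49, 43], [43, 49]),
   ([49, 44], [44, 49]),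
   ([49, 48], [48, 49]),
   ([66, 66], []),
   ([66, 40], [40, 66])]

/-- Relations, part 3. -/
def varTab3 : List (List ℕ × List ℕ) :=
  [([66, 41], [41, 66]),
   ([66, 50], [50, 66]),
   ([66, 42], [42, 66]),
   ([66, 45], [45, 66]),
   ([66, 46], [46, 66]),
   ([66, 64], [64, 66]),
   ([66, 22], [22, 66, 60, 59]),
   ([66, 23], [23, 66, 61, 59]),
   ([66, 38], [38, 66, 67, 69]),
   ([66, 39], [39, 66, 68, 69]),
   ([66, 51], [51, 66]),
   ([66, 54], [54, 66]),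
   ([66, 55], [55, 66]),
   ([66, 65], [65, 66]),
   ([66, 43], [43, 66]),
   ([66, 44], [44, 66]),
   ([66, 48], [48, 66]),
   ([66, 49], [49, 66]),
   ([52, 52], []),
   ([52, 40], [40, 52, 57]),
   ([52, 41], [41, 52, 58]),
   ([52, 50], [50, 52]),
   ([52, 42], [42, 52]),
   ([52, 45], [45, 52, 60]),
   ([52, 46], [46, 52, 61]),
   ([52, 64], [64, 52, 67, 71]),
   ([52, 22], [22, 52]),
   ([52, 23], [23, 52]),
   ([52, 38], [38, 52]),
   ([52, 39], [39, 52, 56]),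
   ([52, 51], [51, 52]),
   ([52, 54], [54, 52]),
   ([52, 55], [55, 52]),
   ([52, 65], [65, 52]),
   ([52, 43], [43, 52]),
   ([52, 44], [44, 52, 59]),
   ([52, 48], [48, 52, 62]),
   ([52, 49], [49, 52, 63]),
   ([52, 66], [66, 52]),
   ([53, 53], []),
   ([53, 40], [40, 53, 57, 58]),
   ([53, 41], [41, 53, 57]),
   ([53, 50], [50, 53]),
   ([53, 42], [42, 53]),
   ([53, 45], [45, 53, 60, 61]),
   ([53, 46], [46, 53, 60]),
   ([53, 64], [64, 53, 68, 71]),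
   ([53, 22], [22, 53]),
   ([53, 23], [23, 53]),
   ([53, 38], [38, 53, 56]),
   ([53, 39], [39, 53]),
   ([53, 51], [51, 53]),
   ([53, 54], [54, 53]),
   ([53, 55], [55, 53]),
   ([53, 65], [65, 53]),
   ([53, 43], [43, 53, 59]),
   ([53, 44], [44, 53]),
   ([53, 48], [48, 53, 63]),
   ([53, 49], [49, 53, 62, 63]),
   ([53, 66], [66, 53]),
   ([53, 52], [52, 53]),
   ([57, 57], []),
   ([57, 40], [40, 57]),
   ([57, 41], [41, 57])]

/-- Relations, part 4. -/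
def varTab4 : List (List ℕ × List ℕ) :=
  [([57, 50], [50, 57]),
   ([57, 42], [42, 57, 60, 71]),
   ([57, 45], [45, 57, 67]),
   ([57, 46], [46, 57, 68]),
   ([57, 64], [64, 57]),
   ([57, 22], [22, 57]),
   ([57, 23], [23, 57, 56]),
   ([57, 38], [38, 57]),
   ([57, 39], [39, 57]),
   ([57, 51], [51, 57]),
   ([57, 54], [54, 57]),
   ([57, 55], [55, 57]),
   ([57, 65], [65, 57]),
   ([57, 43], [43, 57, 62]),
   ([57, 44], [44, 57, 63]),
   ([57, 48], [48, 57]),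
   ([57, 49], [49, 57, 69]),
   ([57, 66], [66, 57]),
   ([57, 52], [52, 57]),
   ([57, 53], [53, 57]),
   ([58, 58], []),
   ([58, 40], [40, 58]),
   ([58, 41], [41, 58]),
   ([58, 50], [50, 58]),
   ([58, 42], [42, 58, 61, 71]),
   ([58, 45], [45, 58, 67, 68]),
   ([58, 46], [46, 58, 67]),
   ([58, 64], [64, 58]),
   ([58, 22], [22, 58, 56]),
   ([58, 23], [23, 58]),
   ([58, 38], [38, 58]),
   ([58, 39], [39, 58]),
   ([58, 51], [51, 58]),
   ([58, 54], [54, 58]),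
   ([58, 55], [55, 58]),
   ([58, 65], [65, 58]),
   ([58, 43], [43, 58, 63]),
   ([58, 44], [44, 58, 62, 63]),
   ([58, 48], [48, 58, 69]),
   ([58, 49], [49, 58]),
   ([58, 66], [66, 58]),
   ([58, 52], [52, 58]),
   ([58, 53], [53, 58]),
   ([58, 57], [57, 58]),
   ([47, 47], []),
   ([47, 40], [40, 47]),
   ([47, 41], [41, 47]),
   ([47, 50], [50, 47, 56]),
   ([47, 42], [42, 47]),
   ([47, 45], [45, 47]),
   ([47, 46], [46, 47]),
   ([47, 64], [64, 47]),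
   ([47, 22], [22, 47]),
   ([47, 23], [23, 47]),
   ([47, 38], [38, 47]),
   ([47, 39], [39, 47]),
   ([47, 51], [51, 47, 59]),
   ([47, 54], [54, 47, 62, 71]),
   ([47, 55], [55, 47, 63, 71]),
   ([47, 65], [65, 47, 69]),
   ([47, 43], [43, 47]),
   ([47, 44], [44, 47]),
   ([47, 48], [48, 47]),
   ([47, 49], [49, 47])]

/-- Relations, part 5. -/
def varTab5 : List (List ℕ × List ℕ) :=
  [([47, 66], [66, 47, 70]),
   ([47, 52], [52, 47]),
   ([47, 53], [53, 47]),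
   ([47, 57], [57, 47]),
   ([47, 58], [58, 47]),
   ([60, 60], []),
   ([60, 40], [40, 60, 67]),
   ([60, 41], [41, 60, 68]),
   ([60, 50], [50, 60]),
   ([60, 42], [42, 60]),
   ([60, 45], [45, 60]),
   ([60, 46], [46, 60]),
   ([60, 64], [64, 60]),
   ([60, 22], [22, 60]),
   ([60, 23], [23, 60, 59]),
   ([60, 38], [38, 60, 62]),
   ([60, 39], [39, 60, 63]),
   ([60, 51], [51, 60]),
   ([60, 54], [54, 60]),
   ([60, 55], [55, 60]),
   ([60, 65], [65, 60]),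
   ([60, 43], [43, 60]),
   ([60, 44], [44, 60]),
   ([60, 48], [48, 60]),
   ([60, 49], [49, 60, 70]),
   ([60, 66], [66, 60]),
   ([60, 52], [52, 60]),
   ([60, 53], [53, 60]),
   ([60, 57], [57, 60]),
   ([60, 58], [58, 60, 71]),
   ([60, 47], [47, 60]),
   ([61, 61], []),
   ([61, 40], [40, 61, 67, 68]),
   ([61, 41], [41, 61, 67]),
   ([61, 50], [50, 61]),
   ([61, 42], [42, 61]),
   ([61, 45], [45, 61]),
   ([61, 46], [46, 61]),
   ([61, 64], [64, 61]),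
   ([61, 22], [22, 61, 59]),
   ([61, 23], [23, 61]),
   ([61, 38], [38, 61, 63]),
   ([61, 39], [39, 61, 62, 63]),
   ([61, 51], [51, 61]),
   ([61, 54], [54, 61]),
   ([61, 55], [55, 61]),
   ([61, 65], [65, 61]),
   ([61, 43], [43, 61]),
   ([61, 44], [44, 61]),
   ([61, 48], [48, 61, 70]),
   ([61, 49], [49, 61]),
   ([61, 66], [66, 61]),
   ([61, 52], [52, 61]),
   ([61, 53], [53, 61]),
   ([61, 57], [57, 61, 71]),
   ([61, 58], [58, 61]),
   ([61, 47], [47, 61]),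
   ([61, 60], [60, 61]),
   ([67, 67], []),
   ([67, 40], [40, 67]),
   ([67, 41], [41, 67]),
   ([67, 50], [50, 67]),
   ([67, 42], [42, 67]),
   ([67, 45], [45, 67])]

/-- Relations, part 6. -/
def varTab6 : List (List ℕ × List ℕ) :=
  [([67, 46], [46, 67]),
   ([67, 64], [64, 67]),
   ([67, 22], [22, 67, 62]),
   ([67, 23], [23, 67, 63]),
   ([67, 38], [38, 67]),
   ([67, 39], [39, 67, 69]),
   ([67, 51], [51, 67]),
   ([67, 54], [54, 67]),
   ([67, 55], [55, 67]),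
   ([67, 65], [65, 67]),
   ([67, 43], [43, 67]),
   ([67, 44], [44, 67, 70]),
   ([67, 48], [48, 67]),
   ([67, 49], [49, 67]),
   ([67, 66], [66, 67]),
   ([67, 52], [52, 67]),
   ([67, 53], [53, 67, 71]),
   ([67, 57], [57, 67]),
   ([67, 58], [58, 67]),
   ([67, 47], [47, 67]),
   ([67, 60], [60, 67]),
   ([67, 61], [61, 67]),
   ([68, 68], []),
   ([68, 40], [40, 68]),
   ([68, 41], [41, 68]),
   ([68, 50], [50, 68]),
   ([68, 42], [42, 68]),
   ([68, 45], [45, 68]),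
   ([68, 46], [46, 68]),
   ([68, 64], [64, 68]),
   ([68, 22], [22, 68, 63]),
   ([68, 23], [23, 68, 62, 63]),
   ([68, 38], [38, 68, 69]),
   ([68, 39], [39, 68]),
   ([68, 51], [51, 68]),
   ([68, 54], [54, 68]),
   ([68, 55], [55, 68]),
   ([68, 65], [65, 68]),
   ([68, 43], [43, 68, 70]),
   ([68, 44], [44, 68]),
   ([68, 48], [48, 68]),
   ([68, 49], [49, 68]),
   ([68, 66], [66, 68]),
   ([68, 52], [52, 68, 71]),
   ([68, 53], [53, 68]),
   ([68, 57], [57, 68]),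
   ([68, 58], [58, 68]),
   ([68, 47], [47, 68]),
   ([68, 60], [60, 68]),
   ([68, 61], [61, 68]),
   ([68, 67], [67, 68]),
   ([56, 56], []),
   ([56, 40], [40, 56]),
   ([56, 41], [41, 56]),
   ([56, 50], [50, 56]),
   ([56, 42], [42, 56, 59]),
   ([56, 45], [45, 56, 62, 70]),
   ([56, 46], [46, 56, 63, 70]),
   ([56, 64], [64, 56, 69]),
   ([56, 22], [22, 56]),
   ([56, 23], [23, 56]),
   ([56, 38], [38, 56]),
   ([56, 39], [39, 56]),
   ([56, 51], [51, 56])]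

/-- Relations, part 7. -/
def varTab7 : List (List ℕ × List ℕ) :=
  [([56, 54], [54, 56]),
   ([56, 55], [55, 56]),
   ([56, 65], [65, 56]),
   ([56, 43], [43, 56]),
   ([56, 44], [44, 56]),
   ([56, 48], [48, 56]),
   ([56, 49], [49, 56]),
   ([56, 66], [66, 56, 71]),
   ([56, 52], [52, 56]),
   ([56, 53], [53, 56]),
   ([56, 57], [57, 56]),
   ([56, 58], [58, 56]),
   ([56, 47], [47, 56]),
   ([56, 60], [60, 56]),
   ([56, 61], [61, 56]),
   ([56, 67], [67, 56]),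
   ([56, 68], [68, 56]),
   ([59, 59], []),
   ([59, 40], [40, 59, 62, 69]),
   ([59, 41], [41, 59, 63, 69]),
   ([59, 50], [50, 59]),
   ([59, 42], [42, 59]),
   ([59, 45], [45, 59]),
   ([59, 46], [46, 59]),
   ([59, 64], [64, 59, 70]),
   ([59, 22], [22, 59]),
   ([59, 23], [23, 59]),
   ([59, 38], [38, 59]),
   ([59, 39], [39, 59]),
   ([59, 51], [51, 59]),
   ([59, 54], [54, 59]),
   ([59, 55], [55, 59]),
   ([59, 65], [65, 59, 71]),
   ([59, 43], [43, 59]),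
   ([59, 44], [44, 59]),
   ([59, 48], [48, 59]),
   ([59, 49], [49, 59]),
   ([59, 66], [66, 59]),
   ([59, 52], [52, 59]),
   ([59, 53], [53, 59]),
   ([59, 57], [57, 59]),
   ([59, 58], [58, 59]),
   ([59, 47], [47, 59]),
   ([59, 60], [60, 59]),
   ([59, 61], [61, 59]),
   ([59, 67], [67, 59]),
   ([59, 68], [68, 59]),
   ([59, 56], [56, 59]),
   ([62, 62], []),
   ([62, 40], [40, 62]),
   ([62, 41], [41, 62, 69]),
   ([62, 50], [50, 62]),
   ([62, 42], [42, 62]),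
   ([62, 45], [45, 62]),
   ([62, 46], [46, 62, 70]),
   ([62, 64], [64, 62]),
   ([62, 22], [22, 62]),
   ([62, 23], [23, 62]),
   ([62, 38], [38, 62]),
   ([62, 39], [39, 62]),
   ([62, 51], [51, 62]),
   ([62, 54], [54, 62]),
   ([62, 55], [55, 62, 71]),
   ([62, 65], [65, 62])]

/-- Relations, part 8. -/
def varTab8 : List (List ℕ × List ℕ) :=
  [([62, 43], [43, 62]),
   ([62, 44], [44, 62]),
   ([62, 48], [48, 62]),
   ([62, 49], [49, 62]),
   ([62, 66], [66, 62]),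
   ([62, 52], [52, 62]),
   ([62, 53], [53, 62]),
   ([62, 57], [57, 62]),
   ([62, 58], [58, 62]),
   ([62, 47], [47, 62]),
   ([62, 60], [60, 62]),
   ([62, 61], [61, 62]),
   ([62, 67], [67, 62]),
   ([62, 68], [68, 62]),
   ([62, 56], [56, 62]),
   ([62, 59], [59, 62]),
   ([63, 63], []),
   ([63, 40], [40, 63, 69]),
   ([63, 41], [41, 63]),
   ([63, 50], [50, 63]),
   ([63, 42], [42, 63]),
   ([63, 45], [45, 63, 70]),
   ([63, 46], [46, 63]),
   ([63, 64], [64, 63]),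
   ([63, 22], [22, 63]),
   ([63, 23], [23, 63]),
   ([63, 38], [38, 63]),
   ([63, 39], [39, 63]),
   ([63, 51], [51, 63]),
   ([63, 54], [54, 63, 71]),
   ([63, 55], [55, 63]),
   ([63, 65], [65, 63]),
   ([63, 43], [43, 63]),
   ([63, 44], [44, 63]),
   ([63, 48], [48, 63]),
   ([63, 49], [49, 63]),
   ([63, 66], [66, 63]),
   ([63, 52], [52, 63]),
   ([63, 53], [53, 63]),
   ([63, 57], [57, 63]),
   ([63, 58], [58, 63]),
   ([63, 47], [47, 63]),
   ([63, 60], [60, 63]),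
   ([63, 61], [61, 63]),
   ([63, 67], [67, 63]),
   ([63, 68], [68, 63]),
   ([63, 56], [56, 63]),
   ([63, 59], [59, 63]),
   ([63, 62], [62, 63]),
   ([69, 69], []),
   ([69, 40], [40, 69]),
   ([69, 41], [41, 69]),
   ([69, 50], [50, 69]),
   ([69, 42], [42, 69, 70]),
   ([69, 45], [45, 69]),
   ([69, 46], [46, 69]),
   ([69, 64], [64, 69]),
   ([69, 22], [22, 69]),
   ([69, 23], [23, 69]),
   ([69, 38], [38, 69]),
   ([69, 39], [39, 69]),
   ([69, 51], [51, 69, 71]),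
   ([69, 54], [54, 69]),
   ([69, 55], [55, 69])]

/-- Relations, part 9. -/
def varTab9 : List (List ℕ × List ℕ) :=
  [([69, 65], [65, 69]),
   ([69, 43], [43, 69]),
   ([69, 44], [44, 69]),
   ([69, 48], [48, 69]),
   ([69, 49], [49, 69]),
   ([69, 66], [66, 69]),
   ([69, 52], [52, 69]),
   ([69, 53], [53, 69]),
   ([69, 57], [57, 69]),
   ([69, 58], [58, 69]),
   ([69, 47], [47, 69]),
   ([69, 60], [60, 69]),
   ([69, 61], [61, 69]),
   ([69, 67], [67, 69]),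
   ([69, 68], [68, 69]),
   ([69, 56], [56, 69]),
   ([69, 59], [59, 69]),
   ([69, 62], [62, 69]),
   ([69, 63], [63, 69]),
   ([70, 70], []),
   ([70, 40], [40, 70]),
   ([70, 41], [41, 70]),
   ([70, 50], [50, 70, 71]),
   ([70, 42], [42, 70]),
   ([70, 45], [45, 70]),
   ([70, 46], [46, 70]),
   ([70, 64], [64, 70]),
   ([70, 22], [22, 70]),
   ([70, 23], [23, 70]),
   ([70, 38], [38, 70]),
   ([70, 39], [39, 70]),
   ([70, 51], [51, 70]),
   ([70, 54], [54, 70]),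
   ([70, 55], [55, 70]),
   ([70, 65], [65, 70]),
   ([70, 43], [43, 70]),
   ([70, 44], [44, 70]),
   ([70, 48], [48, 70]),
   ([70, 49], [49, 70]),
   ([70, 66], [66, 70]),
   ([70, 52], [52, 70]),
   ([70, 53], [53, 70]),
   ([70, 57], [57, 70]),
   ([70, 58], [58, 70]),
   ([70, 47], [47, 70]),
   ([70, 60], [60, 70]),
   ([70, 61], [61, 70]),
   ([70, 67], [67, 70]),
   ([70, 68], [68, 70]),
   ([70, 56], [56, 70]),
   ([70, 59], [59, 70]),
   ([70, 62], [62, 70]),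
   ([70, 63], [63, 70]),
   ([70, 69], [69, 70]),
   ([71, 71], []),
   ([71, 40], [40, 71]),
   ([71, 41], [41, 71]),
   ([71, 50], [50, 71]),
   ([71, 42], [42, 71]),
   ([71, 45], [45, 71]),
   ([71, 46], [46, 71]),
   ([71, 64], [64, 71]),
   ([71, 22], [22, 71]),
   ([71, 23], [23, 71])]

/-- Relations, part 10. -/
def varTab10 : List (List ℕ × List ℕ) :=
  [([71, 38], [38, 71]),
   ([71, 39], [39, 71]),
   ([71, 51], [51, 71]),
   ([71, 54], [54, 71]),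
   ([71, 55], [55, 71]),
   ([71, 65], [65, 71]),
   ([71, 43], [43, 71]),
   ([71, 44], [44, 71]),
   ([71, 48], [48, 71]),
   ([71, 49], [49, 71]),
   ([71, 66], [66, 71]),
   ([71, 52], [52, 71]),
   ([71, 53], [53, 71]),
   ([71, 57], [57, 71]),
   ([71, 58], [58, 71]),
   ([71, 47], [47, 71]),
   ([71, 60], [60, 71]),
   ([71, 61], [61, 71]),
   ([71, 67], [67, 71]),
   ([71, 68], [68, 71]),
   ([71, 56], [56, 71]),
   ([71, 59], [59, 71]),
   ([71, 62], [62, 71]),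
   ([71, 63], [63, 71]),
   ([71, 69], [69, 71]),
   ([71, 70], [70, 71]),
   ([33, 33], []),
   ([33, 40], [40, 33, 36]),
   ([33, 41], [41, 33, 37]),
   ([34, 34], []),
   ([34, 40], [40, 34, 36, 37]),
   ([34, 41], [41, 34, 36]),
   ([34, 33], [33, 34]),
   ([36, 36], []),
   ([36, 40], [40, 36]),
   ([36, 41], [41, 36]),
   ([36, 33], [33, 36]),
   ([36, 34], [34, 36]),
   ([37, 37], []),
   ([37, 40], [40, 37]),
   ([37, 41], [41, 37]),
   ([37, 33], [33, 37]),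
   ([37, 34], [34, 37]),
   ([37, 36], [36, 37]),
   ([15, 15], []),
   ([15, 40], [40, 15, 18, 35]),
   ([15, 41], [41, 15, 19, 35]),
   ([15, 33], [33, 15]),
   ([15, 34], [34, 15]),
   ([15, 36], [36, 15, 16, 30]),
   ([15, 37], [37, 15, 17, 30]),
   ([18, 18], []),
   ([18, 40], [40, 18]),
   ([18, 41], [41, 18, 35]),
   ([18, 33], [33, 18, 16]),
   ([18, 34], [34, 18, 16, 17]),
   ([18, 36], [36, 18, 31]),
   ([18, 37], [37, 18, 31, 32]),
   ([18, 15], [15, 18]),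
   ([19, 19], []),
   ([19, 40], [40, 19, 35]),
   ([19, 41], [41, 19]),
   ([19, 33], [33, 19, 17]),
   ([19, 34], [34, 19, 16])]

/-- Relations, part 11. -/
def varTab11 : List (List ℕ × List ℕ) :=
  [([19, 36], [36, 19, 32]),
   ([19, 37], [37, 19, 31]),
   ([19, 15], [15, 19]),
   ([19, 18], [18, 19]),
   ([35, 35], []),
   ([35, 40], [40, 35]),
   ([35, 41], [41, 35]),
   ([35, 33], [33, 35, 31, 30]),
   ([35, 34], [34, 35, 32, 30]),
   ([35, 36], [36, 35]),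
   ([35, 37], [37, 35]),
   ([35, 15], [15, 35]),
   ([35, 18], [18, 35]),
   ([35, 19], [19, 35]),
   ([29, 29], []),
   ([29, 40], [40, 29]),
   ([29, 41], [41, 29]),
   ([29, 33], [33, 29]),
   ([29, 34], [34, 29]),
   ([29, 36], [36, 29]),
   ([29, 37], [37, 29]),
   ([29, 15], [15, 29, 10]),
   ([29, 18], [18, 29, 13, 7]),
   ([29, 19], [19, 29, 14, 7]),
   ([29, 35], [35, 29, 28]),
   ([16, 16], []),
   ([16, 40], [40, 16, 31]),
   ([16, 41], [41, 16, 32]),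
   ([16, 33], [33, 16]),
   ([16, 34], [34, 16]),
   ([16, 36], [36, 16]),
   ([16, 37], [37, 16, 30]),
   ([16, 15], [15, 16]),
   ([16, 18], [18, 16]),
   ([16, 19], [19, 16]),
   ([16, 35], [35, 16]),
   ([16, 29], [29, 16, 11, 2]),
   ([17, 17], []),
   ([17, 40], [40, 17, 31, 32]),
   ([17, 41], [41, 17, 31]),
   ([17, 33], [33, 17]),
   ([17, 34], [34, 17]),
   ([17, 36], [36, 17, 30]),
   ([17, 37], [37, 17]),
   ([17, 15], [15, 17]),
   ([17, 18], [18, 17]),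
   ([17, 19], [19, 17]),
   ([17, 35], [35, 17]),
   ([17, 29], [29, 17, 12, 2]),
   ([17, 16], [16, 17]),
   ([31, 31], []),
   ([31, 40], [40, 31]),
   ([31, 41], [41, 31]),
   ([31, 33], [33, 31]),
   ([31, 34], [34, 31, 30]),
   ([31, 36], [36, 31]),
   ([31, 37], [37, 31]),
   ([31, 15], [15, 31]),
   ([31, 18], [18, 31]),
   ([31, 19], [19, 31]),
   ([31, 35], [35, 31]),
   ([31, 29], [29, 31, 26, 24]),
   ([31, 16], [16, 31]),
   ([31, 17], [17, 31])]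

/-- Relations, part 12. -/
def varTab12 : List (List ℕ × List ℕ) :=
  [([32, 32], []),
   ([32, 40], [40, 32]),
   ([32, 41], [41, 32]),
   ([32, 33], [33, 32, 30]),
   ([32, 34], [34, 32]),
   ([32, 36], [36, 32]),
   ([32, 37], [37, 32]),
   ([32, 15], [15, 32]),
   ([32, 18], [18, 32]),
   ([32, 19], [19, 32]),
   ([32, 35], [35, 32]),
   ([32, 29], [29, 32, 27, 24]),
   ([32, 16], [16, 32]),
   ([32, 17], [17, 32]),
   ([32, 31], [31, 32]),
   ([10, 10], []),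
   ([10, 40], [40, 10, 13, 28]),
   ([10, 41], [41, 10, 14, 28]),
   ([10, 33], [33, 10]),
   ([10, 34], [34, 10]),
   ([10, 36], [36, 10, 11, 25]),
   ([10, 37], [37, 10, 12, 25]),
   ([10, 15], [15, 10]),
   ([10, 18], [18, 10]),
   ([10, 19], [19, 10]),
   ([10, 35], [35, 10, 7]),
   ([10, 29], [29, 10]),
   ([10, 16], [16, 10]),
   ([10, 17], [17, 10]),
   ([10, 31], [31, 10, 3, 1]),
   ([10, 32], [32, 10, 4, 1]),
   ([13, 13], []),
   ([13, 40], [40, 13]),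
   ([13, 41], [41, 13, 28]),
   ([13, 33], [33, 13, 11]),
   ([13, 34], [34, 13, 11, 12]),
   ([13, 36], [36, 13, 26]),
   ([13, 37], [37, 13, 26, 27]),
   ([13, 15], [15, 13]),
   ([13, 18], [18, 13]),
   ([13, 19], [19, 13, 7]),
   ([13, 35], [35, 13]),
   ([13, 29], [29, 13]),
   ([13, 16], [16, 13, 3]),
   ([13, 17], [17, 13, 3, 4]),
   ([13, 31], [31, 13, 8]),
   ([13, 32], [32, 13, 8, 9]),
   ([13, 10], [10, 13]),
   ([14, 14], []),
   ([14, 40], [40, 14, 28]),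
   ([14, 41], [41, 14]),
   ([14, 33], [33, 14, 12]),
   ([14, 34], [34, 14, 11]),
   ([14, 36], [36, 14, 27]),
   ([14, 37], [37, 14, 26]),
   ([14, 15], [15, 14]),
   ([14, 18], [18, 14, 7]),
   ([14, 19], [19, 14]),
   ([14, 35], [35, 14]),
   ([14, 29], [29, 14]),
   ([14, 16], [16, 14, 4]),
   ([14, 17], [17, 14, 3]),
   ([14, 31], [31, 14, 9]),
   ([14, 32], [32, 14, 8])]

/-- Relations, part 13. -/
def varTab13 : List (List ℕ × List ℕ) :=
  [([14, 10], [10, 14]),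
   ([14, 13], [13, 14]),
   ([28, 28], []),
   ([28, 40], [40, 28]),
   ([28, 41], [41, 28]),
   ([28, 33], [33, 28, 26, 25]),
   ([28, 34], [34, 28, 27, 25]),
   ([28, 36], [36, 28]),
   ([28, 37], [37, 28]),
   ([28, 15], [15, 28, 7]),
   ([28, 18], [18, 28]),
   ([28, 19], [19, 28]),
   ([28, 35], [35, 28]),
   ([28, 29], [29, 28]),
   ([28, 16], [16, 28, 8, 1]),
   ([28, 17], [17, 28, 9, 1]),
   ([28, 31], [31, 28]),
   ([28, 32], [32, 28]),
   ([28, 10], [10, 28]),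
   ([28, 13], [13, 28]),
   ([28, 14], [14, 28]),
   ([30, 30], []),
   ([30, 40], [40, 30]),
   ([30, 41], [41, 30]),
   ([30, 33], [33, 30]),
   ([30, 34], [34, 30]),
   ([30, 36], [36, 30]),
   ([30, 37], [37, 30]),
   ([30, 15], [15, 30]),
   ([30, 18], [18, 30]),
   ([30, 19], [19, 30]),
   ([30, 35], [35, 30]),
   ([30, 29], [29, 30, 25]),
   ([30, 16], [16, 30]),
   ([30, 17], [17, 30]),
   ([30, 31], [31, 30]),
   ([30, 32], [32, 30]),
   ([30, 10], [10, 30, 2]),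
   ([30, 13], [13, 30, 5, 0]),
   ([30, 14], [14, 30, 6, 0]),
   ([30, 28], [28, 30, 24]),
   ([11, 11], []),
   ([11, 40], [40, 11, 26]),
   ([11, 41], [41, 11, 27]),
   ([11, 33], [33, 11]),
   ([11, 34], [34, 11]),
   ([11, 36], [36, 11]),
   ([11, 37], [37, 11, 25]),
   ([11, 15], [15, 11]),
   ([11, 18], [18, 11, 3]),
   ([11, 19], [19, 11, 4]),
   ([11, 35], [35, 11, 8, 0]),
   ([11, 29], [29, 11]),
   ([11, 16], [16, 11]),
   ([11, 17], [17, 11, 2]),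
   ([11, 31], [31, 11, 5]),
   ([11, 32], [32, 11, 6]),
   ([11, 10], [10, 11]),
   ([11, 13], [13, 11]),
   ([11, 14], [14, 11]),
   ([11, 28], [28, 11]),
   ([11, 30], [30, 11]),
   ([12, 12], []),
   ([12, 40], [40, 12, 26, 27])]

/-- Relations, part 14. -/
def varTab14 : List (List ℕ × List ℕ) :=
  [([12, 41], [41, 12, 26]),
   ([12, 33], [33, 12]),
   ([12, 34], [34, 12]),
   ([12, 36], [36, 12, 25]),
   ([12, 37], [37, 12]),
   ([12, 15], [15, 12]),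
   ([12, 18], [18, 12, 3, 4]),
   ([12, 19], [19, 12, 3]),
   ([12, 35], [35, 12, 9, 0]),
   ([12, 29], [29, 12]),
   ([12, 16], [16, 12, 2]),
   ([12, 17], [17, 12]),
   ([12, 31], [31, 12, 6]),
   ([12, 32], [32, 12, 5, 6]),
   ([12, 10], [10, 12]),
   ([12, 13], [13, 12]),
   ([12, 14], [14, 12]),
   ([12, 28], [28, 12]),
   ([12, 30], [30, 12]),
   ([12, 11], [11, 12]),
   ([26, 26], []),
   ([26, 40], [40, 26]),
   ([26, 41], [41, 26]),
   ([26, 33], [33, 26]),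
   ([26, 34], [34, 26, 25]),
   ([26, 36], [36, 26]),
   ([26, 37], [37, 26]),
   ([26, 15], [15, 26, 3, 0]),
   ([26, 18], [18, 26, 8]),
   ([26, 19], [19, 26, 9]),
   ([26, 35], [35, 26]),
   ([26, 29], [29, 26]),
   ([26, 16], [16, 26, 5]),
   ([26, 17], [17, 26, 6]),
   ([26, 31], [31, 26]),
   ([26, 32], [32, 26, 24]),
   ([26, 10], [10, 26]),
   ([26, 13], [13, 26]),
   ([26, 14], [14, 26]),
   ([26, 28], [28, 26]),
   ([26, 30], [30, 26]),
   ([26, 11], [11, 26]),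
   ([26, 12], [12, 26]),
   ([27, 27], []),
   ([27, 40], [40, 27]),
   ([27, 41], [41, 27]),
   ([27, 33], [33, 27, 25]),
   ([27, 34], [34, 27]),
   ([27, 36], [36, 27]),
   ([27, 37], [37, 27]),
   ([27, 15], [15, 27, 4, 0]),
   ([27, 18], [18, 27, 8, 9]),
   ([27, 19], [19, 27, 8]),
   ([27, 35], [35, 27]),
   ([27, 29], [29, 27]),
   ([27, 16], [16, 27, 6]),
   ([27, 17], [17, 27, 5, 6]),
   ([27, 31], [31, 27, 24]),
   ([27, 32], [32, 27]),
   ([27, 10], [10, 27]),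
   ([27, 13], [13, 27]),
   ([27, 14], [14, 27]),
   ([27, 28], [28, 27]),
   ([27, 30], [30, 27])]

/-- Relations, part 15. -/
def varTab15 : List (List ℕ × List ℕ) :=
  [([27, 11], [11, 27]),
   ([27, 12], [12, 27]),
   ([27, 26], [26, 27]),
   ([7, 7], []),
   ([7, 40], [40, 7]),
   ([7, 41], [41, 7]),
   ([7, 33], [33, 7, 3, 2]),
   ([7, 34], [34, 7, 4, 2]),
   ([7, 36], [36, 7, 8, 24]),
   ([7, 37], [37, 7, 9, 24]),
   ([7, 15], [15, 7]),
   ([7, 18], [18, 7]),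
   ([7, 19], [19, 7]),
   ([7, 35], [35, 7]),
   ([7, 29], [29, 7]),
   ([7, 16], [16, 7]),
   ([7, 17], [17, 7]),
   ([7, 31], [31, 7]),
   ([7, 32], [32, 7]),
   ([7, 10], [10, 7]),
   ([7, 13], [13, 7]),
   ([7, 14], [14, 7]),
   ([7, 28], [28, 7]),
   ([7, 30], [30, 7, 1]),
   ([7, 11], [11, 7]),
   ([7, 12], [12, 7]),
   ([7, 26], [26, 7]),
   ([7, 27], [27, 7]),
   ([25, 25], []),
   ([25, 40], [40, 25]),
   ([25, 41], [41, 25]),
   ([25, 33], [33, 25]),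
   ([25, 34], [34, 25]),
   ([25, 36], [36, 25]),
   ([25, 37], [37, 25]),
   ([25, 15], [15, 25, 2]),
   ([25, 18], [18, 25, 5, 1]),
   ([25, 19], [19, 25, 6, 1]),
   ([25, 35], [35, 25, 24]),
   ([25, 29], [29, 25]),
   ([25, 16], [16, 25]),
   ([25, 17], [17, 25]),
   ([25, 31], [31, 25]),
   ([25, 32], [32, 25]),
   ([25, 10], [10, 25]),
   ([25, 13], [13, 25]),
   ([25, 14], [14, 25]),
   ([25, 28], [28, 25]),
   ([25, 30], [30, 25]),
   ([25, 11], [11, 25]),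
   ([25, 12], [12, 25]),
   ([25, 26], [26, 25]),
   ([25, 27], [27, 25]),
   ([25, 7], [7, 25, 0]),
   ([3, 3], []),
   ([3, 40], [40, 3, 8]),
   ([3, 41], [41, 3, 9]),
   ([3, 33], [33, 3]),
   ([3, 34], [34, 3, 2]),
   ([3, 36], [36, 3, 5]),
   ([3, 37], [37, 3, 6]),
   ([3, 15], [15, 3]),
   ([3, 18], [18, 3]),
   ([3, 19], [19, 3])]

/-- Relations, part 16. -/
def varTab16 : List (List ℕ × List ℕ) :=
  [([3, 35], [35, 3]),
   ([3, 29], [29, 3]),
   ([3, 16], [16, 3]),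
   ([3, 17], [17, 3]),
   ([3, 31], [31, 3]),
   ([3, 32], [32, 3, 1]),
   ([3, 10], [10, 3]),
   ([3, 13], [13, 3]),
   ([3, 14], [14, 3]),
   ([3, 28], [28, 3]),
   ([3, 30], [30, 3]),
   ([3, 11], [11, 3]),
   ([3, 12], [12, 3]),
   ([3, 26], [26, 3]),
   ([3, 27], [27, 3, 0]),
   ([3, 7], [7, 3]),
   ([3, 25], [25, 3]),
   ([4, 4], []),
   ([4, 40], [40, 4, 8, 9]),
   ([4, 41], [41, 4, 8]),
   ([4, 33], [33, 4, 2]),
   ([4, 34], [34, 4]),
   ([4, 36], [36, 4, 6]),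
   ([4, 37], [37, 4, 5, 6]),
   ([4, 15], [15, 4]),
   ([4, 18], [18, 4]),
   ([4, 19], [19, 4]),
   ([4, 35], [35, 4]),
   ([4, 29], [29, 4]),
   ([4, 16], [16, 4]),
   ([4, 17], [17, 4]),
   ([4, 31], [31, 4, 1]),
   ([4, 32], [32, 4]),
   ([4, 10], [10, 4]),
   ([4, 13], [13, 4]),
   ([4, 14], [14, 4]),
   ([4, 28], [28, 4]),
   ([4, 30], [30, 4]),
   ([4, 11], [11, 4]),
   ([4, 12], [12, 4]),
   ([4, 26], [26, 4, 0]),
   ([4, 27], [27, 4]),
   ([4, 7], [7, 4]),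
   ([4, 25], [25, 4]),
   ([4, 3], [3, 4]),
   ([8, 8], []),
   ([8, 40], [40, 8]),
   ([8, 41], [41, 8]),
   ([8, 33], [33, 8, 5]),
   ([8, 34], [34, 8, 6]),
   ([8, 36], [36, 8]),
   ([8, 37], [37, 8, 24]),
   ([8, 15], [15, 8]),
   ([8, 18], [18, 8]),
   ([8, 19], [19, 8]),
   ([8, 35], [35, 8]),
   ([8, 29], [29, 8]),
   ([8, 16], [16, 8]),
   ([8, 17], [17, 8, 1]),
   ([8, 31], [31, 8]),
   ([8, 32], [32, 8]),
   ([8, 10], [10, 8]),
   ([8, 13], [13, 8]),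
   ([8, 14], [14, 8])]

/-- Relations, part 17. -/
def varTab17 : List (List ℕ × List ℕ) :=
  [([8, 28], [28, 8]),
   ([8, 30], [30, 8]),
   ([8, 11], [11, 8]),
   ([8, 12], [12, 8, 0]),
   ([8, 26], [26, 8]),
   ([8, 27], [27, 8]),
   ([8, 7], [7, 8]),
   ([8, 25], [25, 8]),
   ([8, 3], [3, 8]),
   ([8, 4], [4, 8]),
   ([9, 9], []),
   ([9, 40], [40, 9]),
   ([9, 41], [41, 9]),
   ([9, 33], [33, 9, 6]),
   ([9, 34], [34, 9, 5, 6]),
   ([9, 36], [36, 9, 24]),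
   ([9, 37], [37, 9]),
   ([9, 15], [15, 9]),
   ([9, 18], [18, 9]),
   ([9, 19], [19, 9]),
   ([9, 35], [35, 9]),
   ([9, 29], [29, 9]),
   ([9, 16], [16, 9, 1]),
   ([9, 17], [17, 9]),
   ([9, 31], [31, 9]),
   ([9, 32], [32, 9]),
   ([9, 10], [10, 9]),
   ([9, 13], [13, 9]),
   ([9, 14], [14, 9]),
   ([9, 28], [28, 9]),
   ([9, 30], [30, 9]),
   ([9, 11], [11, 9, 0]),
   ([9, 12], [12, 9]),
   ([9, 26], [26, 9]),
   ([9, 27], [27, 9]),
   ([9, 7], [7, 9]),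
   ([9, 25], [25, 9]),
   ([9, 3], [3, 9]),
   ([9, 4], [4, 9]),
   ([9, 8], [8, 9]),
   ([2, 2], []),
   ([2, 40], [40, 2, 5, 24]),
   ([2, 41], [41, 2, 6, 24]),
   ([2, 33], [33, 2]),
   ([2, 34], [34, 2]),
   ([2, 36], [36, 2]),
   ([2, 37], [37, 2]),
   ([2, 15], [15, 2]),
   ([2, 18], [18, 2]),
   ([2, 19], [19, 2]),
   ([2, 35], [35, 2, 1]),
   ([2, 29], [29, 2]),
   ([2, 16], [16, 2]),
   ([2, 17], [17, 2]),
   ([2, 31], [31, 2]),
   ([2, 32], [32, 2]),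
   ([2, 10], [10, 2]),
   ([2, 13], [13, 2]),
   ([2, 14], [14, 2]),
   ([2, 28], [28, 2, 0]),
   ([2, 30], [30, 2]),
   ([2, 11], [11, 2]),
   ([2, 12], [12, 2]),
   ([2, 26], [26, 2])]

/-- Relations, part 18. -/
def varTab18 : List (List ℕ × List ℕ) :=
  [([2, 27], [27, 2]),
   ([2, 7], [7, 2]),
   ([2, 25], [25, 2]),
   ([2, 3], [3, 2]),
   ([2, 4], [4, 2]),
   ([2, 8], [8, 2]),
   ([2, 9], [9, 2]),
   ([5, 5], []),
   ([5, 40], [40, 5]),
   ([5, 41], [41, 5, 24]),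
   ([5, 33], [33, 5]),
   ([5, 34], [34, 5]),
   ([5, 36], [36, 5]),
   ([5, 37], [37, 5]),
   ([5, 15], [15, 5]),
   ([5, 18], [18, 5]),
   ([5, 19], [19, 5, 1]),
   ([5, 35], [35, 5]),
   ([5, 29], [29, 5]),
   ([5, 16], [16, 5]),
   ([5, 17], [17, 5]),
   ([5, 31], [31, 5]),
   ([5, 32], [32, 5]),
   ([5, 10], [10, 5]),
   ([5, 13], [13, 5]),
   ([5, 14], [14, 5, 0]),
   ([5, 28], [28, 5]),
   ([5, 30], [30, 5]),
   ([5, 11], [11, 5]),
   ([5, 12], [12, 5]),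
   ([5, 26], [26, 5]),
   ([5, 27], [27, 5]),
   ([5, 7], [7, 5]),
   ([5, 25], [25, 5]),
   ([5, 3], [3, 5]),
   ([5, 4], [4, 5]),
   ([5, 8], [8, 5]),
   ([5, 9], [9, 5]),
   ([5, 2], [2, 5]),
   ([6, 6], []),
   ([6, 40], [40, 6, 24]),
   ([6, 41], [41, 6]),
   ([6, 33], [33, 6]),
   ([6, 34], [34, 6]),
   ([6, 36], [36, 6]),
   ([6, 37], [37, 6]),
   ([6, 15], [15, 6]),
   ([6, 18], [18, 6, 1]),
   ([6, 19], [19, 6]),
   ([6, 35], [35, 6]),
   ([6, 29], [29, 6]),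
   ([6, 16], [16, 6]),
   ([6, 17], [17, 6]),
   ([6, 31], [31, 6]),
   ([6, 32], [32, 6]),
   ([6, 10], [10, 6]),
   ([6, 13], [13, 6, 0]),
   ([6, 14], [14, 6]),
   ([6, 28], [28, 6]),
   ([6, 30], [30, 6]),
   ([6, 11], [11, 6]),
   ([6, 12], [12, 6]),
   ([6, 26], [26, 6]),
   ([6, 27], [27, 6])]

/-- Relations, part 19. -/
def varTab19 : List (List ℕ × List ℕ) :=
  [([6, 7], [7, 6]),
   ([6, 25], [25, 6]),
   ([6, 3], [3, 6]),
   ([6, 4], [4, 6]),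
   ([6, 8], [8, 6]),
   ([6, 9], [9, 6]),
   ([6, 2], [2, 6]),
   ([6, 5], [5, 6]),
   ([24, 24], []),
   ([24, 40], [40, 24]),
   ([24, 41], [41, 24]),
   ([24, 33], [33, 24]),
   ([24, 34], [34, 24]),
   ([24, 36], [36, 24]),
   ([24, 37], [37, 24]),
   ([24, 15], [15, 24, 1]),
   ([24, 18], [18, 24]),
   ([24, 19], [19, 24]),
   ([24, 35], [35, 24]),
   ([24, 29], [29, 24]),
   ([24, 16], [16, 24]),
   ([24, 17], [17, 24]),
   ([24, 31], [31, 24]),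
   ([24, 32], [32, 24]),
   ([24, 10], [10, 24, 0]),
   ([24, 13], [13, 24]),
   ([24, 14], [14, 24]),
   ([24, 28], [28, 24]),
   ([24, 30], [30, 24]),
   ([24, 11], [11, 24]),
   ([24, 12], [12, 24]),
   ([24, 26], [26, 24]),
   ([24, 27], [27, 24]),
   ([24, 7], [7, 24]),
   ([24, 25], [25, 24]),
   ([24, 3], [3, 24]),
   ([24, 4], [4, 24]),
   ([24, 8], [8, 24]),
   ([24, 9], [9, 24]),
   ([24, 2], [2, 24]),
   ([24, 5], [5, 24]),
   ([24, 6], [6, 24]),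
   ([1, 1], []),
   ([1, 40], [40, 1]),
   ([1, 41], [41, 1]),
   ([1, 33], [33, 1]),
   ([1, 34], [34, 1]),
   ([1, 36], [36, 1]),
   ([1, 37], [37, 1]),
   ([1, 15], [15, 1]),
   ([1, 18], [18, 1]),
   ([1, 19], [19, 1]),
   ([1, 35], [35, 1]),
   ([1, 29], [29, 1, 0]),
   ([1, 16], [16, 1]),
   ([1, 17], [17, 1]),
   ([1, 31], [31, 1]),
   ([1, 32], [32, 1]),
   ([1, 10], [10, 1]),
   ([1, 13], [13, 1]),
   ([1, 14], [14, 1]),
   ([1, 28], [28, 1]),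
   ([1, 30], [30, 1]),
   ([1, 11], [11, 1])]

/-- Relations, part 20. -/
def varTab20 : List (List ℕ × List ℕ) :=
  [([1, 12], [12, 1]),
   ([1, 26], [26, 1]),
   ([1, 27], [27, 1]),
   ([1, 7], [7, 1]),
   ([1, 25], [25, 1]),
   ([1, 3], [3, 1]),
   ([1, 4], [4, 1]),
   ([1, 8], [8, 1]),
   ([1, 9], [9, 1]),
   ([1, 2], [2, 1]),
   ([1, 5], [5, 1]),
   ([1, 6], [6, 1]),
   ([1, 24], [24, 1]),
   ([0, 0], []),
   ([0, 40], [40, 0]),
   ([0, 41], [41, 0]),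
   ([0, 33], [33, 0]),
   ([0, 34], [34, 0]),
   ([0, 36], [36, 0]),
   ([0, 37], [37, 0]),
   ([0, 15], [15, 0]),
   ([0, 18], [18, 0]),
   ([0, 19], [19, 0]),
   ([0, 35], [35, 0]),
   ([0, 29], [29, 0]),
   ([0, 16], [16, 0]),
   ([0, 17], [17, 0]),
   ([0, 31], [31, 0]),
   ([0, 32], [32, 0]),
   ([0, 10], [10, 0]),
   ([0, 13], [13, 0]),
   ([0, 14], [14, 0]),
   ([0, 28], [28, 0]),
   ([0, 30], [30, 0]),
   ([0, 11], [11, 0]),
   ([0, 12], [12, 0]),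
   ([0, 26], [26, 0]),
   ([0, 27], [27, 0]),
   ([0, 7], [7, 0]),
   ([0, 25], [25, 0]),
   ([0, 3], [3, 0]),
   ([0, 4], [4, 0]),
   ([0, 8], [8, 0]),
   ([0, 9], [9, 0]),
   ([0, 2], [2, 0]),
   ([0, 5], [5, 0]),
   ([0, 6], [6, 0]),
   ([0, 24], [24, 0]),
   ([0, 1], [1, 0]),
   ([20, 20], []),
   ([20, 36], [36, 20, 33]),
   ([20, 37], [37, 20, 33, 34]),
   ([20, 35], [35, 20, 18, 15]),
   ([21, 21], []),
   ([21, 36], [36, 21, 34]),
   ([21, 37], [37, 21, 33]),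
   ([21, 35], [35, 21, 19, 15]),
   ([21, 20], [20, 21]),
   ([33, 36], [36, 33]),
   ([33, 37], [37, 33]),
   ([33, 35], [35, 33, 31, 30]),
   ([33, 20], [20, 33]),
   ([33, 21], [21, 33]),
   ([34, 36], [36, 34])]

/-- Relations, part 21. -/
def varTab21 : List (List ℕ × List ℕ) :=
  [([34, 37], [37, 34]),
   ([34, 35], [35, 34, 32, 30]),
   ([34, 20], [20, 34]),
   ([34, 21], [21, 34]),
   ([18, 35], [35, 18]),
   ([18, 20], [20, 18]),
   ([18, 21], [21, 18, 15]),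
   ([19, 35], [35, 19]),
   ([19, 20], [20, 19, 15]),
   ([19, 21], [21, 19]),
   ([31, 20], [20, 31, 16]),
   ([31, 21], [21, 31, 17]),
   ([32, 20], [20, 32, 16, 17]),
   ([32, 21], [21, 32, 16]),
   ([15, 35], [35, 15]),
   ([15, 20], [20, 15]),
   ([15, 21], [21, 15]),
   ([15, 18], [18, 15]),
   ([15, 19], [19, 15]),
   ([15, 31], [31, 15]),
   ([15, 32], [32, 15]),
   ([16, 20], [20, 16]),
   ([16, 21], [21, 16]),
   ([16, 31], [31, 16]),
   ([16, 32], [32, 16]),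
   ([17, 20], [20, 17]),
   ([17, 21], [21, 17]),
   ([17, 31], [31, 17]),
   ([17, 32], [32, 17]),
   ([70, 36], [36, 70]),
   ([70, 37], [37, 70]),
   ([70, 35], [35, 70, 69]),
   ([70, 20], [20, 70]),
   ([70, 21], [21, 70]),
   ([70, 33], [33, 70]),
   ([70, 34], [34, 70]),
   ([70, 18], [18, 70, 62, 56]),
   ([70, 19], [19, 70, 63, 56]),
   ([70, 31], [31, 70, 67, 65]),
   ([70, 32], [32, 70, 68, 65]),
   ([70, 15], [15, 70, 59]),
   ([70, 16], [16, 70, 60, 51]),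
   ([70, 17], [17, 70, 61, 51]),
   ([30, 20], [20, 30]),
   ([30, 21], [21, 30]),
   ([30, 70], [70, 30, 66]),
   ([69, 36], [36, 69]),
   ([69, 37], [37, 69]),
   ([69, 35], [35, 69]),
   ([69, 20], [20, 69, 62, 59]),
   ([69, 21], [21, 69, 63, 59]),
   ([69, 33], [33, 69, 67, 66]),
   ([69, 34], [34, 69, 68, 66]),
   ([69, 18], [18, 69]),
   ([69, 19], [19, 69]),
   ([69, 31], [31, 69]),
   ([69, 32], [32, 69]),
   ([69, 15], [15, 69, 56]),
   ([69, 16], [16, 69, 57, 50]),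
   ([69, 17], [17, 69, 58, 50]),
   ([69, 70], [70, 69]),
   ([69, 30], [30, 69, 65]),
   ([62, 36], [36, 62, 67]),
   ([62, 37], [37, 62, 67, 68])]

/-- Relations, part 22. -/
def varTab22 : List (List ℕ × List ℕ) :=
  [([62, 35], [35, 62]),
   ([62, 20], [20, 62]),
   ([62, 21], [21, 62, 59]),
   ([62, 33], [33, 62, 60]),
   ([62, 34], [34, 62, 60, 61]),
   ([62, 18], [18, 62]),
   ([62, 19], [19, 62, 56]),
   ([62, 31], [31, 62, 57]),
   ([62, 32], [32, 62, 57, 58]),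
   ([62, 15], [15, 62]),
   ([62, 16], [16, 62, 52]),
   ([62, 17], [17, 62, 52, 53]),
   ([62, 70], [70, 62]),
   ([62, 30], [30, 62, 54, 71]),
   ([62, 69], [69, 62]),
   ([63, 36], [36, 63, 68]),
   ([63, 37], [37, 63, 67]),
   ([63, 35], [35, 63]),
   ([63, 20], [20, 63, 59]),
   ([63, 21], [21, 63]),
   ([63, 33], [33, 63, 61]),
   ([63, 34], [34, 63, 60]),
   ([63, 18], [18, 63, 56]),
   ([63, 19], [19, 63]),
   ([63, 31], [31, 63, 58]),
   ([63, 32], [32, 63, 57]),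
   ([63, 15], [15, 63]),
   ([63, 16], [16, 63, 53]),
   ([63, 17], [17, 63, 52]),
   ([63, 70], [70, 63]),
   ([63, 30], [30, 63, 55, 71]),
   ([63, 69], [69, 63]),
   ([67, 36], [36, 67]),
   ([67, 37], [37, 67]),
   ([67, 35], [35, 67]),
   ([67, 20], [20, 67, 60]),
   ([67, 21], [21, 67, 61]),
   ([67, 33], [33, 67]),
   ([67, 34], [34, 67, 66]),
   ([67, 18], [18, 67, 57]),
   ([67, 19], [19, 67, 58]),
   ([67, 31], [31, 67]),
   ([67, 32], [32, 67, 65]),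
   ([67, 15], [15, 67, 52, 71]),
   ([67, 16], [16, 67, 54]),
   ([67, 17], [17, 67, 55]),
   ([67, 70], [70, 67]),
   ([67, 30], [30, 67]),
   ([67, 69], [69, 67]),
   ([67, 62], [62, 67]),
   ([67, 63], [63, 67]),
   ([68, 36], [36, 68]),
   ([68, 37], [37, 68]),
   ([68, 35], [35, 68]),
   ([68, 20], [20, 68, 60, 61]),
   ([68, 21], [21, 68, 60]),
   ([68, 33], [33, 68, 66]),
   ([68, 34], [34, 68]),
   ([68, 18], [18, 68, 57, 58]),
   ([68, 19], [19, 68, 57]),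
   ([68, 31], [31, 68, 65]),
   ([68, 32], [32, 68]),
   ([68, 15], [15, 68, 53, 71]),
   ([68, 16], [16, 68, 55])]

/-- Relations, part 23. -/
def varTab23 : List (List ℕ × List ℕ) :=
  [([68, 17], [17, 68, 54, 55]),
   ([68, 70], [70, 68]),
   ([68, 30], [30, 68]),
   ([68, 69], [69, 68]),
   ([68, 62], [62, 68]),
   ([68, 63], [63, 68]),
   ([59, 36], [36, 59, 60, 66]),
   ([59, 37], [37, 59, 61, 66]),
   ([59, 35], [35, 59, 56]),
   ([59, 20], [20, 59]),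
   ([59, 21], [21, 59]),
   ([59, 33], [33, 59]),
   ([59, 34], [34, 59]),
   ([59, 18], [18, 59]),
   ([59, 19], [19, 59]),
   ([59, 31], [31, 59, 52, 50]),
   ([59, 32], [32, 59, 53, 50]),
   ([59, 15], [15, 59]),
   ([59, 16], [16, 59]),
   ([59, 17], [17, 59]),
   ([59, 70], [70, 59]),
   ([59, 30], [30, 59, 51]),
   ([59, 69], [69, 59]),
   ([59, 62], [62, 59]),
   ([59, 63], [63, 59]),
   ([60, 36], [36, 60]),
   ([60, 37], [37, 60, 66]),
   ([60, 35], [35, 60, 57, 71]),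
   ([60, 20], [20, 60]),
   ([60, 21], [21, 60]),
   ([60, 33], [33, 60]),
   ([60, 34], [34, 60]),
   ([60, 18], [18, 60, 52]),
   ([60, 19], [19, 60, 53]),
   ([60, 31], [31, 60, 54]),
   ([60, 32], [32, 60, 55]),
   ([60, 15], [15, 60]),
   ([60, 16], [16, 60]),
   ([60, 17], [17, 60, 51]),
   ([60, 70], [70, 60]),
   ([60, 30], [30, 60]),
   ([60, 69], [69, 60]),
   ([60, 62], [62, 60]),
   ([60, 63], [63, 60]),
   ([60, 67], [67, 60]),
   ([60, 68], [68, 60]),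
   ([60, 59], [59, 60]),
   ([61, 36], [36, 61, 66]),
   ([61, 37], [37, 61]),
   ([61, 35], [35, 61, 58, 71]),
   ([61, 20], [20, 61]),
   ([61, 21], [21, 61]),
   ([61, 33], [33, 61]),
   ([61, 34], [34, 61]),
   ([61, 18], [18, 61, 52, 53]),
   ([61, 19], [19, 61, 52]),
   ([61, 31], [31, 61, 55]),
   ([61, 32], [32, 61, 54, 55]),
   ([61, 15], [15, 61]),
   ([61, 16], [16, 61, 51]),
   ([61, 17], [17, 61]),
   ([61, 70], [70, 61]),
   ([61, 30], [30, 61]),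
   ([61, 69], [69, 61])]

/-- Relations, part 24. -/
def varTab24 : List (List ℕ × List ℕ) :=
  [([61, 62], [62, 61]),
   ([61, 63], [63, 61]),
   ([61, 67], [67, 61]),
   ([61, 68], [68, 61]),
   ([61, 59], [59, 61]),
   ([66, 36], [36, 66]),
   ([66, 37], [37, 66]),
   ([66, 35], [35, 66, 65]),
   ([66, 20], [20, 66]),
   ([66, 21], [21, 66]),
   ([66, 33], [33, 66]),
   ([66, 34], [34, 66]),
   ([66, 18], [18, 66, 54, 50]),
   ([66, 19], [19, 66, 55, 50]),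
   ([66, 31], [31, 66]),
   ([66, 32], [32, 66]),
   ([66, 15], [15, 66, 51]),
   ([66, 16], [16, 66]),
   ([66, 17], [17, 66]),
   ([66, 70], [70, 66]),
   ([66, 30], [30, 66]),
   ([66, 69], [69, 66]),
   ([66, 62], [62, 66]),
   ([66, 63], [63, 66]),
   ([66, 67], [67, 66]),
   ([66, 68], [68, 66]),
   ([66, 59], [59, 66]),
   ([66, 60], [60, 66]),
   ([66, 61], [61, 66]),
   ([56, 36], [36, 56, 57, 65]),
   ([56, 37], [37, 56, 58, 65]),
   ([56, 35], [35, 56]),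
   ([56, 20], [20, 56]),
   ([56, 21], [21, 56]),
   ([56, 33], [33, 56, 52, 51]),
   ([56, 34], [34, 56, 53, 51]),
   ([56, 18], [18, 56]),
   ([56, 19], [19, 56]),
   ([56, 31], [31, 56]),
   ([56, 32], [32, 56]),
   ([56, 15], [15, 56]),
   ([56, 16], [16, 56]),
   ([56, 17], [17, 56]),
   ([56, 70], [70, 56]),
   ([56, 30], [30, 56, 50]),
   ([56, 69], [69, 56]),
   ([56, 62], [62, 56]),
   ([56, 63], [63, 56]),
   ([56, 59], [59, 56]),
   ([57, 36], [36, 57]),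
   ([57, 37], [37, 57, 65]),
   ([57, 35], [35, 57]),
   ([57, 20], [20, 57, 52]),
   ([57, 21], [21, 57, 53]),
   ([57, 33], [33, 57, 54]),
   ([57, 34], [34, 57, 55]),
   ([57, 18], [18, 57]),
   ([57, 19], [19, 57]),
   ([57, 31], [31, 57]),
   ([57, 32], [32, 57]),
   ([57, 15], [15, 57]),
   ([57, 16], [16, 57]),
   ([57, 17], [17, 57, 50]),
   ([57, 70], [70, 57])]

/-- Relations, part 25. -/
def varTab25 : List (List ℕ × List ℕ) :=
  [([57, 30], [30, 57]),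
   ([57, 69], [69, 57]),
   ([57, 62], [62, 57]),
   ([57, 63], [63, 57]),
   ([57, 67], [67, 57]),
   ([57, 68], [68, 57]),
   ([57, 59], [59, 57]),
   ([57, 60], [60, 57]),
   ([57, 61], [61, 57, 71]),
   ([57, 56], [56, 57]),
   ([58, 36], [36, 58, 65]),
   ([58, 37], [37, 58]),
   ([58, 35], [35, 58]),
   ([58, 20], [20, 58, 52, 53]),
   ([58, 21], [21, 58, 52]),
   ([58, 33], [33, 58, 55]),
   ([58, 34], [34, 58, 54, 55]),
   ([58, 18], [18, 58]),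
   ([58, 19], [19, 58]),
   ([58, 31], [31, 58]),
   ([58, 32], [32, 58]),
   ([58, 15], [15, 58]),
   ([58, 16], [16, 58, 50]),
   ([58, 17], [17, 58]),
   ([58, 70], [70, 58]),
   ([58, 30], [30, 58]),
   ([58, 69], [69, 58]),
   ([58, 62], [62, 58]),
   ([58, 63], [63, 58]),
   ([58, 67], [67, 58]),
   ([58, 68], [68, 58]),
   ([58, 59], [59, 58]),
   ([58, 60], [60, 58, 71]),
   ([58, 61], [61, 58]),
   ([58, 56], [56, 58]),
   ([65, 36], [36, 65]),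
   ([65, 37], [37, 65]),
   ([65, 35], [35, 65]),
   ([65, 20], [20, 65, 54, 51]),
   ([65, 21], [21, 65, 55, 51]),
   ([65, 33], [33, 65]),
   ([65, 34], [34, 65]),
   ([65, 18], [18, 65]),
   ([65, 19], [19, 65]),
   ([65, 31], [31, 65]),
   ([65, 32], [32, 65]),
   ([65, 15], [15, 65, 50]),
   ([65, 16], [16, 65]),
   ([65, 17], [17, 65]),
   ([65, 70], [70, 65]),
   ([65, 30], [30, 65]),
   ([65, 69], [69, 65]),
   ([65, 62], [62, 65]),
   ([65, 63], [63, 65]),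
   ([65, 67], [67, 65]),
   ([65, 68], [68, 65]),
   ([65, 59], [59, 65, 71]),
   ([65, 60], [60, 65]),
   ([65, 61], [61, 65]),
   ([65, 66], [66, 65]),
   ([65, 56], [56, 65]),
   ([65, 57], [57, 65]),
   ([65, 58], [58, 65]),
   ([52, 36], [36, 52, 54])]

/-- Relations, part 26. -/
def varTab26 : List (List ℕ × List ℕ) :=
  [([52, 37], [37, 52, 55]),
   ([52, 35], [35, 52]),
   ([52, 20], [20, 52]),
   ([52, 21], [21, 52]),
   ([52, 33], [33, 52]),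
   ([52, 34], [34, 52, 51]),
   ([52, 18], [18, 52]),
   ([52, 19], [19, 52]),
   ([52, 31], [31, 52]),
   ([52, 32], [32, 52, 50]),
   ([52, 15], [15, 52]),
   ([52, 16], [16, 52]),
   ([52, 17], [17, 52]),
   ([52, 70], [70, 52]),
   ([52, 30], [30, 52]),
   ([52, 69], [69, 52]),
   ([52, 62], [62, 52]),
   ([52, 63], [63, 52]),
   ([52, 67], [67, 52]),
   ([52, 68], [68, 52, 71]),
   ([52, 59], [59, 52]),
   ([52, 60], [60, 52]),
   ([52, 61], [61, 52]),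
   ([52, 56], [56, 52]),
   ([52, 57], [57, 52]),
   ([52, 58], [58, 52]),
   ([53, 36], [36, 53, 55]),
   ([53, 37], [37, 53, 54, 55]),
   ([53, 35], [35, 53]),
   ([53, 20], [20, 53]),
   ([53, 21], [21, 53]),
   ([53, 33], [33, 53, 51]),
   ([53, 34], [34, 53]),
   ([53, 18], [18, 53]),
   ([53, 19], [19, 53]),
   ([53, 31], [31, 53, 50]),
   ([53, 32], [32, 53]),
   ([53, 15], [15, 53]),
   ([53, 16], [16, 53]),
   ([53, 17], [17, 53]),
   ([53, 70], [70, 53]),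
   ([53, 30], [30, 53]),
   ([53, 69], [69, 53]),
   ([53, 62], [62, 53]),
   ([53, 63], [63, 53]),
   ([53, 67], [67, 53, 71]),
   ([53, 68], [68, 53]),
   ([53, 59], [59, 53]),
   ([53, 60], [60, 53]),
   ([53, 61], [61, 53]),
   ([53, 56], [56, 53]),
   ([53, 57], [57, 53]),
   ([53, 58], [58, 53]),
   ([54, 36], [36, 54]),
   ([54, 37], [37, 54]),
   ([54, 35], [35, 54]),
   ([54, 20], [20, 54]),
   ([54, 21], [21, 54, 51]),
   ([54, 33], [33, 54]),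
   ([54, 34], [34, 54]),
   ([54, 18], [18, 54]),
   ([54, 19], [19, 54, 50]),
   ([54, 31], [31, 54]),
   ([54, 32], [32, 54])]

/-- Relations, part 27. -/
def varTab27 : List (List ℕ × List ℕ) :=
  [([54, 15], [15, 54]),
   ([54, 16], [16, 54]),
   ([54, 17], [17, 54]),
   ([54, 70], [70, 54]),
   ([54, 30], [30, 54]),
   ([54, 69], [69, 54]),
   ([54, 62], [62, 54]),
   ([54, 63], [63, 54, 71]),
   ([54, 67], [67, 54]),
   ([54, 68], [68, 54]),
   ([54, 59], [59, 54]),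
   ([54, 60], [60, 54]),
   ([54, 61], [61, 54]),
   ([54, 66], [66, 54]),
   ([54, 56], [56, 54]),
   ([54, 57], [57, 54]),
   ([54, 58], [58, 54]),
   ([54, 65], [65, 54]),
   ([54, 52], [52, 54]),
   ([54, 53], [53, 54]),
   ([55, 36], [36, 55]),
   ([55, 37], [37, 55]),
   ([55, 35], [35, 55]),
   ([55, 20], [20, 55, 51]),
   ([55, 21], [21, 55]),
   ([55, 33], [33, 55]),
   ([55, 34], [34, 55]),
   ([55, 18], [18, 55, 50]),
   ([55, 19], [19, 55]),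
   ([55, 31], [31, 55]),
   ([55, 32], [32, 55]),
   ([55, 15], [15, 55]),
   ([55, 16], [16, 55]),
   ([55, 17], [17, 55]),
   ([55, 70], [70, 55]),
   ([55, 30], [30, 55]),
   ([55, 69], [69, 55]),
   ([55, 62], [62, 55, 71]),
   ([55, 63], [63, 55]),
   ([55, 67], [67, 55]),
   ([55, 68], [68, 55]),
   ([55, 59], [59, 55]),
   ([55, 60], [60, 55]),
   ([55, 61], [61, 55]),
   ([55, 66], [66, 55]),
   ([55, 56], [56, 55]),
   ([55, 57], [57, 55]),
   ([55, 58], [58, 55]),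
   ([55, 65], [65, 55]),
   ([55, 52], [52, 55]),
   ([55, 53], [53, 55]),
   ([51, 36], [36, 51]),
   ([51, 37], [37, 51]),
   ([51, 35], [35, 51, 50]),
   ([51, 20], [20, 51]),
   ([51, 21], [21, 51]),
   ([51, 33], [33, 51]),
   ([51, 34], [34, 51]),
   ([51, 18], [18, 51]),
   ([51, 19], [19, 51]),
   ([51, 31], [31, 51]),
   ([51, 32], [32, 51]),
   ([51, 15], [15, 51]),
   ([51, 16], [16, 51])]

/-- Relations, part 28. -/
def varTab28 : List (List ℕ × List ℕ) :=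
  [([51, 17], [17, 51]),
   ([51, 70], [70, 51]),
   ([51, 30], [30, 51]),
   ([51, 69], [69, 51, 71]),
   ([51, 62], [62, 51]),
   ([51, 63], [63, 51]),
   ([51, 67], [67, 51]),
   ([51, 68], [68, 51]),
   ([51, 59], [59, 51]),
   ([51, 60], [60, 51]),
   ([51, 61], [61, 51]),
   ([51, 66], [66, 51]),
   ([51, 56], [56, 51]),
   ([51, 57], [57, 51]),
   ([51, 58], [58, 51]),
   ([51, 65], [65, 51]),
   ([51, 52], [52, 51]),
   ([51, 53], [53, 51]),
   ([51, 54], [54, 51]),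
   ([51, 55], [55, 51]),
   ([50, 36], [36, 50]),
   ([50, 37], [37, 50]),
   ([50, 35], [35, 50]),
   ([50, 20], [20, 50]),
   ([50, 21], [21, 50]),
   ([50, 33], [33, 50]),
   ([50, 34], [34, 50]),
   ([50, 18], [18, 50]),
   ([50, 19], [19, 50]),
   ([50, 31], [31, 50]),
   ([50, 32], [32, 50]),
   ([50, 15], [15, 50]),
   ([50, 16], [16, 50]),
   ([50, 17], [17, 50]),
   ([50, 70], [70, 50, 71]),
   ([50, 30], [30, 50]),
   ([50, 69], [69, 50]),
   ([50, 62], [62, 50]),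
   ([50, 63], [63, 50]),
   ([50, 67], [67, 50]),
   ([50, 68], [68, 50]),
   ([50, 59], [59, 50]),
   ([50, 60], [60, 50]),
   ([50, 61], [61, 50]),
   ([50, 66], [66, 50]),
   ([50, 56], [56, 50]),
   ([50, 57], [57, 50]),
   ([50, 58], [58, 50]),
   ([50, 65], [65, 50]),
   ([50, 52], [52, 50]),
   ([50, 53], [53, 50]),
   ([50, 54], [54, 50]),
   ([50, 55], [55, 50]),
   ([50, 51], [51, 50]),
   ([71, 36], [36, 71]),
   ([71, 37], [37, 71]),
   ([71, 35], [35, 71]),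
   ([71, 20], [20, 71]),
   ([71, 21], [21, 71]),
   ([71, 33], [33, 71]),
   ([71, 34], [34, 71]),
   ([71, 18], [18, 71]),
   ([71, 19], [19, 71]),
   ([71, 31], [31, 71])]

/-- Relations, part 29. -/
def varTab29 : List (List ℕ × List ℕ) :=
  [([71, 32], [32, 71]),
   ([71, 15], [15, 71]),
   ([71, 16], [16, 71]),
   ([71, 17], [17, 71]),
   ([71, 30], [30, 71]),
   ([24, 43], [43, 24, 26, 29]),
   ([24, 44], [44, 24, 27, 29]),
   ([54, 43], [43, 54, 60]),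
   ([54, 44], [44, 54, 60, 61]),
   ([54, 24], [24, 54]),
   ([55, 43], [43, 55, 61]),
   ([55, 44], [44, 55, 60]),
   ([55, 24], [24, 55]),
   ([26, 43], [43, 26]),
   ([26, 44], [44, 26, 29]),
   ([26, 24], [24, 26]),
   ([26, 54], [54, 26, 36]),
   ([26, 55], [55, 26, 37]),
   ([27, 43], [43, 27, 29]),
   ([27, 44], [44, 27]),
   ([27, 24], [24, 27]),
   ([27, 54], [54, 27, 36, 37]),
   ([27, 55], [55, 27, 36]),
   ([60, 24], [24, 60, 36, 66]),
   ([60, 26], [26, 60, 45]),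
   ([60, 27], [27, 60, 46]),
   ([61, 24], [24, 61, 37, 66]),
   ([61, 26], [26, 61, 46]),
   ([61, 27], [27, 61, 45, 46]),
   ([29, 43], [43, 29]),
   ([29, 44], [44, 29]),
   ([29, 24], [24, 29]),
   ([29, 54], [54, 29, 45, 66]),
   ([29, 55], [55, 29, 46, 66]),
   ([29, 26], [26, 29]),
   ([29, 27], [27, 29]),
   ([29, 60], [60, 29]),
   ([29, 61], [61, 29]),
   ([36, 43], [43, 36, 45]),
   ([36, 44], [44, 36, 46]),
   ([36, 24], [24, 36]),
   ([36, 54], [54, 36]),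
   ([36, 55], [55, 36]),
   ([36, 26], [26, 36]),
   ([36, 27], [27, 36]),
   ([36, 60], [60, 36]),
   ([36, 61], [61, 36, 66]),
   ([36, 29], [29, 36]),
   ([37, 43], [43, 37, 46]),
   ([37, 44], [44, 37, 45, 46]),
   ([37, 24], [24, 37]),
   ([37, 54], [54, 37]),
   ([37, 55], [55, 37]),
   ([37, 26], [26, 37]),
   ([37, 27], [27, 37]),
   ([37, 60], [60, 37, 66]),
   ([37, 61], [61, 37]),
   ([37, 29], [29, 37]),
   ([45, 43], [43, 45]),
   ([45, 44], [44, 45]),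
   ([45, 24], [24, 45]),
   ([45, 54], [54, 45]),
   ([45, 55], [55, 45, 66]),
   ([45, 26], [26, 45])]

/-- Relations, part 30. -/
def varTab30 : List (List ℕ × List ℕ) :=
  [([45, 27], [27, 45]),
   ([45, 60], [60, 45]),
   ([45, 61], [61, 45]),
   ([45, 29], [29, 45]),
   ([45, 36], [36, 45]),
   ([45, 37], [37, 45]),
   ([46, 43], [43, 46]),
   ([46, 44], [44, 46]),
   ([46, 24], [24, 46]),
   ([46, 54], [54, 46, 66]),
   ([46, 55], [55, 46]),
   ([46, 26], [26, 46]),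
   ([46, 27], [27, 46]),
   ([46, 60], [60, 46]),
   ([46, 61], [61, 46]),
   ([46, 29], [29, 46]),
   ([46, 36], [36, 46]),
   ([46, 37], [37, 46]),
   ([56, 24], [24, 56, 35]),
   ([56, 26], [26, 56, 38, 28]),
   ([56, 27], [27, 56, 39, 28]),
   ([56, 29], [29, 56, 47]),
   ([66, 24], [24, 66]),
   ([66, 26], [26, 66]),
   ([66, 27], [27, 66]),
   ([66, 29], [29, 66]),
   ([66, 56], [56, 66, 71]),
   ([35, 43], [43, 35, 38, 47]),
   ([35, 44], [44, 35, 39, 47]),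
   ([35, 24], [24, 35]),
   ([35, 54], [54, 35]),
   ([35, 55], [55, 35]),
   ([35, 26], [26, 35]),
   ([35, 27], [27, 35]),
   ([35, 60], [60, 35, 57, 71]),
   ([35, 61], [61, 35, 58, 71]),
   ([35, 29], [29, 35, 28]),
   ([35, 45], [45, 35, 40, 64]),
   ([35, 46], [46, 35, 41, 64]),
   ([35, 56], [56, 35]),
   ([35, 66], [66, 35, 65]),
   ([38, 43], [43, 38]),
   ([38, 44], [44, 38, 47]),
   ([38, 24], [24, 38]),
   ([38, 54], [54, 38, 57]),
   ([38, 55], [55, 38, 58]),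
   ([38, 26], [26, 38]),
   ([38, 27], [27, 38, 28]),
   ([38, 60], [60, 38, 62]),
   ([38, 61], [61, 38, 63]),
   ([38, 29], [29, 38]),
   ([38, 36], [36, 38, 40]),
   ([38, 37], [37, 38, 41]),
   ([38, 56], [56, 38]),
   ([38, 66], [66, 38, 67, 69]),
   ([38, 35], [35, 38]),
   ([39, 43], [43, 39, 47]),
   ([39, 44], [44, 39]),
   ([39, 24], [24, 39]),
   ([39, 54], [54, 39, 57, 58]),
   ([39, 55], [55, 39, 57]),
   ([39, 26], [26, 39, 28]),
   ([39, 27], [27, 39]),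
   ([39, 60], [60, 39, 63])]

/-- Relations, part 31. -/
def varTab31 : List (List ℕ × List ℕ) :=
  [([39, 61], [61, 39, 62, 63]),
   ([39, 29], [29, 39]),
   ([39, 36], [36, 39, 41]),
   ([39, 37], [37, 39, 40, 41]),
   ([39, 56], [56, 39]),
   ([39, 66], [66, 39, 68, 69]),
   ([39, 35], [35, 39]),
   ([47, 24], [24, 47, 28]),
   ([47, 26], [26, 47]),
   ([47, 27], [27, 47]),
   ([47, 60], [60, 47]),
   ([47, 61], [61, 47]),
   ([47, 29], [29, 47]),
   ([47, 36], [36, 47, 48, 64]),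
   ([47, 37], [37, 47, 49, 64]),
   ([47, 56], [56, 47]),
   ([47, 35], [35, 47]),
   ([57, 24], [24, 57]),
   ([57, 26], [26, 57, 40]),
   ([57, 27], [27, 57, 41]),
   ([57, 29], [29, 57, 48, 69]),
   ([57, 47], [47, 57]),
   ([58, 24], [24, 58]),
   ([58, 26], [26, 58, 41]),
   ([58, 27], [27, 58, 40, 41]),
   ([58, 29], [29, 58, 49, 69]),
   ([58, 47], [47, 58]),
   ([28, 43], [43, 28]),
   ([28, 44], [44, 28]),
   ([28, 24], [24, 28]),
   ([28, 54], [54, 28, 40, 65]),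
   ([28, 55], [55, 28, 41, 65]),
   ([28, 26], [26, 28]),
   ([28, 27], [27, 28]),
   ([28, 60], [60, 28, 48, 70]),
   ([28, 61], [61, 28, 49, 70]),
   ([28, 45], [45, 28]),
   ([28, 46], [46, 28]),
   ([28, 56], [56, 28]),
   ([28, 66], [66, 28, 64]),
   ([28, 38], [38, 28]),
   ([28, 39], [39, 28]),
   ([28, 47], [47, 28]),
   ([28, 57], [57, 28]),
   ([28, 58], [58, 28]),
   ([62, 24], [24, 62, 40, 69]),
   ([62, 26], [26, 62, 48]),
   ([62, 27], [27, 62, 48, 49]),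
   ([62, 29], [29, 62]),
   ([62, 28], [28, 62]),
   ([63, 24], [24, 63, 41, 69]),
   ([63, 26], [26, 63, 49]),
   ([63, 27], [27, 63, 48]),
   ([63, 29], [29, 63]),
   ([63, 28], [28, 63]),
   ([40, 43], [43, 40, 48]),
   ([40, 44], [44, 40, 48, 49]),
   ([40, 24], [24, 40]),
   ([40, 54], [54, 40]),
   ([40, 55], [55, 40, 65]),
   ([40, 26], [26, 40]),
   ([40, 27], [27, 40]),
   ([40, 60], [60, 40, 67]),
   ([40, 61], [61, 40, 67, 68])]

/-- Relations, part 32. -/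
def varTab32 : List (List ℕ × List ℕ) :=
  [([40, 29], [29, 40]),
   ([40, 36], [36, 40]),
   ([40, 37], [37, 40]),
   ([40, 45], [45, 40]),
   ([40, 46], [46, 40, 64]),
   ([40, 56], [56, 40]),
   ([40, 66], [66, 40]),
   ([40, 35], [35, 40]),
   ([40, 38], [38, 40]),
   ([40, 39], [39, 40]),
   ([40, 47], [47, 40]),
   ([40, 57], [57, 40]),
   ([40, 58], [58, 40]),
   ([40, 28], [28, 40]),
   ([40, 62], [62, 40]),
   ([40, 63], [63, 40, 69]),
   ([41, 43], [43, 41, 49]),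
   ([41, 44], [44, 41, 48]),
   ([41, 24], [24, 41]),
   ([41, 54], [54, 41, 65]),
   ([41, 55], [55, 41]),
   ([41, 26], [26, 41]),
   ([41, 27], [27, 41]),
   ([41, 60], [60, 41, 68]),
   ([41, 61], [61, 41, 67]),
   ([41, 29], [29, 41]),
   ([41, 36], [36, 41]),
   ([41, 37], [37, 41]),
   ([41, 45], [45, 41, 64]),
   ([41, 46], [46, 41]),
   ([41, 56], [56, 41]),
   ([41, 66], [66, 41]),
   ([41, 35], [35, 41]),
   ([41, 38], [38, 41]),
   ([41, 39], [39, 41]),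
   ([41, 47], [47, 41]),
   ([41, 57], [57, 41]),
   ([41, 58], [58, 41]),
   ([41, 28], [28, 41]),
   ([41, 62], [62, 41, 69]),
   ([41, 63], [63, 41]),
   ([71, 24], [24, 71, 65]),
   ([71, 26], [26, 71, 67, 64]),
   ([71, 27], [27, 71, 68, 64]),
   ([71, 29], [29, 71, 70]),
   ([71, 28], [28, 71, 69]),
   ([48, 24], [24, 48]),
   ([48, 26], [26, 48]),
   ([48, 27], [27, 48]),
   ([48, 60], [60, 48]),
   ([48, 61], [61, 48, 70]),
   ([48, 29], [29, 48]),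
   ([48, 36], [36, 48]),
   ([48, 37], [37, 48, 64]),
   ([48, 56], [56, 48]),
   ([48, 66], [66, 48]),
   ([48, 35], [35, 48]),
   ([48, 47], [47, 48]),
   ([48, 57], [57, 48]),
   ([48, 58], [58, 48, 69]),
   ([48, 28], [28, 48]),
   ([48, 62], [62, 48]),
   ([48, 63], [63, 48]),
   ([48, 71], [71, 48])]

/-- Relations, part 33. -/
def varTab33 : List (List ℕ × List ℕ) :=
  [([49, 24], [24, 49]),
   ([49, 26], [26, 49]),
   ([49, 27], [27, 49]),
   ([49, 60], [60, 49, 70]),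
   ([49, 61], [61, 49]),
   ([49, 29], [29, 49]),
   ([49, 36], [36, 49, 64]),
   ([49, 37], [37, 49]),
   ([49, 56], [56, 49]),
   ([49, 66], [66, 49]),
   ([49, 35], [35, 49]),
   ([49, 47], [47, 49]),
   ([49, 57], [57, 49, 69]),
   ([49, 58], [58, 49]),
   ([49, 28], [28, 49]),
   ([49, 62], [62, 49]),
   ([49, 63], [63, 49]),
   ([49, 71], [71, 49]),
   ([65, 43], [43, 65, 67, 70]),
   ([65, 44], [44, 65, 68, 70]),
   ([65, 24], [24, 65]),
   ([65, 26], [26, 65]),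
   ([65, 27], [27, 65]),
   ([65, 29], [29, 65, 64]),
   ([65, 47], [47, 65, 69]),
   ([65, 28], [28, 65]),
   ([65, 71], [71, 65]),
   ([65, 48], [48, 65]),
   ([65, 49], [49, 65]),
   ([67, 24], [24, 67]),
   ([67, 26], [26, 67]),
   ([67, 27], [27, 67, 64]),
   ([67, 29], [29, 67]),
   ([67, 56], [56, 67]),
   ([67, 28], [28, 67]),
   ([67, 71], [71, 67]),
   ([68, 24], [24, 68]),
   ([68, 26], [26, 68, 64]),
   ([68, 27], [27, 68]),
   ([68, 29], [29, 68]),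
   ([68, 56], [56, 68]),
   ([68, 28], [28, 68]),
   ([68, 71], [71, 68]),
   ([70, 24], [24, 70, 64]),
   ([70, 26], [26, 70]),
   ([70, 27], [27, 70]),
   ([70, 29], [29, 70]),
   ([70, 28], [28, 70]),
   ([70, 71], [71, 70]),
   ([64, 43], [43, 64]),
   ([64, 44], [44, 64]),
   ([64, 24], [24, 64]),
   ([64, 54], [54, 64]),
   ([64, 55], [55, 64]),
   ([64, 26], [26, 64]),
   ([64, 27], [27, 64]),
   ([64, 60], [60, 64]),
   ([64, 61], [61, 64]),
   ([64, 29], [29, 64]),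
   ([64, 36], [36, 64]),
   ([64, 37], [37, 64]),
   ([64, 56], [56, 64, 69]),
   ([64, 66], [66, 64]),
   ([64, 35], [35, 64])]

/-- Relations, part 34. -/
def varTab34 : List (List ℕ × List ℕ) :=
  [([64, 38], [38, 64]),
   ([64, 39], [39, 64]),
   ([64, 47], [47, 64]),
   ([64, 57], [57, 64]),
   ([64, 58], [58, 64]),
   ([64, 28], [28, 64]),
   ([64, 62], [62, 64]),
   ([64, 63], [63, 64]),
   ([64, 71], [71, 64]),
   ([64, 48], [48, 64]),
   ([64, 49], [49, 64]),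
   ([64, 65], [65, 64]),
   ([64, 67], [67, 64]),
   ([64, 68], [68, 64]),
   ([64, 70], [70, 64]),
   ([69, 24], [24, 69]),
   ([69, 26], [26, 69]),
   ([69, 27], [27, 69]),
   ([69, 29], [29, 69]),
   ([69, 28], [28, 69]),
   ([69, 71], [71, 69]),
   ([51, 47], [47, 51, 59]),
   ([26, 47], [47, 26]),
   ([26, 51], [51, 26, 33, 25]),
   ([26, 59], [59, 26, 43, 29]),
   ([27, 47], [47, 27]),
   ([27, 51], [51, 27, 34, 25]),
   ([27, 59], [59, 27, 44, 29]),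
   ([33, 47], [47, 33, 43, 42]),
   ([33, 51], [51, 33]),
   ([33, 59], [59, 33]),
   ([33, 26], [26, 33]),
   ([33, 27], [27, 33, 25]),
   ([34, 47], [47, 34, 44, 42]),
   ([34, 51], [51, 34]),
   ([34, 59], [59, 34]),
   ([34, 26], [26, 34, 25]),
   ([34, 27], [27, 34]),
   ([43, 47], [47, 43]),
   ([43, 59], [59, 43]),
   ([43, 26], [26, 43]),
   ([43, 27], [27, 43, 29]),
   ([43, 33], [33, 43]),
   ([43, 34], [34, 43, 42]),
   ([44, 47], [47, 44]),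
   ([44, 59], [59, 44]),
   ([44, 26], [26, 44, 29]),
   ([44, 27], [27, 44]),
   ([44, 33], [33, 44, 42]),
   ([44, 34], [34, 44]),
   ([25, 47], [47, 25, 29]),
   ([25, 51], [51, 25]),
   ([25, 59], [59, 25, 42]),
   ([25, 43], [43, 25]),
   ([25, 44], [44, 25]),
   ([29, 47], [47, 29]),
   ([29, 51], [51, 29, 42]),
   ([29, 59], [59, 29]),
   ([29, 25], [25, 29]),
   ([42, 47], [47, 42]),
   ([42, 51], [51, 42]),
   ([42, 59], [59, 42]),
   ([42, 26], [26, 42]),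
   ([42, 27], [27, 42])]

/-- Relations, part 35. -/
def varTab35 : List (List ℕ × List ℕ) :=
  [([42, 33], [33, 42]),
   ([42, 34], [34, 42]),
   ([42, 43], [43, 42]),
   ([42, 44], [44, 42]),
   ([42, 25], [25, 42]),
   ([42, 29], [29, 42]),
   ([57, 25], [25, 57, 36, 65]),
   ([58, 25], [25, 58, 37, 65]),
   ([40, 51], [51, 40, 54, 65]),
   ([40, 59], [59, 40, 62, 69]),
   ([40, 33], [33, 40, 36]),
   ([40, 34], [34, 40, 36, 37]),
   ([40, 25], [25, 40]),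
   ([40, 42], [42, 40, 45, 64]),
   ([41, 51], [51, 41, 55, 65]),
   ([41, 59], [59, 41, 63, 69]),
   ([41, 33], [33, 41, 37]),
   ([41, 34], [34, 41, 36]),
   ([41, 25], [25, 41]),
   ([41, 42], [42, 41, 46, 64]),
   ([54, 47], [47, 54, 62, 71]),
   ([54, 26], [26, 54, 36]),
   ([54, 27], [27, 54, 36, 37]),
   ([54, 25], [25, 54]),
   ([54, 29], [29, 54, 45, 66]),
   ([55, 47], [47, 55, 63, 71]),
   ([55, 26], [26, 55, 37]),
   ([55, 27], [27, 55, 36]),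
   ([55, 25], [25, 55]),
   ([55, 29], [29, 55, 46, 66]),
   ([62, 25], [25, 62, 45, 70]),
   ([63, 25], [25, 63, 46, 70]),
   ([36, 47], [47, 36, 48, 64]),
   ([36, 51], [51, 36]),
   ([36, 59], [59, 36, 60, 66]),
   ([36, 25], [25, 36]),
   ([36, 42], [42, 36]),
   ([36, 57], [57, 36]),
   ([36, 58], [58, 36, 65]),
   ([36, 62], [62, 36, 67]),
   ([36, 63], [63, 36, 68]),
   ([37, 47], [47, 37, 49, 64]),
   ([37, 51], [51, 37]),
   ([37, 59], [59, 37, 61, 66]),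
   ([37, 25], [25, 37]),
   ([37, 42], [42, 37]),
   ([37, 57], [57, 37, 65]),
   ([37, 58], [58, 37]),
   ([37, 62], [62, 37, 67, 68]),
   ([37, 63], [63, 37, 67]),
   ([48, 59], [59, 48]),
   ([48, 33], [33, 48, 45]),
   ([48, 34], [34, 48, 46]),
   ([48, 25], [25, 48]),
   ([49, 59], [59, 49]),
   ([49, 33], [33, 49, 46]),
   ([49, 34], [34, 49, 45, 46]),
   ([49, 25], [25, 49]),
   ([60, 25], [25, 60]),
   ([60, 29], [29, 60]),
   ([61, 25], [25, 61]),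
   ([61, 29], [29, 61]),
   ([45, 47], [47, 45]),
   ([45, 51], [51, 45])]

/-- Relations, part 36. -/
def varTab36 : List (List ℕ × List ℕ) :=
  [([45, 59], [59, 45]),
   ([45, 33], [33, 45]),
   ([45, 34], [34, 45]),
   ([45, 25], [25, 45]),
   ([45, 57], [57, 45, 67]),
   ([45, 58], [58, 45, 67, 68]),
   ([45, 62], [62, 45]),
   ([45, 63], [63, 45, 70]),
   ([45, 48], [48, 45]),
   ([45, 49], [49, 45]),
   ([46, 47], [47, 46]),
   ([46, 51], [51, 46]),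
   ([46, 59], [59, 46]),
   ([46, 33], [33, 46]),
   ([46, 34], [34, 46]),
   ([46, 25], [25, 46]),
   ([46, 57], [57, 46, 68]),
   ([46, 58], [58, 46, 67]),
   ([46, 62], [62, 46, 70]),
   ([46, 63], [63, 46]),
   ([46, 48], [48, 46]),
   ([46, 49], [49, 46]),
   ([65, 25], [25, 65]),
   ([69, 25], [25, 69, 64]),
   ([71, 25], [25, 71, 66]),
   ([67, 59], [59, 67]),
   ([67, 25], [25, 67]),
   ([68, 59], [59, 68]),
   ([68, 25], [25, 68]),
   ([64, 51], [51, 64, 66]),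
   ([64, 59], [59, 64, 70]),
   ([64, 33], [33, 64]),
   ([64, 34], [34, 64]),
   ([64, 25], [25, 64]),
   ([64, 69], [69, 64]),
   ([66, 47], [47, 66, 70]),
   ([66, 25], [25, 66]),
   ([66, 57], [57, 66]),
   ([66, 58], [58, 66]),
   ([66, 71], [71, 66]),
   ([70, 25], [25, 70]),
   ([8, 52], [52, 8, 18]),
   ([8, 53], [53, 8, 19]),
   ([9, 52], [52, 9, 19]),
   ([9, 53], [53, 9, 18, 19]),
   ([18, 52], [52, 18]),
   ([18, 53], [53, 18]),
   ([18, 8], [8, 18]),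
   ([18, 9], [9, 18]),
   ([19, 52], [52, 19]),
   ([19, 53], [53, 19]),
   ([19, 8], [8, 19]),
   ([19, 9], [9, 19]),
   ([65, 52], [52, 65]),
   ([65, 53], [53, 65]),
   ([65, 8], [8, 65]),
   ([65, 9], [9, 65]),
   ([42, 52], [52, 42]),
   ([42, 53], [53, 42]),
   ([42, 8], [8, 42, 11, 0]),
   ([42, 9], [9, 42, 12, 0]),
   ([42, 18], [18, 42, 20, 15]),
   ([42, 19], [19, 42, 21, 15]),
   ([42, 65], [65, 42, 66])]

/-- Relations, part 37. -/
def varTab37 : List (List ℕ × List ℕ) :=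
  [([11, 52], [52, 11, 20]),
   ([11, 53], [53, 11, 21]),
   ([11, 8], [8, 11]),
   ([11, 9], [9, 11, 0]),
   ([11, 65], [65, 11, 36, 25]),
   ([11, 42], [42, 11]),
   ([12, 52], [52, 12, 21]),
   ([12, 53], [53, 12, 20, 21]),
   ([12, 8], [8, 12, 0]),
   ([12, 9], [9, 12]),
   ([12, 65], [65, 12, 37, 25]),
   ([12, 42], [42, 12]),
   ([20, 52], [52, 20]),
   ([20, 53], [53, 20]),
   ([20, 8], [8, 20, 3]),
   ([20, 9], [9, 20, 3, 4]),
   ([20, 18], [18, 20]),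
   ([20, 19], [19, 20, 15]),
   ([20, 65], [65, 20, 54, 51]),
   ([20, 42], [42, 20]),
   ([20, 11], [11, 20]),
   ([20, 12], [12, 20]),
   ([21, 52], [52, 21]),
   ([21, 53], [53, 21]),
   ([21, 8], [8, 21, 4]),
   ([21, 9], [9, 21, 3]),
   ([21, 18], [18, 21, 15]),
   ([21, 19], [19, 21]),
   ([21, 65], [65, 21, 55, 51]),
   ([21, 42], [42, 21]),
   ([21, 11], [11, 21]),
   ([21, 12], [12, 21]),
   ([0, 52], [52, 0, 3, 15]),
   ([0, 53], [53, 0, 4, 15]),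
   ([0, 65], [65, 0, 24]),
   ([0, 42], [42, 0]),
   ([0, 20], [20, 0]),
   ([0, 21], [21, 0]),
   ([3, 52], [52, 3]),
   ([3, 53], [53, 3, 15]),
   ([3, 8], [8, 3]),
   ([3, 9], [9, 3]),
   ([3, 65], [65, 3, 31, 1]),
   ([3, 42], [42, 3]),
   ([3, 20], [20, 3]),
   ([3, 21], [21, 3]),
   ([3, 0], [0, 3]),
   ([4, 52], [52, 4, 15]),
   ([4, 53], [53, 4]),
   ([4, 8], [8, 4]),
   ([4, 9], [9, 4]),
   ([4, 65], [65, 4, 32, 1]),
   ([4, 42], [42, 4]),
   ([4, 20], [20, 4]),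
   ([4, 21], [21, 4]),
   ([4, 0], [0, 4]),
   ([15, 52], [52, 15]),
   ([15, 53], [53, 15]),
   ([15, 8], [8, 15]),
   ([15, 9], [9, 15]),
   ([15, 65], [65, 15, 50]),
   ([15, 42], [42, 15]),
   ([15, 11], [11, 15]),
   ([15, 12], [12, 15])]

/-- Relations, part 38. -/
def varTab38 : List (List ℕ × List ℕ) :=
  [([15, 0], [0, 15]),
   ([15, 3], [3, 15]),
   ([15, 4], [4, 15]),
   ([66, 52], [52, 66]),
   ([66, 53], [53, 66]),
   ([66, 8], [8, 66, 36, 24]),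
   ([66, 9], [9, 66, 37, 24]),
   ([66, 11], [11, 66]),
   ([66, 12], [12, 66]),
   ([66, 0], [0, 66, 25]),
   ([66, 3], [3, 66, 33, 2]),
   ([66, 4], [4, 66, 34, 2]),
   ([36, 52], [52, 36, 54]),
   ([36, 53], [53, 36, 55]),
   ([36, 8], [8, 36]),
   ([36, 9], [9, 36, 24]),
   ([36, 18], [18, 36, 31]),
   ([36, 19], [19, 36, 32]),
   ([36, 65], [65, 36]),
   ([36, 11], [11, 36]),
   ([36, 12], [12, 36, 25]),
   ([36, 20], [20, 36, 33]),
   ([36, 21], [21, 36, 34]),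
   ([36, 0], [0, 36]),
   ([36, 3], [3, 36, 5]),
   ([36, 4], [4, 36, 6]),
   ([36, 15], [15, 36, 16, 30]),
   ([36, 66], [66, 36]),
   ([37, 52], [52, 37, 55]),
   ([37, 53], [53, 37, 54, 55]),
   ([37, 8], [8, 37, 24]),
   ([37, 9], [9, 37]),
   ([37, 18], [18, 37, 31, 32]),
   ([37, 19], [19, 37, 31]),
   ([37, 65], [65, 37]),
   ([37, 11], [11, 37, 25]),
   ([37, 12], [12, 37]),
   ([37, 20], [20, 37, 33, 34]),
   ([37, 21], [21, 37, 33]),
   ([37, 0], [0, 37]),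
   ([37, 3], [3, 37, 6]),
   ([37, 4], [4, 37, 5, 6]),
   ([37, 15], [15, 37, 17, 30]),
   ([37, 66], [66, 37]),
   ([54, 8], [8, 54, 31]),
   ([54, 9], [9, 54, 31, 32]),
   ([54, 11], [11, 54, 33]),
   ([54, 12], [12, 54, 33, 34]),
   ([54, 0], [0, 54, 5, 30]),
   ([54, 3], [3, 54, 16]),
   ([54, 4], [4, 54, 16, 17]),
   ([55, 8], [8, 55, 32]),
   ([55, 9], [9, 55, 31]),
   ([55, 11], [11, 55, 34]),
   ([55, 12], [12, 55, 33]),
   ([55, 0], [0, 55, 6, 30]),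
   ([55, 3], [3, 55, 17]),
   ([55, 4], [4, 55, 16]),
   ([24, 52], [52, 24, 31, 50]),
   ([24, 53], [53, 24, 32, 50]),
   ([24, 65], [65, 24]),
   ([24, 42], [42, 24, 25]),
   ([24, 20], [20, 24, 5, 2]),
   ([24, 21], [21, 24, 6, 2])]

/-- Relations, part 39. -/
def varTab39 : List (List ℕ × List ℕ) :=
  [([24, 0], [0, 24]),
   ([24, 66], [66, 24]),
   ([24, 54], [54, 24]),
   ([24, 55], [55, 24]),
   ([31, 52], [52, 31]),
   ([31, 53], [53, 31, 50]),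
   ([31, 8], [8, 31]),
   ([31, 9], [9, 31]),
   ([31, 65], [65, 31]),
   ([31, 42], [42, 31, 33, 30]),
   ([31, 11], [11, 31, 5]),
   ([31, 12], [12, 31, 6]),
   ([31, 0], [0, 31]),
   ([31, 3], [3, 31]),
   ([31, 4], [4, 31, 1]),
   ([31, 66], [66, 31]),
   ([31, 54], [54, 31]),
   ([31, 55], [55, 31]),
   ([31, 24], [24, 31]),
   ([32, 52], [52, 32, 50]),
   ([32, 53], [53, 32]),
   ([32, 8], [8, 32]),
   ([32, 9], [9, 32]),
   ([32, 65], [65, 32]),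
   ([32, 42], [42, 32, 34, 30]),
   ([32, 11], [11, 32, 6]),
   ([32, 12], [12, 32, 5, 6]),
   ([32, 0], [0, 32]),
   ([32, 3], [3, 32, 1]),
   ([32, 4], [4, 32]),
   ([32, 66], [66, 32]),
   ([32, 54], [54, 32]),
   ([32, 55], [55, 32]),
   ([32, 24], [24, 32]),
   ([50, 8], [8, 50]),
   ([50, 9], [9, 50]),
   ([50, 42], [42, 50, 51]),
   ([50, 11], [11, 50, 16, 2]),
   ([50, 12], [12, 50, 17, 2]),
   ([50, 0], [0, 50, 1]),
   ([50, 3], [3, 50]),
   ([50, 4], [4, 50]),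
   ([50, 24], [24, 50]),
   ([25, 52], [52, 25, 33, 51]),
   ([25, 53], [53, 25, 34, 51]),
   ([25, 8], [8, 25]),
   ([25, 9], [9, 25]),
   ([25, 65], [65, 25]),
   ([25, 42], [42, 25]),
   ([25, 20], [20, 25]),
   ([25, 21], [21, 25]),
   ([25, 0], [0, 25]),
   ([25, 3], [3, 25]),
   ([25, 4], [4, 25]),
   ([25, 66], [66, 25]),
   ([25, 54], [54, 25]),
   ([25, 55], [55, 25]),
   ([25, 24], [24, 25]),
   ([25, 50], [50, 25, 30]),
   ([33, 52], [52, 33]),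
   ([33, 53], [53, 33, 51]),
   ([33, 8], [8, 33, 5]),
   ([33, 9], [9, 33, 6]),
   ([33, 18], [18, 33, 16])]

/-- Relations, part 40. -/
def varTab40 : List (List ℕ × List ℕ) :=
  [([33, 19], [19, 33, 17]),
   ([33, 65], [65, 33]),
   ([33, 42], [42, 33]),
   ([33, 11], [11, 33]),
   ([33, 12], [12, 33]),
   ([33, 0], [0, 33]),
   ([33, 3], [3, 33]),
   ([33, 4], [4, 33, 2]),
   ([33, 15], [15, 33]),
   ([33, 66], [66, 33]),
   ([33, 54], [54, 33]),
   ([33, 55], [55, 33]),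
   ([33, 24], [24, 33]),
   ([33, 31], [31, 33]),
   ([33, 32], [32, 33, 30]),
   ([33, 50], [50, 33]),
   ([33, 25], [25, 33]),
   ([34, 52], [52, 34, 51]),
   ([34, 53], [53, 34]),
   ([34, 8], [8, 34, 6]),
   ([34, 9], [9, 34, 5, 6]),
   ([34, 18], [18, 34, 16, 17]),
   ([34, 19], [19, 34, 16]),
   ([34, 65], [65, 34]),
   ([34, 42], [42, 34]),
   ([34, 11], [11, 34]),
   ([34, 12], [12, 34]),
   ([34, 0], [0, 34]),
   ([34, 3], [3, 34, 2]),
   ([34, 4], [4, 34]),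
   ([34, 15], [15, 34]),
   ([34, 66], [66, 34]),
   ([34, 54], [54, 34]),
   ([34, 55], [55, 34]),
   ([34, 24], [24, 34]),
   ([34, 31], [31, 34, 30]),
   ([34, 32], [32, 34]),
   ([34, 50], [50, 34]),
   ([34, 25], [25, 34]),
   ([51, 8], [8, 51, 16, 1]),
   ([51, 9], [9, 51, 17, 1]),
   ([51, 11], [11, 51]),
   ([51, 12], [12, 51]),
   ([51, 0], [0, 51, 2]),
   ([51, 3], [3, 51]),
   ([51, 4], [4, 51]),
   ([51, 24], [24, 51, 30]),
   ([51, 25], [25, 51]),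
   ([5, 52], [52, 5, 16]),
   ([5, 53], [53, 5, 16, 17]),
   ([5, 65], [65, 5]),
   ([5, 42], [42, 5]),
   ([5, 20], [20, 5]),
   ([5, 21], [21, 5, 2]),
   ([5, 0], [0, 5]),
   ([5, 66], [66, 5]),
   ([5, 54], [54, 5]),
   ([5, 55], [55, 5, 30]),
   ([5, 24], [24, 5]),
   ([5, 50], [50, 5]),
   ([5, 51], [51, 5]),
   ([6, 52], [52, 6, 17]),
   ([6, 53], [53, 6, 16]),
   ([6, 65], [65, 6])]

/-- Relations, part 41. -/
def varTab41 : List (List ℕ × List ℕ) :=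
  [([6, 42], [42, 6]),
   ([6, 20], [20, 6, 2]),
   ([6, 21], [21, 6]),
   ([6, 0], [0, 6]),
   ([6, 66], [66, 6]),
   ([6, 54], [54, 6, 30]),
   ([6, 55], [55, 6]),
   ([6, 24], [24, 6]),
   ([6, 50], [50, 6]),
   ([6, 51], [51, 6]),
   ([16, 52], [52, 16]),
   ([16, 53], [53, 16]),
   ([16, 8], [8, 16]),
   ([16, 9], [9, 16, 1]),
   ([16, 65], [65, 16]),
   ([16, 42], [42, 16]),
   ([16, 11], [11, 16]),
   ([16, 12], [12, 16, 2]),
   ([16, 0], [0, 16]),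
   ([16, 3], [3, 16]),
   ([16, 4], [4, 16]),
   ([16, 66], [66, 16]),
   ([16, 54], [54, 16]),
   ([16, 55], [55, 16]),
   ([16, 24], [24, 16]),
   ([16, 50], [50, 16]),
   ([16, 25], [25, 16]),
   ([16, 51], [51, 16]),
   ([16, 5], [5, 16]),
   ([16, 6], [6, 16]),
   ([17, 52], [52, 17]),
   ([17, 53], [53, 17]),
   ([17, 8], [8, 17, 1]),
   ([17, 9], [9, 17]),
   ([17, 65], [65, 17]),
   ([17, 42], [42, 17]),
   ([17, 11], [11, 17, 2]),
   ([17, 12], [12, 17]),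
   ([17, 0], [0, 17]),
   ([17, 3], [3, 17]),
   ([17, 4], [4, 17]),
   ([17, 66], [66, 17]),
   ([17, 54], [54, 17]),
   ([17, 55], [55, 17]),
   ([17, 24], [24, 17]),
   ([17, 50], [50, 17]),
   ([17, 25], [25, 17]),
   ([17, 51], [51, 17]),
   ([17, 5], [5, 17]),
   ([17, 6], [6, 17]),
   ([1, 52], [52, 1]),
   ([1, 53], [53, 1]),
   ([1, 65], [65, 1]),
   ([1, 42], [42, 1, 2]),
   ([1, 20], [20, 1]),
   ([1, 21], [21, 1]),
   ([1, 0], [0, 1]),
   ([1, 66], [66, 1, 30]),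
   ([1, 54], [54, 1]),
   ([1, 55], [55, 1]),
   ([1, 50], [50, 1]),
   ([1, 51], [51, 1]),
   ([2, 52], [52, 2]),
   ([2, 53], [53, 2])]

/-- Relations, part 42. -/
def varTab42 : List (List ℕ × List ℕ) :=
  [([2, 65], [65, 2, 30]),
   ([2, 42], [42, 2]),
   ([2, 20], [20, 2]),
   ([2, 21], [21, 2]),
   ([2, 0], [0, 2]),
   ([2, 66], [66, 2]),
   ([2, 54], [54, 2]),
   ([2, 55], [55, 2]),
   ([2, 24], [24, 2]),
   ([2, 50], [50, 2]),
   ([2, 51], [51, 2]),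
   ([2, 5], [5, 2]),
   ([2, 6], [6, 2]),
   ([2, 1], [1, 2]),
   ([30, 52], [52, 30]),
   ([30, 53], [53, 30]),
   ([30, 8], [8, 30]),
   ([30, 9], [9, 30]),
   ([30, 65], [65, 30]),
   ([30, 42], [42, 30]),
   ([30, 11], [11, 30]),
   ([30, 12], [12, 30]),
   ([30, 0], [0, 30]),
   ([30, 3], [3, 30]),
   ([30, 4], [4, 30]),
   ([30, 66], [66, 30]),
   ([30, 54], [54, 30]),
   ([30, 55], [55, 30]),
   ([30, 24], [24, 30]),
   ([30, 50], [50, 30]),
   ([30, 25], [25, 30]),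
   ([30, 51], [51, 30]),
   ([30, 5], [5, 30]),
   ([30, 6], [6, 30]),
   ([30, 1], [1, 30]),
   ([30, 2], [2, 30]),
   ([40, 22], [22, 40, 38]),
   ([40, 23], [23, 40, 38, 39]),
   ([41, 22], [22, 41, 39]),
   ([41, 23], [23, 41, 38]),
   ([29, 22], [22, 29]),
   ([29, 23], [23, 29]),
   ([38, 51], [51, 38, 52, 56]),
   ([39, 51], [51, 39, 53, 56]),
   ([42, 22], [22, 42]),
   ([42, 23], [23, 42]),
   ([42, 38], [38, 42, 43, 47]),
   ([42, 39], [39, 42, 44, 47]),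
   ([42, 54], [54, 42]),
   ([42, 55], [55, 42]),
   ([52, 29], [29, 52, 43, 59]),
   ([53, 29], [29, 53, 44, 59]),
   ([45, 22], [22, 45, 43]),
   ([45, 23], [23, 45, 43, 44]),
   ([45, 38], [38, 45, 48]),
   ([45, 39], [39, 45, 48, 49]),
   ([45, 52], [52, 45, 60]),
   ([45, 53], [53, 45, 60, 61]),
   ([45, 65], [65, 45]),
   ([46, 22], [22, 46, 44]),
   ([46, 23], [23, 46, 43]),
   ([46, 38], [38, 46, 49]),
   ([46, 39], [39, 46, 48]),
   ([46, 52], [52, 46, 61])]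

/-- Relations, part 43. -/
def varTab43 : List (List ℕ × List ℕ) :=
  [([46, 53], [53, 46, 60]),
   ([46, 65], [65, 46]),
   ([43, 29], [29, 43]),
   ([43, 52], [52, 43]),
   ([43, 53], [53, 43, 59]),
   ([43, 57], [57, 43, 62]),
   ([43, 58], [58, 43, 63]),
   ([44, 29], [29, 44]),
   ([44, 52], [52, 44, 59]),
   ([44, 53], [53, 44]),
   ([44, 57], [57, 44, 63]),
   ([44, 58], [58, 44, 62, 63]),
   ([64, 22], [22, 64, 48, 47]),
   ([64, 23], [23, 64, 49, 47]),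
   ([64, 52], [52, 64, 67, 71]),
   ([64, 53], [53, 64, 68, 71]),
   ([48, 52], [52, 48, 62]),
   ([48, 53], [53, 48, 63]),
   ([49, 52], [52, 49, 63]),
   ([49, 53], [53, 49, 62, 63]),
   ([60, 56], [56, 60]),
   ([61, 56], [56, 61]),
   ([59, 29], [29, 59]),
   ([8, 64], [64, 8]),
   ([9, 64], [64, 9]),
   ([43, 8], [8, 43, 13]),
   ([43, 9], [9, 43, 14]),
   ([44, 8], [8, 44, 14]),
   ([44, 9], [9, 44, 13, 14]),
   ([13, 64], [64, 13]),
   ([13, 8], [8, 13]),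
   ([13, 9], [9, 13]),
   ([13, 43], [43, 13]),
   ([13, 44], [44, 13]),
   ([14, 64], [64, 14]),
   ([14, 8], [8, 14]),
   ([14, 9], [9, 14]),
   ([14, 43], [43, 14]),
   ([14, 44], [44, 14]),
   ([50, 64], [64, 50, 65]),
   ([50, 43], [43, 50, 52, 59]),
   ([50, 44], [44, 50, 53, 59]),
   ([50, 13], [13, 50, 18, 7]),
   ([50, 14], [14, 50, 19, 7]),
   ([65, 13], [13, 65, 40, 28]),
   ([65, 14], [14, 65, 41, 28]),
   ([52, 8], [8, 52, 18]),
   ([52, 9], [9, 52, 19]),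
   ([52, 13], [13, 52, 22]),
   ([52, 14], [14, 52, 23]),
   ([53, 8], [8, 53, 19]),
   ([53, 9], [9, 53, 18, 19]),
   ([53, 13], [13, 53, 22, 23]),
   ([53, 14], [14, 53, 22]),
   ([67, 8], [8, 67, 40]),
   ([67, 9], [9, 67, 41]),
   ([67, 13], [13, 67, 48]),
   ([67, 14], [14, 67, 49]),
   ([68, 8], [8, 68, 41]),
   ([68, 9], [9, 68, 40, 41]),
   ([68, 13], [13, 68, 48, 49]),
   ([68, 14], [14, 68, 48]),
   ([18, 64], [64, 18, 40, 35]),
   ([18, 43], [43, 18, 22])]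

/-- Relations, part 44. -/
def varTab44 : List (List ℕ × List ℕ) :=
  [([18, 44], [44, 18, 22, 23]),
   ([18, 13], [13, 18]),
   ([18, 14], [14, 18, 7]),
   ([18, 50], [50, 18]),
   ([18, 65], [65, 18]),
   ([18, 67], [67, 18, 57]),
   ([18, 68], [68, 18, 57, 58]),
   ([19, 64], [64, 19, 41, 35]),
   ([19, 43], [43, 19, 23]),
   ([19, 44], [44, 19, 22]),
   ([19, 13], [13, 19, 7]),
   ([19, 14], [14, 19]),
   ([19, 50], [50, 19]),
   ([19, 65], [65, 19]),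
   ([19, 67], [67, 19, 58]),
   ([19, 68], [68, 19, 57]),
   ([40, 64], [64, 40]),
   ([40, 8], [8, 40]),
   ([40, 9], [9, 40]),
   ([40, 13], [13, 40]),
   ([40, 14], [14, 40, 28]),
   ([40, 50], [50, 40]),
   ([40, 65], [65, 40]),
   ([40, 52], [52, 40, 57]),
   ([40, 53], [53, 40, 57, 58]),
   ([40, 67], [67, 40]),
   ([40, 68], [68, 40]),
   ([40, 18], [18, 40]),
   ([40, 19], [19, 40, 35]),
   ([41, 64], [64, 41]),
   ([41, 8], [8, 41]),
   ([41, 9], [9, 41]),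
   ([41, 13], [13, 41, 28]),
   ([41, 14], [14, 41]),
   ([41, 50], [50, 41]),
   ([41, 65], [65, 41]),
   ([41, 52], [52, 41, 58]),
   ([41, 53], [53, 41, 57]),
   ([41, 67], [67, 41]),
   ([41, 68], [68, 41]),
   ([41, 18], [18, 41, 35]),
   ([41, 19], [19, 41]),
   ([59, 8], [8, 59, 22, 7]),
   ([59, 9], [9, 59, 23, 7]),
   ([59, 13], [13, 59]),
   ([59, 14], [14, 59]),
   ([70, 8], [8, 70, 48, 28]),
   ([70, 9], [9, 70, 49, 28]),
   ([70, 13], [13, 70]),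
   ([70, 14], [14, 70]),
   ([22, 8], [8, 22]),
   ([22, 9], [9, 22, 7]),
   ([22, 43], [43, 22]),
   ([22, 44], [44, 22]),
   ([22, 13], [13, 22]),
   ([22, 14], [14, 22]),
   ([22, 65], [65, 22, 57, 56]),
   ([22, 52], [52, 22]),
   ([22, 53], [53, 22]),
   ([22, 67], [67, 22, 62]),
   ([22, 68], [68, 22, 63]),
   ([22, 18], [18, 22]),
   ([22, 19], [19, 22]),
   ([22, 59], [59, 22])]

/-- Relations, part 45. -/
def varTab45 : List (List ℕ × List ℕ) :=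
  [([22, 70], [70, 22]),
   ([23, 8], [8, 23, 7]),
   ([23, 9], [9, 23]),
   ([23, 43], [43, 23]),
   ([23, 44], [44, 23]),
   ([23, 13], [13, 23]),
   ([23, 14], [14, 23]),
   ([23, 65], [65, 23, 58, 56]),
   ([23, 52], [52, 23]),
   ([23, 53], [53, 23]),
   ([23, 67], [67, 23, 63]),
   ([23, 68], [68, 23, 62, 63]),
   ([23, 18], [18, 23]),
   ([23, 19], [19, 23]),
   ([23, 59], [59, 23]),
   ([23, 70], [70, 23]),
   ([48, 8], [8, 48]),
   ([48, 9], [9, 48, 28]),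
   ([48, 13], [13, 48]),
   ([48, 14], [14, 48]),
   ([48, 67], [67, 48]),
   ([48, 68], [68, 48]),
   ([48, 18], [18, 48, 38]),
   ([48, 19], [19, 48, 39]),
   ([48, 70], [70, 48]),
   ([49, 8], [8, 49, 28]),
   ([49, 9], [9, 49]),
   ([49, 13], [13, 49]),
   ([49, 14], [14, 49]),
   ([49, 67], [67, 49]),
   ([49, 68], [68, 49]),
   ([49, 18], [18, 49, 38, 39]),
   ([49, 19], [19, 49, 38]),
   ([49, 70], [70, 49]),
   ([7, 64], [64, 7, 28]),
   ([7, 8], [8, 7]),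
   ([7, 9], [9, 7]),
   ([7, 43], [43, 7]),
   ([7, 44], [44, 7]),
   ([7, 50], [50, 7]),
   ([7, 65], [65, 7, 35]),
   ([7, 52], [52, 7]),
   ([7, 53], [53, 7]),
   ([7, 67], [67, 7, 38, 69]),
   ([7, 68], [68, 7, 39, 69]),
   ([7, 59], [59, 7]),
   ([7, 70], [70, 7, 47]),
   ([7, 22], [22, 7]),
   ([7, 23], [23, 7]),
   ([7, 48], [48, 7]),
   ([7, 49], [49, 7]),
   ([28, 64], [64, 28]),
   ([28, 8], [8, 28]),
   ([28, 9], [9, 28]),
   ([28, 50], [50, 28, 35]),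
   ([28, 65], [65, 28]),
   ([28, 52], [52, 28, 38, 56]),
   ([28, 53], [53, 28, 39, 56]),
   ([28, 67], [67, 28]),
   ([28, 68], [68, 28]),
   ([28, 59], [59, 28, 47]),
   ([28, 70], [70, 28]),
   ([28, 22], [22, 28]),
   ([28, 23], [23, 28])]

/-- Relations, part 46. -/
def varTab46 : List (List ℕ × List ℕ) :=
  [([28, 48], [48, 28]),
   ([28, 49], [49, 28]),
   ([28, 7], [7, 28]),
   ([71, 8], [8, 71, 57, 35]),
   ([71, 9], [9, 71, 58, 35]),
   ([71, 13], [13, 71, 62, 47]),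
   ([71, 14], [14, 71, 63, 47]),
   ([71, 7], [7, 71, 56]),
   ([57, 8], [8, 57]),
   ([57, 9], [9, 57, 35]),
   ([57, 13], [13, 57, 38]),
   ([57, 14], [14, 57, 39]),
   ([57, 7], [7, 57]),
   ([57, 28], [28, 57]),
   ([57, 71], [71, 57]),
   ([58, 8], [8, 58, 35]),
   ([58, 9], [9, 58]),
   ([58, 13], [13, 58, 38, 39]),
   ([58, 14], [14, 58, 38]),
   ([58, 7], [7, 58]),
   ([58, 28], [28, 58]),
   ([58, 71], [71, 58]),
   ([35, 64], [64, 35]),
   ([35, 8], [8, 35]),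
   ([35, 9], [9, 35]),
   ([35, 13], [13, 35]),
   ([35, 14], [14, 35]),
   ([35, 50], [50, 35]),
   ([35, 65], [65, 35]),
   ([35, 52], [52, 35]),
   ([35, 53], [53, 35]),
   ([35, 67], [67, 35]),
   ([35, 68], [68, 35]),
   ([35, 59], [59, 35, 56]),
   ([35, 70], [70, 35, 69]),
   ([35, 22], [22, 35]),
   ([35, 23], [23, 35]),
   ([35, 48], [48, 35]),
   ([35, 49], [49, 35]),
   ([35, 7], [7, 35]),
   ([35, 28], [28, 35]),
   ([35, 71], [71, 35]),
   ([35, 57], [57, 35]),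
   ([35, 58], [58, 35]),
   ([62, 8], [8, 62, 38]),
   ([62, 9], [9, 62, 38, 39]),
   ([62, 13], [13, 62]),
   ([62, 14], [14, 62, 47]),
   ([62, 7], [7, 62]),
   ([62, 71], [71, 62]),
   ([63, 8], [8, 63, 39]),
   ([63, 9], [9, 63, 38]),
   ([63, 13], [13, 63, 47]),
   ([63, 14], [14, 63]),
   ([63, 7], [7, 63]),
   ([63, 71], [71, 63]),
   ([38, 8], [8, 38]),
   ([38, 9], [9, 38]),
   ([38, 13], [13, 38]),
   ([38, 14], [14, 38]),
   ([38, 65], [65, 38]),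
   ([38, 52], [52, 38]),
   ([38, 53], [53, 38, 56]),
   ([38, 67], [67, 38])]

/-- Relations, part 47. -/
def varTab47 : List (List ℕ × List ℕ) :=
  [([38, 68], [68, 38, 69]),
   ([38, 18], [18, 38]),
   ([38, 19], [19, 38]),
   ([38, 59], [59, 38]),
   ([38, 70], [70, 38]),
   ([38, 48], [48, 38]),
   ([38, 49], [49, 38]),
   ([38, 7], [7, 38]),
   ([38, 28], [28, 38]),
   ([38, 71], [71, 38]),
   ([38, 57], [57, 38]),
   ([38, 58], [58, 38]),
   ([38, 62], [62, 38]),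
   ([38, 63], [63, 38]),
   ([39, 8], [8, 39]),
   ([39, 9], [9, 39]),
   ([39, 13], [13, 39]),
   ([39, 14], [14, 39]),
   ([39, 65], [65, 39]),
   ([39, 52], [52, 39, 56]),
   ([39, 53], [53, 39]),
   ([39, 67], [67, 39, 69]),
   ([39, 68], [68, 39]),
   ([39, 18], [18, 39]),
   ([39, 19], [19, 39]),
   ([39, 59], [59, 39]),
   ([39, 70], [70, 39]),
   ([39, 48], [48, 39]),
   ([39, 49], [49, 39]),
   ([39, 7], [7, 39]),
   ([39, 28], [28, 39]),
   ([39, 71], [71, 39]),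
   ([39, 57], [57, 39]),
   ([39, 58], [58, 39]),
   ([39, 62], [62, 39]),
   ([39, 63], [63, 39]),
   ([47, 8], [8, 47]),
   ([47, 9], [9, 47]),
   ([47, 13], [13, 47]),
   ([47, 14], [14, 47]),
   ([47, 67], [67, 47]),
   ([47, 68], [68, 47]),
   ([47, 18], [18, 47]),
   ([47, 19], [19, 47]),
   ([47, 59], [59, 47]),
   ([47, 70], [70, 47]),
   ([47, 7], [7, 47]),
   ([47, 28], [28, 47]),
   ([47, 71], [71, 47]),
   ([47, 62], [62, 47]),
   ([47, 63], [63, 47]),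
   ([56, 8], [8, 56]),
   ([56, 9], [9, 56]),
   ([56, 13], [13, 56]),
   ([56, 14], [14, 56]),
   ([56, 7], [7, 56]),
   ([56, 28], [28, 56]),
   ([56, 71], [71, 56]),
   ([69, 8], [8, 69]),
   ([69, 9], [9, 69]),
   ([69, 13], [13, 69]),
   ([69, 14], [14, 69]),
   ([69, 7], [7, 69]),
   ([29, 20], [20, 29])]

/-- Relations, part 48. -/
def varTab48 : List (List ℕ × List ℕ) :=
  [([29, 21], [21, 29]),
   ([33, 29], [29, 33]),
   ([34, 29], [29, 34]),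
   ([35, 20], [20, 35, 18, 15]),
   ([35, 21], [21, 35, 19, 15]),
   ([18, 29], [29, 18, 13, 7]),
   ([19, 29], [29, 19, 14, 7]),
   ([15, 29], [29, 15, 10]),
   ([28, 20], [20, 28, 13, 10]),
   ([28, 21], [21, 28, 14, 10]),
   ([13, 20], [20, 13]),
   ([13, 21], [21, 13, 10]),
   ([13, 28], [28, 13]),
   ([14, 20], [20, 14, 10]),
   ([14, 21], [21, 14]),
   ([14, 28], [28, 14]),
   ([10, 20], [20, 10]),
   ([10, 21], [21, 10]),
   ([10, 28], [28, 10]),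
   ([10, 13], [13, 10]),
   ([10, 14], [14, 10]),
   ([31, 28], [28, 31]),
   ([31, 13], [13, 31, 8]),
   ([31, 14], [14, 31, 9]),
   ([31, 10], [10, 31, 3, 1]),
   ([32, 28], [28, 32]),
   ([32, 13], [13, 32, 8, 9]),
   ([32, 14], [14, 32, 8]),
   ([32, 10], [10, 32, 4, 1]),
   ([16, 28], [28, 16, 8, 1]),
   ([16, 13], [13, 16, 3]),
   ([16, 14], [14, 16, 4]),
   ([16, 10], [10, 16]),
   ([17, 28], [28, 17, 9, 1]),
   ([17, 13], [13, 17, 3, 4]),
   ([17, 14], [14, 17, 3]),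
   ([17, 10], [10, 17]),
   ([26, 20], [20, 26, 11]),
   ([26, 21], [21, 26, 12]),
   ([27, 20], [20, 27, 11, 12]),
   ([27, 21], [21, 27, 11]),
   ([11, 20], [20, 11]),
   ([11, 21], [21, 11]),
   ([11, 26], [26, 11]),
   ([11, 27], [27, 11]),
   ([12, 20], [20, 12]),
   ([12, 21], [21, 12]),
   ([12, 26], [26, 12]),
   ([12, 27], [27, 12]),
   ([7, 20], [20, 7]),
   ([7, 21], [21, 7]),
   ([30, 26], [26, 30]),
   ([30, 27], [27, 30]),
   ([30, 7], [7, 30, 1]),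
   ([8, 20], [20, 8, 3]),
   ([8, 21], [21, 8, 4]),
   ([9, 20], [20, 9, 3, 4]),
   ([9, 21], [21, 9, 3]),
   ([50, 38], [38, 50]),
   ([50, 39], [39, 50]),
   ([25, 38], [38, 25, 26, 28]),
   ([25, 39], [39, 25, 27, 28]),
   ([26, 38], [38, 26]),
   ([26, 39], [39, 26, 28])]

/-- Relations, part 49. -/
def varTab49 : List (List ℕ × List ℕ) :=
  [([26, 50], [50, 26, 31, 24]),
   ([26, 25], [25, 26]),
   ([27, 38], [38, 27, 28]),
   ([27, 39], [39, 27]),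
   ([27, 50], [50, 27, 32, 24]),
   ([27, 25], [25, 27]),
   ([28, 25], [25, 28]),
   ([30, 38], [38, 30, 31, 35]),
   ([30, 39], [39, 30, 32, 35]),
   ([20, 38], [38, 20, 22]),
   ([20, 39], [39, 20, 22, 23]),
   ([20, 50], [50, 20]),
   ([20, 25], [25, 20]),
   ([20, 26], [26, 20, 11]),
   ([20, 27], [27, 20, 11, 12]),
   ([20, 28], [28, 20, 13, 10]),
   ([20, 30], [30, 20]),
   ([21, 38], [38, 21, 23]),
   ([21, 39], [39, 21, 22]),
   ([21, 50], [50, 21]),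
   ([21, 25], [25, 21]),
   ([21, 26], [26, 21, 12]),
   ([21, 27], [27, 21, 11]),
   ([21, 28], [28, 21, 14, 10]),
   ([21, 30], [30, 21]),
   ([31, 38], [38, 31]),
   ([31, 39], [39, 31, 35]),
   ([31, 50], [50, 31]),
   ([31, 25], [25, 31]),
   ([31, 26], [26, 31]),
   ([31, 27], [27, 31, 24]),
   ([31, 30], [30, 31]),
   ([32, 38], [38, 32, 35]),
   ([32, 39], [39, 32]),
   ([32, 50], [50, 32]),
   ([32, 25], [25, 32]),
   ([32, 26], [26, 32, 24]),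
   ([32, 27], [27, 32]),
   ([32, 30], [30, 32]),
   ([22, 38], [38, 22]),
   ([22, 39], [39, 22]),
   ([22, 25], [25, 22, 11, 10]),
   ([22, 26], [26, 22, 13]),
   ([22, 27], [27, 22, 14]),
   ([22, 28], [28, 22]),
   ([22, 30], [30, 22, 16, 15]),
   ([22, 20], [20, 22]),
   ([22, 21], [21, 22]),
   ([22, 31], [31, 22, 18]),
   ([22, 32], [32, 22, 19]),
   ([23, 38], [38, 23]),
   ([23, 39], [39, 23]),
   ([23, 25], [25, 23, 12, 10]),
   ([23, 26], [26, 23, 14]),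
   ([23, 27], [27, 23, 13, 14]),
   ([23, 28], [28, 23]),
   ([23, 30], [30, 23, 17, 15]),
   ([23, 20], [20, 23]),
   ([23, 21], [21, 23]),
   ([23, 31], [31, 23, 19]),
   ([23, 32], [32, 23, 18, 19]),
   ([35, 38], [38, 35]),
   ([35, 39], [39, 35]),
   ([35, 25], [25, 35, 24])]

/-- Relations, part 50. -/
def varTab50 : List (List ℕ × List ℕ) :=
  [([35, 30], [30, 35]),
   ([35, 31], [31, 35]),
   ([35, 32], [32, 35]),
   ([11, 38], [38, 11, 13]),
   ([11, 39], [39, 11, 14]),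
   ([11, 50], [50, 11, 16, 2]),
   ([11, 25], [25, 11]),
   ([11, 22], [22, 11]),
   ([11, 23], [23, 11, 10]),
   ([12, 38], [38, 12, 14]),
   ([12, 39], [39, 12, 13, 14]),
   ([12, 50], [50, 12, 17, 2]),
   ([12, 25], [25, 12]),
   ([12, 22], [22, 12, 10]),
   ([12, 23], [23, 12]),
   ([24, 38], [38, 24]),
   ([24, 39], [39, 24]),
   ([24, 50], [50, 24]),
   ([24, 22], [22, 24, 8, 7]),
   ([24, 23], [23, 24, 9, 7]),
   ([13, 38], [38, 13]),
   ([13, 39], [39, 13]),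
   ([13, 50], [50, 13, 18, 7]),
   ([13, 25], [25, 13]),
   ([13, 26], [26, 13]),
   ([13, 27], [27, 13]),
   ([13, 30], [30, 13, 5, 0]),
   ([13, 22], [22, 13]),
   ([13, 23], [23, 13]),
   ([13, 11], [11, 13]),
   ([13, 12], [12, 13]),
   ([13, 24], [24, 13]),
   ([14, 38], [38, 14]),
   ([14, 39], [39, 14]),
   ([14, 50], [50, 14, 19, 7]),
   ([14, 25], [25, 14]),
   ([14, 26], [26, 14]),
   ([14, 27], [27, 14]),
   ([14, 30], [30, 14, 6, 0]),
   ([14, 22], [22, 14]),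
   ([14, 23], [23, 14]),
   ([14, 11], [11, 14]),
   ([14, 12], [12, 14]),
   ([14, 24], [24, 14]),
   ([16, 38], [38, 16, 18]),
   ([16, 39], [39, 16, 19]),
   ([16, 26], [26, 16, 5]),
   ([16, 27], [27, 16, 6]),
   ([16, 30], [30, 16]),
   ([16, 22], [22, 16]),
   ([16, 23], [23, 16, 15]),
   ([17, 38], [38, 17, 19]),
   ([17, 39], [39, 17, 18, 19]),
   ([17, 26], [26, 17, 6]),
   ([17, 27], [27, 17, 5, 6]),
   ([17, 30], [30, 17]),
   ([17, 22], [22, 17, 15]),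
   ([17, 23], [23, 17]),
   ([18, 38], [38, 18]),
   ([18, 39], [39, 18]),
   ([18, 25], [25, 18, 5, 1]),
   ([18, 26], [26, 18, 8]),
   ([18, 27], [27, 18, 8, 9]),
   ([18, 28], [28, 18])]

/-- Relations, part 51. -/
def varTab51 : List (List ℕ × List ℕ) :=
  [([18, 30], [30, 18]),
   ([18, 31], [31, 18]),
   ([18, 32], [32, 18]),
   ([18, 22], [22, 18]),
   ([18, 23], [23, 18]),
   ([18, 11], [11, 18, 3]),
   ([18, 12], [12, 18, 3, 4]),
   ([18, 24], [24, 18]),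
   ([18, 16], [16, 18]),
   ([18, 17], [17, 18]),
   ([19, 38], [38, 19]),
   ([19, 39], [39, 19]),
   ([19, 25], [25, 19, 6, 1]),
   ([19, 26], [26, 19, 9]),
   ([19, 27], [27, 19, 8]),
   ([19, 28], [28, 19]),
   ([19, 30], [30, 19]),
   ([19, 31], [31, 19]),
   ([19, 32], [32, 19]),
   ([19, 22], [22, 19]),
   ([19, 23], [23, 19]),
   ([19, 11], [11, 19, 4]),
   ([19, 12], [12, 19, 3]),
   ([19, 24], [24, 19]),
   ([19, 16], [16, 19]),
   ([19, 17], [17, 19]),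
   ([5, 38], [38, 5, 8]),
   ([5, 39], [39, 5, 8, 9]),
   ([5, 22], [22, 5, 3]),
   ([5, 23], [23, 5, 3, 4]),
   ([6, 38], [38, 6, 9]),
   ([6, 39], [39, 6, 8]),
   ([6, 22], [22, 6, 4]),
   ([6, 23], [23, 6, 3]),
   ([10, 38], [38, 10]),
   ([10, 39], [39, 10]),
   ([10, 50], [50, 10, 15]),
   ([10, 25], [25, 10]),
   ([10, 26], [26, 10]),
   ([10, 27], [27, 10]),
   ([10, 30], [30, 10, 2]),
   ([10, 22], [22, 10]),
   ([10, 23], [23, 10]),
   ([10, 11], [11, 10]),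
   ([10, 12], [12, 10]),
   ([10, 24], [24, 10, 0]),
   ([10, 5], [5, 10]),
   ([10, 6], [6, 10]),
   ([8, 38], [38, 8]),
   ([8, 39], [39, 8]),
   ([8, 50], [50, 8]),
   ([8, 22], [22, 8]),
   ([8, 23], [23, 8, 7]),
   ([8, 24], [24, 8]),
   ([8, 5], [5, 8]),
   ([8, 6], [6, 8]),
   ([9, 38], [38, 9]),
   ([9, 39], [39, 9]),
   ([9, 50], [50, 9]),
   ([9, 22], [22, 9, 7]),
   ([9, 23], [23, 9]),
   ([9, 24], [24, 9]),
   ([9, 5], [5, 9]),
   ([9, 6], [6, 9])]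

/-- Relations, part 52. -/
def varTab52 : List (List ℕ × List ℕ) :=
  [([15, 38], [38, 15]),
   ([15, 39], [39, 15]),
   ([15, 50], [50, 15]),
   ([15, 25], [25, 15, 2]),
   ([15, 26], [26, 15, 3, 0]),
   ([15, 27], [27, 15, 4, 0]),
   ([15, 28], [28, 15, 7]),
   ([15, 30], [30, 15]),
   ([15, 22], [22, 15]),
   ([15, 23], [23, 15]),
   ([15, 24], [24, 15, 1]),
   ([15, 13], [13, 15]),
   ([15, 14], [14, 15]),
   ([15, 16], [16, 15]),
   ([15, 17], [17, 15]),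
   ([15, 5], [5, 15]),
   ([15, 6], [6, 15]),
   ([15, 10], [10, 15]),
   ([2, 38], [38, 2, 3, 7]),
   ([2, 39], [39, 2, 4, 7]),
   ([2, 22], [22, 2]),
   ([2, 23], [23, 2]),
   ([3, 38], [38, 3]),
   ([3, 39], [39, 3, 7]),
   ([3, 50], [50, 3]),
   ([3, 22], [22, 3]),
   ([3, 23], [23, 3]),
   ([3, 24], [24, 3]),
   ([3, 5], [5, 3]),
   ([3, 6], [6, 3]),
   ([3, 2], [2, 3]),
   ([4, 38], [38, 4, 7]),
   ([4, 39], [39, 4]),
   ([4, 50], [50, 4]),
   ([4, 22], [22, 4]),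
   ([4, 23], [23, 4]),
   ([4, 24], [24, 4]),
   ([4, 5], [5, 4]),
   ([4, 6], [6, 4]),
   ([4, 2], [2, 4]),
   ([7, 38], [38, 7]),
   ([7, 39], [39, 7]),
   ([7, 25], [25, 7, 0]),
   ([7, 24], [24, 7]),
   ([7, 5], [5, 7]),
   ([7, 6], [6, 7]),
   ([7, 2], [2, 7]),
   ([7, 3], [3, 7]),
   ([7, 4], [4, 7]),
   ([0, 38], [38, 0]),
   ([0, 39], [39, 0]),
   ([0, 50], [50, 0, 1]),
   ([0, 22], [22, 0]),
   ([0, 23], [23, 0]),
   ([1, 38], [38, 1]),
   ([1, 39], [39, 1]),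
   ([1, 22], [22, 1]),
   ([1, 23], [23, 1]),
   ([43, 30], [30, 43, 33, 42]),
   ([44, 30], [30, 44, 34, 42]),
   ([33, 30], [30, 33]),
   ([33, 43], [43, 33]),
   ([33, 44], [44, 33, 42]),
   ([34, 30], [30, 34])]

/-- Relations, part 53. -/
def varTab53 : List (List ℕ × List ℕ) :=
  [([34, 43], [43, 34, 42]),
   ([34, 44], [44, 34]),
   ([42, 30], [30, 42]),
   ([40, 30], [30, 40]),
   ([41, 30], [30, 41]),
   ([48, 30], [30, 48, 36, 64]),
   ([49, 30], [30, 49, 37, 64]),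
   ([36, 30], [30, 36]),
   ([36, 56], [56, 36, 57, 65]),
   ([36, 50], [50, 36]),
   ([36, 48], [48, 36]),
   ([36, 49], [49, 36, 64]),
   ([37, 30], [30, 37]),
   ([37, 56], [56, 37, 58, 65]),
   ([37, 50], [50, 37]),
   ([37, 48], [48, 37, 64]),
   ([37, 49], [49, 37]),
   ([45, 30], [30, 45]),
   ([45, 56], [56, 45, 62, 70]),
   ([46, 30], [30, 46]),
   ([46, 56], [56, 46, 63, 70]),
   ([51, 43], [43, 51]),
   ([51, 44], [44, 51]),
   ([51, 48], [48, 51, 60, 70]),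
   ([51, 49], [49, 51, 61, 70]),
   ([64, 30], [30, 64]),
   ([54, 48], [48, 54, 67]),
   ([54, 49], [49, 54, 67, 68]),
   ([55, 48], [48, 55, 68]),
   ([55, 49], [49, 55, 67]),
   ([70, 30], [30, 70, 66]),
   ([47, 33], [33, 47, 43, 42]),
   ([47, 34], [34, 47, 44, 42]),
   ([16, 47], [47, 16, 22, 15]),
   ([16, 69], [69, 16, 57, 50]),
   ([17, 47], [47, 17, 23, 15]),
   ([17, 69], [69, 17, 58, 50]),
   ([43, 18], [18, 43, 22]),
   ([43, 19], [19, 43, 23]),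
   ([43, 69], [69, 43]),
   ([43, 16], [16, 43, 20]),
   ([43, 17], [17, 43, 21]),
   ([44, 18], [18, 44, 22, 23]),
   ([44, 19], [19, 44, 22]),
   ([44, 69], [69, 44]),
   ([44, 16], [16, 44, 21]),
   ([44, 17], [17, 44, 20, 21]),
   ([42, 69], [69, 42, 70]),
   ([42, 16], [16, 42]),
   ([42, 17], [17, 42]),
   ([42, 67], [67, 42]),
   ([42, 68], [68, 42]),
   ([22, 33], [33, 22, 20]),
   ([22, 34], [34, 22, 21]),
   ([22, 47], [47, 22]),
   ([22, 69], [69, 22]),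
   ([22, 16], [16, 22]),
   ([22, 17], [17, 22, 15]),
   ([23, 33], [33, 23, 21]),
   ([23, 34], [34, 23, 20, 21]),
   ([23, 47], [47, 23]),
   ([23, 69], [69, 23]),
   ([23, 16], [16, 23, 15]),
   ([23, 17], [17, 23])]

/-- Relations, part 54. -/
def varTab54 : List (List ℕ × List ℕ) :=
  [([20, 33], [33, 20]),
   ([20, 34], [34, 20]),
   ([20, 47], [47, 20]),
   ([20, 69], [69, 20, 62, 59]),
   ([20, 16], [16, 20]),
   ([20, 17], [17, 20]),
   ([20, 43], [43, 20]),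
   ([20, 44], [44, 20]),
   ([20, 67], [67, 20, 60]),
   ([20, 68], [68, 20, 60, 61]),
   ([20, 22], [22, 20]),
   ([20, 23], [23, 20]),
   ([20, 66], [66, 20]),
   ([20, 57], [57, 20, 52]),
   ([20, 58], [58, 20, 52, 53]),
   ([21, 33], [33, 21]),
   ([21, 34], [34, 21]),
   ([21, 47], [47, 21]),
   ([21, 69], [69, 21, 63, 59]),
   ([21, 16], [16, 21]),
   ([21, 17], [17, 21]),
   ([21, 43], [43, 21]),
   ([21, 44], [44, 21]),
   ([21, 67], [67, 21, 61]),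
   ([21, 68], [68, 21, 60]),
   ([21, 22], [22, 21]),
   ([21, 23], [23, 21]),
   ([21, 66], [66, 21]),
   ([21, 57], [57, 21, 53]),
   ([21, 58], [58, 21, 52]),
   ([15, 47], [47, 15]),
   ([15, 69], [69, 15, 56]),
   ([15, 43], [43, 15]),
   ([15, 44], [44, 15]),
   ([15, 67], [67, 15, 52, 71]),
   ([15, 68], [68, 15, 53, 71]),
   ([15, 66], [66, 15, 51]),
   ([15, 57], [57, 15]),
   ([15, 58], [58, 15]),
   ([15, 54], [54, 15]),
   ([15, 55], [55, 15]),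
   ([15, 70], [70, 15, 59]),
   ([50, 47], [47, 50, 56]),
   ([50, 22], [22, 50]),
   ([50, 23], [23, 50]),
   ([52, 47], [47, 52]),
   ([53, 47], [47, 53]),
   ([30, 43], [43, 30, 33, 42]),
   ([30, 44], [44, 30, 34, 42]),
   ([30, 59], [59, 30, 51]),
   ([8, 43], [43, 8, 13]),
   ([8, 44], [44, 8, 14]),
   ([8, 59], [59, 8, 22, 7]),
   ([8, 42], [42, 8, 11, 0]),
   ([8, 51], [51, 8, 16, 1]),
   ([9, 43], [43, 9, 14]),
   ([9, 44], [44, 9, 13, 14]),
   ([9, 59], [59, 9, 23, 7]),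
   ([9, 42], [42, 9, 12, 0]),
   ([9, 51], [51, 9, 17, 1]),
   ([13, 52], [52, 13, 22]),
   ([13, 53], [53, 13, 22, 23]),
   ([13, 59], [59, 13]),
   ([13, 42], [42, 13])]

/-- Relations, part 55. -/
def varTab55 : List (List ℕ × List ℕ) :=
  [([13, 51], [51, 13, 20, 10]),
   ([14, 52], [52, 14, 23]),
   ([14, 53], [53, 14, 22]),
   ([14, 59], [59, 14]),
   ([14, 42], [42, 14]),
   ([14, 51], [51, 14, 21, 10]),
   ([18, 59], [59, 18]),
   ([18, 42], [42, 18, 20, 15]),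
   ([18, 51], [51, 18]),
   ([19, 59], [59, 19]),
   ([19, 42], [42, 19, 21, 15]),
   ([19, 51], [51, 19]),
   ([22, 51], [51, 22]),
   ([23, 51], [51, 23]),
   ([5, 43], [43, 5, 11]),
   ([5, 44], [44, 5, 11, 12]),
   ([5, 59], [59, 5, 20, 2]),
   ([6, 43], [43, 6, 12]),
   ([6, 44], [44, 6, 11]),
   ([6, 59], [59, 6, 21, 2]),
   ([11, 43], [43, 11]),
   ([11, 44], [44, 11]),
   ([11, 59], [59, 11]),
   ([11, 51], [51, 11]),
   ([11, 5], [5, 11]),
   ([11, 6], [6, 11]),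
   ([12, 43], [43, 12]),
   ([12, 44], [44, 12]),
   ([12, 59], [59, 12]),
   ([12, 51], [51, 12]),
   ([12, 5], [5, 12]),
   ([12, 6], [6, 12]),
   ([16, 43], [43, 16, 20]),
   ([16, 44], [44, 16, 21]),
   ([16, 59], [59, 16]),
   ([17, 43], [43, 17, 21]),
   ([17, 44], [44, 17, 20, 21]),
   ([17, 59], [59, 17]),
   ([20, 59], [59, 20]),
   ([20, 51], [51, 20]),
   ([20, 13], [13, 20]),
   ([20, 14], [14, 20, 10]),
   ([20, 5], [5, 20]),
   ([20, 6], [6, 20, 2]),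
   ([21, 59], [59, 21]),
   ([21, 51], [51, 21]),
   ([21, 13], [13, 21, 10]),
   ([21, 14], [14, 21]),
   ([21, 5], [5, 21, 2]),
   ([21, 6], [6, 21]),
   ([7, 42], [42, 7, 10]),
   ([7, 51], [51, 7, 15]),
   ([0, 43], [43, 0]),
   ([0, 44], [44, 0]),
   ([0, 59], [59, 0, 10]),
   ([0, 51], [51, 0, 2]),
   ([1, 43], [43, 1, 3, 10]),
   ([1, 44], [44, 1, 4, 10]),
   ([1, 59], [59, 1, 15]),
   ([3, 43], [43, 3]),
   ([3, 44], [44, 3, 10]),
   ([3, 59], [59, 3]),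
   ([3, 51], [51, 3]),
   ([3, 1], [1, 3])]

/-- Relations, part 56. -/
def varTab56 : List (List ℕ × List ℕ) :=
  [([4, 43], [43, 4, 10]),
   ([4, 44], [44, 4]),
   ([4, 59], [59, 4]),
   ([4, 51], [51, 4]),
   ([4, 1], [1, 4]),
   ([10, 43], [43, 10]),
   ([10, 44], [44, 10]),
   ([10, 52], [52, 10]),
   ([10, 53], [53, 10]),
   ([10, 59], [59, 10]),
   ([10, 42], [42, 10]),
   ([10, 51], [51, 10]),
   ([10, 8], [8, 10]),
   ([10, 9], [9, 10]),
   ([10, 7], [7, 10]),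
   ([10, 0], [0, 10]),
   ([10, 1], [1, 10]),
   ([10, 3], [3, 10]),
   ([10, 4], [4, 10]),
   ([15, 59], [59, 15]),
   ([15, 51], [51, 15]),
   ([15, 7], [7, 15]),
   ([15, 1], [1, 15]),
   ([2, 43], [43, 2]),
   ([2, 44], [44, 2]),
   ([2, 59], [59, 2]),
   ([45, 15], [15, 45, 20, 42]),
   ([46, 15], [15, 46, 21, 42]),
   ([48, 15], [15, 48, 22, 47]),
   ([49, 15], [15, 49, 23, 47]),
   ([20, 15], [15, 20]),
   ([20, 45], [45, 20]),
   ([20, 46], [46, 20, 42]),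
   ([20, 48], [48, 20, 43]),
   ([20, 49], [49, 20, 43, 44]),
   ([21, 15], [15, 21]),
   ([21, 45], [45, 21, 42]),
   ([21, 46], [46, 21]),
   ([21, 48], [48, 21, 44]),
   ([21, 49], [49, 21, 43]),
   ([22, 15], [15, 22]),
   ([22, 48], [48, 22]),
   ([22, 49], [49, 22, 47]),
   ([23, 15], [15, 23]),
   ([23, 48], [48, 23, 47]),
   ([23, 49], [49, 23]),
   ([42, 15], [15, 42]),
   ([42, 45], [45, 42]),
   ([42, 46], [46, 42]),
   ([42, 48], [48, 42]),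
   ([42, 49], [49, 42]),
   ([42, 20], [20, 42]),
   ([42, 21], [21, 42]),
   ([43, 15], [15, 43]),
   ([43, 48], [48, 43]),
   ([43, 49], [49, 43]),
   ([43, 20], [20, 43]),
   ([43, 21], [21, 43]),
   ([44, 15], [15, 44]),
   ([44, 48], [48, 44]),
   ([44, 49], [49, 44]),
   ([44, 20], [20, 44]),
   ([44, 21], [21, 44]),
   ([47, 15], [15, 47])]

/-- Relations, part 57. -/
def varTab57 : List (List ℕ × List ℕ) :=
  [([47, 20], [20, 47]),
   ([47, 21], [21, 47]),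
   ([50, 45], [45, 50, 54, 66]),
   ([50, 46], [46, 50, 55, 66]),
   ([50, 48], [48, 50, 57, 69]),
   ([50, 49], [49, 50, 58, 69]),
   ([31, 51], [51, 31]),
   ([32, 51], [51, 32]),
   ([29, 31], [31, 29, 26, 24]),
   ([29, 32], [32, 29, 27, 24]),
   ([42, 31], [31, 42, 33, 30]),
   ([42, 32], [32, 42, 34, 30]),
   ([26, 42], [42, 26]),
   ([27, 42], [42, 27]),
   ([22, 29], [29, 22]),
   ([23, 29], [29, 23]),
   ([33, 22], [22, 33, 20]),
   ([33, 23], [23, 33, 21]),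
   ([34, 22], [22, 34, 21]),
   ([34, 23], [23, 34, 20, 21]),
   ([24, 51], [51, 24, 30]),
   ([30, 22], [22, 30, 16, 15]),
   ([30, 23], [23, 30, 17, 15]),
   ([25, 22], [22, 25, 11, 10]),
   ([25, 23], [23, 25, 12, 10]),
   ([20, 31], [31, 20, 16]),
   ([20, 32], [32, 20, 16, 17]),
   ([20, 29], [29, 20]),
   ([20, 24], [24, 20, 5, 2]),
   ([21, 31], [31, 21, 17]),
   ([21, 32], [32, 21, 16]),
   ([21, 29], [29, 21]),
   ([21, 24], [24, 21, 6, 2]),
   ([11, 24], [24, 11]),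
   ([12, 24], [24, 12]),
   ([42, 57], [57, 42, 60, 71]),
   ([42, 58], [58, 42, 61, 71]),
   ([22, 35], [35, 22]),
   ([23, 35], [35, 23]),
   ([51, 26], [26, 51, 33, 25]),
   ([51, 27], [27, 51, 34, 25]),
   ([51, 13], [13, 51, 20, 10]),
   ([51, 14], [14, 51, 21, 10]),
   ([50, 26], [26, 50, 31, 24]),
   ([50, 27], [27, 50, 32, 24]),
   ([33, 13], [13, 33, 11]),
   ([33, 14], [14, 33, 12]),
   ([34, 13], [13, 34, 11, 12]),
   ([34, 14], [14, 34, 11]),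
   ([31, 22], [22, 31, 18]),
   ([31, 23], [23, 31, 19]),
   ([32, 22], [22, 32, 19]),
   ([32, 23], [23, 32, 18, 19]),
   ([16, 7], [7, 16]),
   ([17, 7], [7, 17]),
   ([36, 38], [38, 36, 40]),
   ([36, 39], [39, 36, 41]),
   ([37, 38], [38, 37, 41]),
   ([37, 39], [39, 37, 40, 41]),
   ([42, 36], [36, 42]),
   ([42, 37], [37, 42]),
   ([43, 36], [36, 43, 45]),
   ([43, 37], [37, 43, 46]),
   ([44, 36], [36, 44, 46])]

/-- Relations, part 58. -/
def varTab58 : List (List ℕ × List ℕ) :=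
  [([44, 37], [37, 44, 45, 46]),
   ([28, 42], [42, 28, 29]),
   ([33, 28], [28, 33, 26, 25]),
   ([34, 28], [28, 34, 27, 25]),
   ([29, 42], [42, 29]),
   ([29, 28], [28, 29]),
   ([29, 16], [16, 29, 11, 2]),
   ([29, 17], [17, 29, 12, 2]),
   ([26, 7], [7, 26]),
   ([27, 7], [7, 27]),
   ([11, 7], [7, 11]),
   ([12, 7], [7, 12]),
   ([11, 54], [54, 11, 33]),
   ([11, 55], [55, 11, 34]),
   ([12, 54], [54, 12, 33, 34]),
   ([12, 55], [55, 12, 33]),
   ([26, 65], [65, 26]),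
   ([27, 65], [65, 27]),
   ([7, 54], [54, 7, 18, 50]),
   ([7, 55], [55, 7, 19, 50]),
   ([18, 54], [54, 18]),
   ([18, 55], [55, 18, 50]),
   ([18, 7], [7, 18]),
   ([19, 54], [54, 19, 50]),
   ([19, 55], [55, 19]),
   ([19, 7], [7, 19]),
   ([35, 51], [51, 35, 50]),
   ([35, 11], [11, 35, 8, 0]),
   ([35, 12], [12, 35, 9, 0]),
   ([50, 7], [7, 50]),
   ([3, 54], [54, 3, 16]),
   ([3, 55], [55, 3, 17]),
   ([4, 54], [54, 4, 16, 17]),
   ([4, 55], [55, 4, 16]),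
   ([8, 54], [54, 8, 31]),
   ([8, 55], [55, 8, 32]),
   ([8, 65], [65, 8]),
   ([9, 54], [54, 9, 31, 32]),
   ([9, 55], [55, 9, 31]),
   ([9, 65], [65, 9]),
   ([31, 7], [7, 31]),
   ([32, 7], [7, 32]),
   ([0, 54], [54, 0, 5, 30]),
   ([0, 55], [55, 0, 6, 30]),
   ([66, 28], [28, 66, 64]),
   ([64, 18], [18, 64, 40, 35]),
   ([64, 19], [19, 64, 41, 35]),
   ([54, 28], [28, 54, 40, 65]),
   ([55, 28], [28, 55, 41, 65]),
   ([11, 66], [66, 11]),
   ([11, 64], [64, 11]),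
   ([12, 66], [66, 12]),
   ([12, 64], [64, 12]),
   ([50, 28], [28, 50, 35]),
   ([3, 66], [66, 3, 33, 2]),
   ([3, 64], [64, 3, 26, 0]),
   ([4, 66], [66, 4, 34, 2]),
   ([4, 64], [64, 4, 27, 0]),
   ([65, 11], [11, 65, 36, 25]),
   ([65, 12], [12, 65, 37, 25]),
   ([65, 3], [3, 65, 31, 1]),
   ([65, 4], [4, 65, 32, 1]),
   ([33, 64], [64, 33]),
   ([34, 64], [64, 34])]

/-- Relations, part 59. -/
def varTab59 : List (List ℕ × List ℕ) :=
  [([26, 66], [66, 26]),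
   ([26, 64], [64, 26]),
   ([26, 3], [3, 26]),
   ([26, 4], [4, 26, 0]),
   ([27, 66], [66, 27]),
   ([27, 64], [64, 27]),
   ([27, 3], [3, 27, 0]),
   ([27, 4], [4, 27]),
   ([16, 64], [64, 16, 36, 30]),
   ([17, 64], [64, 17, 37, 30]),
   ([8, 66], [66, 8, 36, 24]),
   ([9, 66], [66, 9, 37, 24]),
   ([36, 28], [28, 36]),
   ([36, 64], [64, 36]),
   ([36, 35], [35, 36]),
   ([36, 16], [16, 36]),
   ([36, 17], [17, 36, 30]),
   ([37, 28], [28, 37]),
   ([37, 64], [64, 37]),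
   ([37, 35], [35, 37]),
   ([37, 16], [16, 37, 30]),
   ([37, 17], [17, 37]),
   ([31, 64], [64, 31]),
   ([32, 64], [64, 32]),
   ([2, 64], [64, 2, 25]),
   ([0, 66], [66, 0, 25]),
   ([0, 64], [64, 0]),
   ([25, 64], [64, 25]),
   ([25, 2], [2, 25]),
   ([5, 64], [64, 5]),
   ([6, 64], [64, 6]),
   ([1, 64], [64, 1, 24]),
   ([30, 64], [64, 30]),
   ([24, 64], [64, 24]),
   ([24, 1], [1, 24]),
   ([24, 70], [70, 24, 64]),
   ([13, 70], [70, 13]),
   ([14, 70], [70, 14]),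
   ([64, 13], [13, 64]),
   ([64, 14], [14, 64]),
   ([31, 70], [70, 31, 67, 65]),
   ([32, 70], [70, 32, 68, 65]),
   ([22, 24], [24, 22, 8, 7]),
   ([23, 24], [24, 23, 9, 7]),
   ([8, 70], [70, 8, 48, 28]),
   ([8, 67], [67, 8, 40]),
   ([8, 68], [68, 8, 41]),
   ([8, 71], [71, 8, 57, 35]),
   ([9, 70], [70, 9, 49, 28]),
   ([9, 67], [67, 9, 41]),
   ([9, 68], [68, 9, 40, 41]),
   ([9, 71], [71, 9, 58, 35]),
   ([48, 31], [31, 48, 40]),
   ([48, 32], [32, 48, 41]),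
   ([49, 31], [31, 49, 41]),
   ([49, 32], [32, 49, 40, 41]),
   ([18, 70], [70, 18, 62, 56]),
   ([18, 71], [71, 18]),
   ([18, 48], [48, 18, 38]),
   ([18, 49], [49, 18, 38, 39]),
   ([19, 70], [70, 19, 63, 56]),
   ([19, 71], [71, 19]),
   ([19, 48], [48, 19, 39]),
   ([19, 49], [49, 19, 38])]

/-- Relations, part 60. -/
def varTab60 : List (List ℕ × List ℕ) :=
  [([7, 71], [71, 7, 56]),
   ([7, 62], [62, 7]),
   ([7, 63], [63, 7]),
   ([40, 70], [70, 40]),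
   ([40, 31], [31, 40]),
   ([40, 32], [32, 40]),
   ([40, 71], [71, 40]),
   ([40, 48], [48, 40]),
   ([40, 49], [49, 40]),
   ([40, 7], [7, 40]),
   ([41, 70], [70, 41]),
   ([41, 31], [31, 41]),
   ([41, 32], [32, 41]),
   ([41, 71], [71, 41]),
   ([41, 48], [48, 41]),
   ([41, 49], [49, 41]),
   ([41, 7], [7, 41]),
   ([47, 31], [31, 47, 38, 35]),
   ([47, 32], [32, 47, 39, 35]),
   ([28, 71], [71, 28, 69]),
   ([28, 62], [62, 28]),
   ([28, 63], [63, 28]),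
   ([38, 31], [31, 38]),
   ([38, 32], [32, 38, 35]),
   ([38, 47], [47, 38]),
   ([39, 31], [31, 39, 35]),
   ([39, 32], [32, 39]),
   ([39, 47], [47, 39]),
   ([35, 62], [62, 35]),
   ([35, 63], [63, 35]),
   ([35, 47], [47, 35]),
   ([47, 25], [25, 47, 29]),
   ([40, 16], [16, 40, 31]),
   ([40, 17], [17, 40, 31, 32]),
   ([41, 16], [16, 41, 32]),
   ([41, 17], [17, 41, 31]),
   ([11, 47], [47, 11]),
   ([12, 47], [47, 12]),
   ([31, 47], [47, 31, 38, 35]),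
   ([32, 47], [47, 32, 39, 35]),
   ([2, 47], [47, 2, 10]),
   ([38, 25], [25, 38, 26, 28]),
   ([38, 16], [16, 38, 18]),
   ([38, 17], [17, 38, 19]),
   ([38, 11], [11, 38, 13]),
   ([38, 12], [12, 38, 14]),
   ([38, 15], [15, 38]),
   ([38, 2], [2, 38, 3, 7]),
   ([39, 25], [25, 39, 27, 28]),
   ([39, 16], [16, 39, 19]),
   ([39, 17], [17, 39, 18, 19]),
   ([39, 11], [11, 39, 14]),
   ([39, 12], [12, 39, 13, 14]),
   ([39, 15], [15, 39]),
   ([39, 2], [2, 39, 4, 7]),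
   ([10, 47], [47, 10]),
   ([10, 2], [2, 10]),
   ([26, 22], [22, 26, 13]),
   ([26, 23], [23, 26, 14]),
   ([26, 2], [2, 26]),
   ([27, 22], [22, 27, 14]),
   ([27, 23], [23, 27, 13, 14]),
   ([27, 2], [2, 27]),
   ([18, 47], [47, 18])]

/-- Relations, part 61. -/
def varTab61 : List (List ℕ × List ℕ) :=
  [([18, 2], [2, 18]),
   ([18, 10], [10, 18]),
   ([19, 47], [47, 19]),
   ([19, 2], [2, 19]),
   ([19, 10], [10, 19]),
   ([5, 47], [47, 5, 13, 0]),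
   ([6, 47], [47, 6, 14, 0]),
   ([13, 47], [47, 13]),
   ([13, 2], [2, 13]),
   ([13, 5], [5, 13]),
   ([13, 6], [6, 13, 0]),
   ([14, 47], [47, 14]),
   ([14, 2], [2, 14]),
   ([14, 5], [5, 14, 0]),
   ([14, 6], [6, 14]),
   ([35, 16], [16, 35]),
   ([35, 17], [17, 35]),
   ([35, 2], [2, 35, 1]),
   ([35, 10], [10, 35, 7]),
   ([35, 5], [5, 35]),
   ([35, 6], [6, 35]),
   ([3, 47], [47, 3]),
   ([4, 47], [47, 4]),
   ([24, 47], [47, 24, 28]),
   ([28, 11], [11, 28]),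
   ([28, 12], [12, 28]),
   ([28, 2], [2, 28, 0]),
   ([28, 5], [5, 28]),
   ([28, 6], [6, 28]),
   ([28, 3], [3, 28]),
   ([28, 4], [4, 28]),
   ([8, 47], [47, 8]),
   ([8, 2], [2, 8]),
   ([9, 47], [47, 9]),
   ([9, 2], [2, 9]),
   ([1, 47], [47, 1, 7]),
   ([7, 47], [47, 7]),
   ([7, 1], [1, 7]),
   ([0, 47], [47, 0]),
   ([43, 35], [35, 43, 38, 47]),
   ([44, 35], [35, 44, 39, 47]),
   ([45, 35], [35, 45, 40, 64]),
   ([46, 35], [35, 46, 41, 64]),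
   ([62, 11], [11, 62, 43]),
   ([62, 12], [12, 62, 43, 44]),
   ([62, 1], [1, 62, 18, 56]),
   ([62, 2], [2, 62, 20, 59]),
   ([63, 11], [11, 63, 44]),
   ([63, 12], [12, 63, 43]),
   ([63, 1], [1, 63, 19, 56]),
   ([63, 2], [2, 63, 21, 59]),
   ([0, 62], [62, 0, 13, 47]),
   ([0, 63], [63, 0, 14, 47]),
   ([52, 28], [28, 52, 38, 56]),
   ([52, 11], [11, 52, 20]),
   ([52, 12], [12, 52, 21]),
   ([52, 1], [1, 52]),
   ([52, 2], [2, 52]),
   ([52, 0], [0, 52, 3, 15]),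
   ([53, 28], [28, 53, 39, 56]),
   ([53, 11], [11, 53, 21]),
   ([53, 12], [12, 53, 20, 21]),
   ([53, 1], [1, 53]),
   ([53, 2], [2, 53])]

/-- Relations, part 62. -/
def varTab62 : List (List ℕ × List ℕ) :=
  [([53, 0], [0, 53, 4, 15]),
   ([38, 1], [1, 38]),
   ([38, 0], [0, 38]),
   ([39, 1], [1, 39]),
   ([39, 0], [0, 39]),
   ([43, 28], [28, 43]),
   ([43, 11], [11, 43]),
   ([43, 12], [12, 43]),
   ([43, 1], [1, 43, 3, 10]),
   ([43, 2], [2, 43]),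
   ([43, 62], [62, 43]),
   ([43, 63], [63, 43]),
   ([43, 0], [0, 43]),
   ([44, 28], [28, 44]),
   ([44, 11], [11, 44]),
   ([44, 12], [12, 44]),
   ([44, 1], [1, 44, 4, 10]),
   ([44, 2], [2, 44]),
   ([44, 62], [62, 44]),
   ([44, 63], [63, 44]),
   ([44, 0], [0, 44]),
   ([18, 1], [1, 18]),
   ([18, 62], [62, 18]),
   ([18, 63], [63, 18, 56]),
   ([18, 0], [0, 18]),
   ([19, 1], [1, 19]),
   ([19, 62], [62, 19, 56]),
   ([19, 63], [63, 19]),
   ([19, 0], [0, 19]),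
   ([20, 1], [1, 20]),
   ([20, 2], [2, 20]),
   ([20, 62], [62, 20]),
   ([20, 63], [63, 20, 59]),
   ([20, 0], [0, 20]),
   ([21, 1], [1, 21]),
   ([21, 2], [2, 21]),
   ([21, 62], [62, 21, 59]),
   ([21, 63], [63, 21]),
   ([21, 0], [0, 21]),
   ([13, 1], [1, 13]),
   ([13, 62], [62, 13]),
   ([13, 63], [63, 13, 47]),
   ([13, 0], [0, 13]),
   ([14, 1], [1, 14]),
   ([14, 62], [62, 14, 47]),
   ([14, 63], [63, 14]),
   ([14, 0], [0, 14]),
   ([3, 62], [62, 3, 22]),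
   ([3, 63], [63, 3, 23]),
   ([4, 62], [62, 4, 22, 23]),
   ([4, 63], [63, 4, 22]),
   ([56, 11], [11, 56, 22, 10]),
   ([56, 12], [12, 56, 23, 10]),
   ([56, 1], [1, 56]),
   ([56, 2], [2, 56, 15]),
   ([56, 0], [0, 56, 7]),
   ([56, 3], [3, 56]),
   ([56, 4], [4, 56]),
   ([59, 28], [28, 59, 47]),
   ([59, 11], [11, 59]),
   ([59, 12], [12, 59]),
   ([59, 1], [1, 59, 15]),
   ([59, 2], [2, 59]),
   ([59, 0], [0, 59, 10])]

/-- Relations, part 63. -/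
def varTab63 : List (List ℕ × List ℕ) :=
  [([59, 3], [3, 59]),
   ([59, 4], [4, 59]),
   ([47, 16], [16, 47, 22, 15]),
   ([47, 17], [17, 47, 23, 15]),
   ([47, 11], [11, 47]),
   ([47, 12], [12, 47]),
   ([47, 1], [1, 47, 7]),
   ([47, 2], [2, 47, 10]),
   ([47, 0], [0, 47]),
   ([47, 3], [3, 47]),
   ([47, 4], [4, 47]),
   ([22, 11], [11, 22]),
   ([22, 12], [12, 22, 10]),
   ([22, 1], [1, 22]),
   ([22, 2], [2, 22]),
   ([22, 62], [62, 22]),
   ([22, 63], [63, 22]),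
   ([22, 0], [0, 22]),
   ([22, 3], [3, 22]),
   ([22, 4], [4, 22]),
   ([22, 56], [56, 22]),
   ([23, 11], [11, 23, 10]),
   ([23, 12], [12, 23]),
   ([23, 1], [1, 23]),
   ([23, 2], [2, 23]),
   ([23, 62], [62, 23]),
   ([23, 63], [63, 23]),
   ([23, 0], [0, 23]),
   ([23, 3], [3, 23]),
   ([23, 4], [4, 23]),
   ([23, 56], [56, 23]),
   ([15, 2], [2, 15]),
   ([15, 62], [62, 15]),
   ([15, 63], [63, 15]),
   ([15, 56], [56, 15]),
   ([7, 0], [0, 7]),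
   ([7, 56], [56, 7]),
   ([10, 62], [62, 10]),
   ([10, 63], [63, 10]),
   ([10, 56], [56, 10]),
   ([5, 57], [57, 5, 31]),
   ([5, 58], [58, 5, 31, 32]),
   ([5, 60], [60, 5, 33]),
   ([5, 61], [61, 5, 33, 34]),
   ([5, 71], [71, 5, 54, 30]),
   ([6, 57], [57, 6, 32]),
   ([6, 58], [58, 6, 31]),
   ([6, 60], [60, 6, 34]),
   ([6, 61], [61, 6, 33]),
   ([6, 71], [71, 6, 55, 30]),
   ([29, 57], [57, 29, 48, 69]),
   ([29, 58], [58, 29, 49, 69]),
   ([29, 71], [71, 29, 70]),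
   ([29, 5], [5, 29]),
   ([29, 6], [6, 29]),
   ([31, 57], [57, 31]),
   ([31, 58], [58, 31]),
   ([31, 60], [60, 31, 54]),
   ([31, 61], [61, 31, 55]),
   ([31, 71], [71, 31]),
   ([31, 5], [5, 31]),
   ([31, 6], [6, 31]),
   ([32, 57], [57, 32]),
   ([32, 58], [58, 32])]

/-- Relations, part 64. -/
def varTab64 : List (List ℕ × List ℕ) :=
  [([32, 60], [60, 32, 55]),
   ([32, 61], [61, 32, 54, 55]),
   ([32, 71], [71, 32]),
   ([32, 5], [5, 32]),
   ([32, 6], [6, 32]),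
   ([33, 57], [57, 33, 54]),
   ([33, 58], [58, 33, 55]),
   ([33, 60], [60, 33]),
   ([33, 61], [61, 33]),
   ([33, 71], [71, 33]),
   ([33, 5], [5, 33]),
   ([33, 6], [6, 33]),
   ([34, 57], [57, 34, 55]),
   ([34, 58], [58, 34, 54, 55]),
   ([34, 60], [60, 34]),
   ([34, 61], [61, 34]),
   ([34, 71], [71, 34]),
   ([34, 5], [5, 34]),
   ([34, 6], [6, 34]),
   ([48, 5], [5, 48, 26]),
   ([48, 6], [6, 48, 27]),
   ([49, 5], [5, 49, 26, 27]),
   ([49, 6], [6, 49, 26]),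
   ([54, 71], [71, 54]),
   ([54, 5], [5, 54]),
   ([54, 6], [6, 54, 30]),
   ([55, 71], [71, 55]),
   ([55, 5], [5, 55, 30]),
   ([55, 6], [6, 55]),
   ([69, 5], [5, 69, 40, 24]),
   ([69, 6], [6, 69, 41, 24]),
   ([70, 5], [5, 70, 45, 25]),
   ([70, 6], [6, 70, 46, 25]),
   ([26, 57], [57, 26, 40]),
   ([26, 58], [58, 26, 41]),
   ([26, 60], [60, 26, 45]),
   ([26, 61], [61, 26, 46]),
   ([26, 71], [71, 26, 67, 64]),
   ([26, 5], [5, 26]),
   ([26, 6], [6, 26]),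
   ([26, 48], [48, 26]),
   ([26, 49], [49, 26]),
   ([26, 69], [69, 26]),
   ([26, 70], [70, 26]),
   ([27, 57], [57, 27, 41]),
   ([27, 58], [58, 27, 40, 41]),
   ([27, 60], [60, 27, 46]),
   ([27, 61], [61, 27, 45, 46]),
   ([27, 71], [71, 27, 68, 64]),
   ([27, 5], [5, 27]),
   ([27, 6], [6, 27]),
   ([27, 48], [48, 27]),
   ([27, 49], [49, 27]),
   ([27, 69], [69, 27]),
   ([27, 70], [70, 27]),
   ([30, 57], [57, 30]),
   ([30, 58], [58, 30]),
   ([30, 60], [60, 30]),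
   ([30, 61], [61, 30]),
   ([30, 71], [71, 30]),
   ([30, 48], [48, 30, 36, 64]),
   ([30, 49], [49, 30, 37, 64]),
   ([30, 69], [69, 30, 65]),
   ([40, 5], [5, 40])]

/-- Relations, part 65. -/
def varTab65 : List (List ℕ × List ℕ) :=
  [([40, 6], [6, 40, 24]),
   ([40, 69], [69, 40]),
   ([41, 5], [5, 41, 24]),
   ([41, 6], [6, 41]),
   ([41, 69], [69, 41]),
   ([45, 71], [71, 45]),
   ([45, 5], [5, 45]),
   ([45, 6], [6, 45, 25]),
   ([45, 28], [28, 45]),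
   ([45, 31], [31, 45, 36]),
   ([45, 32], [32, 45, 36, 37]),
   ([45, 69], [69, 45]),
   ([45, 70], [70, 45]),
   ([46, 71], [71, 46]),
   ([46, 5], [5, 46, 25]),
   ([46, 6], [6, 46]),
   ([46, 28], [28, 46]),
   ([46, 31], [31, 46, 37]),
   ([46, 32], [32, 46, 36]),
   ([46, 69], [69, 46]),
   ([46, 70], [70, 46]),
   ([67, 5], [5, 67, 36]),
   ([67, 6], [6, 67, 37]),
   ([68, 5], [5, 68, 36, 37]),
   ([68, 6], [6, 68, 36]),
   ([24, 57], [57, 24]),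
   ([24, 58], [58, 24]),
   ([24, 60], [60, 24, 36, 66]),
   ([24, 61], [61, 24, 37, 66]),
   ([24, 71], [71, 24, 65]),
   ([24, 48], [48, 24]),
   ([24, 49], [49, 24]),
   ([24, 69], [69, 24]),
   ([24, 45], [45, 24]),
   ([24, 46], [46, 24]),
   ([24, 67], [67, 24]),
   ([24, 68], [68, 24]),
   ([25, 57], [57, 25, 36, 65]),
   ([25, 58], [58, 25, 37, 65]),
   ([25, 60], [60, 25]),
   ([25, 61], [61, 25]),
   ([25, 71], [71, 25, 66]),
   ([25, 5], [5, 25]),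
   ([25, 6], [6, 25]),
   ([25, 48], [48, 25]),
   ([25, 49], [49, 25]),
   ([25, 69], [69, 25, 64]),
   ([25, 70], [70, 25]),
   ([25, 45], [45, 25]),
   ([25, 46], [46, 25]),
   ([25, 67], [67, 25]),
   ([25, 68], [68, 25]),
   ([36, 71], [71, 36]),
   ([36, 5], [5, 36]),
   ([36, 6], [6, 36]),
   ([36, 31], [31, 36]),
   ([36, 32], [32, 36]),
   ([36, 69], [69, 36]),
   ([36, 70], [70, 36]),
   ([36, 45], [45, 36]),
   ([36, 46], [46, 36]),
   ([36, 67], [67, 36]),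
   ([36, 68], [68, 36]),
   ([37, 71], [71, 37])]

/-- Relations, part 66. -/
def varTab66 : List (List ℕ × List ℕ) :=
  [([37, 5], [5, 37]),
   ([37, 6], [6, 37]),
   ([37, 31], [31, 37]),
   ([37, 32], [32, 37]),
   ([37, 69], [69, 37]),
   ([37, 70], [70, 37]),
   ([37, 45], [45, 37]),
   ([37, 46], [46, 37]),
   ([37, 67], [67, 37]),
   ([37, 68], [68, 37]),
   ([65, 5], [5, 65]),
   ([65, 6], [6, 65]),
   ([66, 5], [5, 66]),
   ([66, 6], [6, 66]),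
   ([64, 5], [5, 64]),
   ([64, 6], [6, 64]),
   ([64, 31], [31, 64]),
   ([64, 32], [32, 64]),
   ([10, 64], [64, 10, 29]),
   ([29, 64], [64, 29]),
   ([29, 10], [10, 29]),
   ([28, 30], [30, 28, 24]),
   ([29, 38], [38, 29]),
   ([29, 39], [39, 29]),
   ([29, 30], [30, 29, 25]),
   ([50, 25], [25, 50, 30]),
   ([52, 24], [24, 52, 31, 50]),
   ([53, 24], [24, 53, 32, 50]),
   ([33, 48], [48, 33, 45]),
   ([33, 49], [49, 33, 46]),
   ([34, 48], [48, 34, 46]),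
   ([34, 49], [49, 34, 45, 46]),
   ([20, 64], [64, 20, 45, 42]),
   ([20, 56], [56, 20]),
   ([21, 64], [64, 21, 46, 42]),
   ([21, 56], [56, 21]),
   ([45, 64], [64, 45]),
   ([45, 20], [20, 45]),
   ([45, 21], [21, 45, 42]),
   ([46, 64], [64, 46]),
   ([46, 20], [20, 46, 42]),
   ([46, 21], [21, 46]),
   ([43, 56], [56, 43]),
   ([44, 56], [56, 44]),
   ([42, 64], [64, 42]),
   ([42, 56], [56, 42, 59]),
   ([42, 62], [62, 42]),
   ([42, 63], [63, 42]),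
   ([51, 5], [5, 51]),
   ([51, 6], [6, 51]),
   ([50, 5], [5, 50]),
   ([50, 6], [6, 50]),
   ([60, 5], [5, 60, 33]),
   ([60, 6], [6, 60, 34]),
   ([61, 5], [5, 61, 33, 34]),
   ([61, 6], [6, 61, 33]),
   ([57, 5], [5, 57, 31]),
   ([57, 6], [6, 57, 32]),
   ([58, 5], [5, 58, 31, 32]),
   ([58, 6], [6, 58, 31]),
   ([31, 48], [48, 31, 40]),
   ([31, 49], [49, 31, 41]),
   ([32, 48], [48, 32, 41]),
   ([32, 49], [49, 32, 40, 41])]

/-- Relations, part 67. -/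
def varTab67 : List (List ℕ × List ℕ) :=
  [([71, 5], [5, 71, 54, 30]),
   ([71, 6], [6, 71, 55, 30]),
   ([30, 45], [45, 30]),
   ([30, 46], [46, 30]),
   ([29, 52], [52, 29, 43, 59]),
   ([29, 53], [53, 29, 44, 59]),
   ([29, 56], [56, 29, 47]),
   ([60, 28], [28, 60, 48, 70]),
   ([61, 28], [28, 61, 49, 70]),
   ([10, 54], [54, 10, 20, 51]),
   ([10, 55], [55, 10, 21, 51]),
   ([50, 10], [10, 50, 15]),
   ([20, 54], [54, 20]),
   ([20, 55], [55, 20, 51]),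
   ([20, 7], [7, 20]),
   ([20, 10], [10, 20]),
   ([21, 54], [54, 21, 51]),
   ([21, 55], [55, 21]),
   ([21, 7], [7, 21]),
   ([21, 10], [10, 21]),
   ([51, 7], [7, 51, 15]),
   ([51, 10], [10, 51]),
   ([33, 7], [7, 33, 3, 2]),
   ([33, 10], [10, 33]),
   ([34, 7], [7, 34, 4, 2]),
   ([34, 10], [10, 34]),
   ([59, 26], [26, 59, 43, 29]),
   ([59, 27], [27, 59, 44, 29]),
   ([59, 25], [25, 59, 42]),
   ([43, 25], [25, 43]),
   ([44, 25], [25, 44]),
   ([42, 28], [28, 42, 29]),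
   ([13, 67], [67, 13, 48]),
   ([13, 68], [68, 13, 48, 49]),
   ([14, 67], [67, 14, 49]),
   ([14, 68], [68, 14, 48]),
   ([2, 67], [67, 2, 33, 66]),
   ([2, 68], [68, 2, 34, 66]),
   ([2, 48], [48, 2, 11, 29]),
   ([2, 49], [49, 2, 12, 29]),
   ([33, 67], [67, 33]),
   ([33, 68], [68, 33, 66]),
   ([33, 2], [2, 33]),
   ([34, 67], [67, 34, 66]),
   ([34, 68], [68, 34]),
   ([34, 2], [2, 34]),
   ([66, 13], [13, 66, 45, 29]),
   ([66, 14], [14, 66, 46, 29]),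
   ([66, 2], [2, 66]),
   ([11, 67], [67, 11, 45]),
   ([11, 68], [68, 11, 46]),
   ([11, 48], [48, 11]),
   ([11, 49], [49, 11, 29]),
   ([11, 2], [2, 11]),
   ([12, 67], [67, 12, 46]),
   ([12, 68], [68, 12, 45, 46]),
   ([12, 48], [48, 12, 29]),
   ([12, 49], [49, 12]),
   ([12, 2], [2, 12]),
   ([45, 67], [67, 45]),
   ([45, 68], [68, 45]),
   ([45, 13], [13, 45]),
   ([45, 14], [14, 45, 29]),
   ([45, 2], [2, 45])]

/-- Relations, part 68. -/
def varTab68 : List (List ℕ × List ℕ) :=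
  [([45, 66], [66, 45]),
   ([45, 11], [11, 45]),
   ([45, 12], [12, 45]),
   ([46, 67], [67, 46]),
   ([46, 68], [68, 46]),
   ([46, 13], [13, 46, 29]),
   ([46, 14], [14, 46]),
   ([46, 2], [2, 46]),
   ([46, 66], [66, 46]),
   ([46, 11], [11, 46]),
   ([46, 12], [12, 46]),
   ([29, 67], [67, 29]),
   ([29, 68], [68, 29]),
   ([29, 13], [13, 29]),
   ([29, 14], [14, 29]),
   ([29, 48], [48, 29]),
   ([29, 49], [49, 29]),
   ([29, 2], [2, 29]),
   ([29, 66], [66, 29]),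
   ([29, 11], [11, 29]),
   ([29, 12], [12, 29]),
   ([29, 45], [45, 29]),
   ([29, 46], [46, 29]),
   ([1, 67], [67, 1, 31, 65]),
   ([1, 68], [68, 1, 32, 65]),
   ([1, 48], [48, 1, 8, 28]),
   ([1, 49], [49, 1, 9, 28]),
   ([1, 45], [45, 1, 5, 25]),
   ([1, 46], [46, 1, 6, 25]),
   ([31, 67], [67, 31]),
   ([31, 68], [68, 31, 65]),
   ([31, 2], [2, 31]),
   ([31, 45], [45, 31, 36]),
   ([31, 46], [46, 31, 37]),
   ([31, 1], [1, 31]),
   ([32, 67], [67, 32, 65]),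
   ([32, 68], [68, 32]),
   ([32, 2], [2, 32]),
   ([32, 45], [45, 32, 36, 37]),
   ([32, 46], [46, 32, 36]),
   ([32, 1], [1, 32]),
   ([65, 2], [2, 65, 30]),
   ([65, 1], [1, 65]),
   ([8, 48], [48, 8]),
   ([8, 49], [49, 8, 28]),
   ([8, 45], [45, 8, 26]),
   ([8, 46], [46, 8, 27]),
   ([8, 1], [1, 8]),
   ([9, 48], [48, 9, 28]),
   ([9, 49], [49, 9]),
   ([9, 45], [45, 9, 26, 27]),
   ([9, 46], [46, 9, 26]),
   ([9, 1], [1, 9]),
   ([40, 2], [2, 40, 5, 24]),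
   ([40, 11], [11, 40, 26]),
   ([40, 12], [12, 40, 26, 27]),
   ([40, 1], [1, 40]),
   ([41, 2], [2, 41, 6, 24]),
   ([41, 11], [11, 41, 27]),
   ([41, 12], [12, 41, 26]),
   ([41, 1], [1, 41]),
   ([28, 1], [1, 28]),
   ([30, 67], [67, 30]),
   ([30, 68], [68, 30])]

/-- Relations, part 69. -/
def varTab69 : List (List ℕ × List ℕ) :=
  [([5, 67], [67, 5, 36]),
   ([5, 68], [68, 5, 36, 37]),
   ([5, 48], [48, 5, 26]),
   ([5, 49], [49, 5, 26, 27]),
   ([5, 45], [45, 5]),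
   ([5, 46], [46, 5, 25]),
   ([5, 1], [1, 5]),
   ([6, 67], [67, 6, 37]),
   ([6, 68], [68, 6, 36]),
   ([6, 48], [48, 6, 27]),
   ([6, 49], [49, 6, 26]),
   ([6, 45], [45, 6, 25]),
   ([6, 46], [46, 6]),
   ([6, 1], [1, 6]),
   ([36, 13], [13, 36, 26]),
   ([36, 14], [14, 36, 27]),
   ([36, 2], [2, 36]),
   ([36, 1], [1, 36]),
   ([37, 13], [13, 37, 26, 27]),
   ([37, 14], [14, 37, 26]),
   ([37, 2], [2, 37]),
   ([37, 1], [1, 37]),
   ([0, 67], [67, 0, 26, 64]),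
   ([0, 68], [68, 0, 27, 64]),
   ([0, 48], [48, 0]),
   ([0, 49], [49, 0]),
   ([0, 45], [45, 0]),
   ([0, 46], [46, 0]),
   ([26, 67], [67, 26]),
   ([26, 68], [68, 26, 64]),
   ([26, 45], [45, 26]),
   ([26, 46], [46, 26]),
   ([26, 1], [1, 26]),
   ([26, 8], [8, 26]),
   ([26, 9], [9, 26]),
   ([26, 0], [0, 26]),
   ([27, 67], [67, 27, 64]),
   ([27, 68], [68, 27]),
   ([27, 45], [45, 27]),
   ([27, 46], [46, 27]),
   ([27, 1], [1, 27]),
   ([27, 8], [8, 27]),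
   ([27, 9], [9, 27]),
   ([27, 0], [0, 27]),
   ([64, 2], [2, 64, 25]),
   ([64, 11], [11, 64]),
   ([64, 12], [12, 64]),
   ([64, 1], [1, 64, 24]),
   ([64, 8], [8, 64]),
   ([64, 9], [9, 64]),
   ([64, 0], [0, 64]),
   ([25, 1], [1, 25]),
   ([38, 5], [5, 38, 8]),
   ([38, 6], [6, 38, 9]),
   ([39, 5], [5, 39, 8, 9]),
   ([39, 6], [6, 39, 8]),
   ([42, 5], [5, 42]),
   ([42, 6], [6, 42]),
   ([43, 5], [5, 43, 11]),
   ([43, 6], [6, 43, 12]),
   ([44, 5], [5, 44, 11, 12]),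
   ([44, 6], [6, 44, 11]),
   ([52, 5], [5, 52, 16]),
   ([52, 6], [6, 52, 17])]

/-- Relations, part 70. -/
def varTab70 : List (List ℕ × List ℕ) :=
  [([53, 5], [5, 53, 16, 17]),
   ([53, 6], [6, 53, 16]),
   ([47, 5], [5, 47, 13, 0]),
   ([47, 6], [6, 47, 14, 0]),
   ([56, 5], [5, 56, 18, 1]),
   ([56, 6], [6, 56, 19, 1]),
   ([18, 5], [5, 18]),
   ([18, 6], [6, 18, 1]),
   ([18, 56], [56, 18]),
   ([19, 5], [5, 19, 1]),
   ([19, 6], [6, 19]),
   ([19, 56], [56, 19]),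
   ([1, 56], [56, 1]),
   ([59, 5], [5, 59, 20, 2]),
   ([59, 6], [6, 59, 21, 2]),
   ([2, 56], [56, 2, 15]),
   ([22, 5], [5, 22, 3]),
   ([22, 6], [6, 22, 4]),
   ([23, 5], [5, 23, 3, 4]),
   ([23, 6], [6, 23, 3]),
   ([3, 56], [56, 3]),
   ([4, 56], [56, 4]),
   ([16, 70], [70, 16, 60, 51]),
   ([17, 70], [70, 17, 61, 51]),
   ([5, 70], [70, 5, 45, 25]),
   ([5, 69], [69, 5, 40, 24]),
   ([6, 70], [70, 6, 46, 25]),
   ([6, 69], [69, 6, 41, 24]),
   ([45, 16], [16, 45, 33]),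
   ([45, 17], [17, 45, 33, 34]),
   ([46, 16], [16, 46, 34]),
   ([46, 17], [17, 46, 33]),
   ([33, 70], [70, 33]),
   ([33, 69], [69, 33, 67, 66]),
   ([33, 16], [16, 33]),
   ([33, 17], [17, 33]),
   ([33, 45], [45, 33]),
   ([33, 46], [46, 33]),
   ([34, 70], [70, 34]),
   ([34, 69], [69, 34, 68, 66]),
   ([34, 16], [16, 34]),
   ([34, 17], [17, 34]),
   ([34, 45], [45, 34]),
   ([34, 46], [46, 34]),
   ([31, 69], [69, 31]),
   ([32, 69], [69, 32]),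
   ([64, 16], [16, 64, 36, 30]),
   ([64, 17], [17, 64, 37, 30]),
   ([25, 62], [62, 25, 45, 70]),
   ([25, 63], [63, 25, 46, 70]),
   ([7, 57], [57, 7]),
   ([7, 58], [58, 7]),
   ([65, 7], [7, 65, 35]),
   ([45, 7], [7, 45, 13, 29]),
   ([46, 7], [7, 46, 14, 29]),
   ([67, 7], [7, 67, 38, 69]),
   ([68, 7], [7, 68, 39, 69]),
   ([0, 57], [57, 0, 8, 35]),
   ([0, 58], [58, 0, 9, 35]),
   ([8, 57], [57, 8]),
   ([8, 58], [58, 8, 35]),
   ([8, 62], [62, 8, 38]),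
   ([8, 63], [63, 8, 39]),
   ([8, 0], [0, 8])]

/-- Relations, part 71. -/
def varTab71 : List (List ℕ × List ℕ) :=
  [([9, 57], [57, 9, 35]),
   ([9, 58], [58, 9]),
   ([9, 62], [62, 9, 38, 39]),
   ([9, 63], [63, 9, 38]),
   ([9, 0], [0, 9]),
   ([70, 7], [7, 70, 47]),
   ([70, 0], [0, 70, 29]),
   ([35, 0], [0, 35]),
   ([13, 57], [57, 13, 38]),
   ([13, 58], [58, 13, 38, 39]),
   ([13, 7], [7, 13]),
   ([13, 65], [65, 13, 40, 28]),
   ([13, 45], [45, 13]),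
   ([13, 46], [46, 13, 29]),
   ([14, 57], [57, 14, 39]),
   ([14, 58], [58, 14, 38]),
   ([14, 7], [7, 14]),
   ([14, 65], [65, 14, 41, 28]),
   ([14, 45], [45, 14, 29]),
   ([14, 46], [46, 14]),
   ([24, 62], [62, 24, 40, 69]),
   ([24, 63], [63, 24, 41, 69]),
   ([26, 62], [62, 26, 48]),
   ([26, 63], [63, 26, 49]),
   ([27, 62], [62, 27, 48, 49]),
   ([27, 63], [63, 27, 48]),
   ([40, 0], [0, 40]),
   ([41, 0], [0, 41]),
   ([29, 62], [62, 29]),
   ([29, 63], [63, 29]),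
   ([29, 7], [7, 29]),
   ([29, 65], [65, 29, 64]),
   ([29, 0], [0, 29]),
   ([29, 8], [8, 29]),
   ([29, 9], [9, 29]),
   ([29, 70], [70, 29]),
   ([48, 7], [7, 48]),
   ([48, 0], [0, 48]),
   ([49, 7], [7, 49]),
   ([49, 0], [0, 49]),
   ([69, 0], [0, 69, 28]),
   ([64, 7], [7, 64, 28]),
   ([28, 0], [0, 28]),
   ([28, 69], [69, 28]),
   ([42, 13], [13, 42]),
   ([42, 14], [14, 42]),
   ([60, 13], [13, 60, 43]),
   ([60, 14], [14, 60, 44]),
   ([61, 13], [13, 61, 43, 44]),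
   ([61, 14], [14, 61, 43]),
   ([43, 13], [13, 43]),
   ([43, 14], [14, 43]),
   ([43, 60], [60, 43]),
   ([43, 61], [61, 43]),
   ([44, 13], [13, 44]),
   ([44, 14], [14, 44]),
   ([44, 60], [60, 44]),
   ([44, 61], [61, 44]),
   ([52, 25], [25, 52, 33, 51]),
   ([53, 25], [25, 53, 34, 51]),
   ([3, 60], [60, 3, 20]),
   ([3, 61], [61, 3, 21]),
   ([4, 60], [60, 4, 21]),
   ([4, 61], [61, 4, 20, 21])]

/-- Relations, part 72. -/
def varTab72 : List (List ℕ × List ℕ) :=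
  [([20, 60], [60, 20]),
   ([20, 61], [61, 20]),
   ([20, 3], [3, 20]),
   ([20, 4], [4, 20]),
   ([21, 60], [60, 21]),
   ([21, 61], [61, 21]),
   ([21, 3], [3, 21]),
   ([21, 4], [4, 21]),
   ([1, 60], [60, 1, 16, 51]),
   ([1, 61], [61, 1, 17, 51]),
   ([16, 60], [60, 16]),
   ([16, 61], [61, 16, 51]),
   ([16, 1], [1, 16]),
   ([17, 60], [60, 17, 51]),
   ([17, 61], [61, 17]),
   ([17, 1], [1, 17]),
   ([51, 1], [1, 51]),
   ([29, 3], [3, 29]),
   ([29, 4], [4, 29]),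
   ([29, 1], [1, 29, 0]),
   ([64, 3], [3, 64, 26, 0]),
   ([64, 4], [4, 64, 27, 0]),
   ([64, 20], [20, 64, 45, 42]),
   ([64, 21], [21, 64, 46, 42]),
   ([45, 3], [3, 45, 11]),
   ([45, 4], [4, 45, 11, 12]),
   ([45, 1], [1, 45, 5, 25]),
   ([46, 3], [3, 46, 12]),
   ([46, 4], [4, 46, 11]),
   ([46, 1], [1, 46, 6, 25]),
   ([0, 60], [60, 0, 11, 42]),
   ([0, 61], [61, 0, 12, 42]),
   ([11, 60], [60, 11]),
   ([11, 61], [61, 11, 42]),
   ([11, 3], [3, 11]),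
   ([11, 4], [4, 11]),
   ([11, 1], [1, 11]),
   ([11, 45], [45, 11]),
   ([11, 46], [46, 11]),
   ([11, 0], [0, 11]),
   ([12, 60], [60, 12, 42]),
   ([12, 61], [61, 12]),
   ([12, 3], [3, 12]),
   ([12, 4], [4, 12]),
   ([12, 1], [1, 12]),
   ([12, 45], [45, 12]),
   ([12, 46], [46, 12]),
   ([12, 0], [0, 12]),
   ([42, 60], [60, 42]),
   ([42, 61], [61, 42]),
   ([42, 3], [3, 42]),
   ([42, 4], [4, 42]),
   ([42, 1], [1, 42, 2]),
   ([42, 0], [0, 42]),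
   ([42, 11], [11, 42]),
   ([42, 12], [12, 42]),
   ([66, 1], [1, 66, 30]),
   ([33, 1], [1, 33]),
   ([34, 1], [1, 34]),
   ([2, 60], [60, 2]),
   ([2, 61], [61, 2]),
   ([2, 45], [45, 2]),
   ([2, 46], [46, 2]),
   ([36, 10], [10, 36, 11, 25])]

/-- Relations, part 73. -/
def varTab73 : List (List ℕ × List ℕ) :=
  [([37, 10], [10, 37, 12, 25]),
   ([52, 10], [10, 52]),
   ([53, 10], [10, 53]),
   ([66, 10], [10, 66, 42]),
   ([40, 10], [10, 40, 13, 28]),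
   ([41, 10], [10, 41, 14, 28]),
   ([42, 10], [10, 42]),
   ([42, 66], [66, 42]),
   ([13, 66], [66, 13, 45, 29]),
   ([14, 66], [66, 14, 46, 29]),
   ([57, 10], [10, 57, 22, 56]),
   ([58, 10], [10, 58, 23, 56]),
   ([22, 10], [10, 22]),
   ([22, 66], [66, 22, 60, 59]),
   ([22, 57], [57, 22]),
   ([22, 58], [58, 22, 56]),
   ([23, 10], [10, 23]),
   ([23, 66], [66, 23, 61, 59]),
   ([23, 57], [57, 23, 56]),
   ([23, 58], [58, 23]),
   ([45, 10], [10, 45]),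
   ([46, 10], [10, 46]),
   ([60, 10], [10, 60]),
   ([61, 10], [10, 61]),
   ([38, 10], [10, 38]),
   ([39, 10], [10, 39]),
   ([64, 10], [10, 64, 29]),
   ([56, 10], [10, 56]),
   ([67, 10], [10, 67, 43, 70]),
   ([68, 10], [10, 68, 44, 70]),
   ([43, 10], [10, 43]),
   ([43, 66], [66, 43]),
   ([43, 67], [67, 43]),
   ([43, 68], [68, 43, 70]),
   ([44, 10], [10, 44]),
   ([44, 66], [66, 44]),
   ([44, 67], [67, 44, 70]),
   ([44, 68], [68, 44]),
   ([71, 10], [10, 71, 59]),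
   ([59, 10], [10, 59]),
   ([59, 71], [71, 59]),
   ([48, 10], [10, 48]),
   ([49, 10], [10, 49]),
   ([62, 10], [10, 62]),
   ([63, 10], [10, 63]),
   ([69, 10], [10, 69, 47]),
   ([47, 10], [10, 47]),
   ([47, 69], [69, 47]),
   ([70, 10], [10, 70]),
   ([65, 0], [0, 65, 24]),
   ([57, 1], [1, 57]),
   ([57, 3], [3, 57, 18]),
   ([57, 4], [4, 57, 19]),
   ([57, 0], [0, 57, 8, 35]),
   ([58, 1], [1, 58]),
   ([58, 3], [3, 58, 19]),
   ([58, 4], [4, 58, 18, 19]),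
   ([58, 0], [0, 58, 9, 35]),
   ([62, 3], [3, 62, 22]),
   ([62, 4], [4, 62, 22, 23]),
   ([62, 0], [0, 62, 13, 47]),
   ([63, 3], [3, 63, 23]),
   ([63, 4], [4, 63, 22]),
   ([63, 0], [0, 63, 14, 47])]

/-- Relations, part 74. -/
def varTab74 : List (List ℕ × List ℕ) :=
  [([18, 3], [3, 18]),
   ([18, 4], [4, 18]),
   ([18, 57], [57, 18]),
   ([18, 58], [58, 18]),
   ([19, 3], [3, 19]),
   ([19, 4], [4, 19]),
   ([19, 57], [57, 19]),
   ([19, 58], [58, 19]),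
   ([40, 3], [3, 40, 8]),
   ([40, 4], [4, 40, 8, 9]),
   ([41, 3], [3, 41, 9]),
   ([41, 4], [4, 41, 8]),
   ([48, 1], [1, 48, 8, 28]),
   ([48, 3], [3, 48, 13]),
   ([48, 4], [4, 48, 14]),
   ([49, 1], [1, 49, 9, 28]),
   ([49, 3], [3, 49, 14]),
   ([49, 4], [4, 49, 13, 14]),
   ([13, 3], [3, 13]),
   ([13, 4], [4, 13]),
   ([13, 48], [48, 13]),
   ([13, 49], [49, 13]),
   ([14, 3], [3, 14]),
   ([14, 4], [4, 14]),
   ([14, 48], [48, 14]),
   ([14, 49], [49, 14]),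
   ([69, 1], [1, 69, 35]),
   ([69, 3], [3, 69, 38, 7]),
   ([69, 4], [4, 69, 39, 7]),
   ([35, 1], [1, 35]),
   ([35, 3], [3, 35]),
   ([35, 4], [4, 35]),
   ([35, 69], [69, 35]),
   ([38, 3], [3, 38]),
   ([38, 4], [4, 38, 7]),
   ([38, 69], [69, 38]),
   ([39, 3], [3, 39, 7]),
   ([39, 4], [4, 39]),
   ([39, 69], [69, 39]),
   ([7, 69], [69, 7]),
   ([43, 24], [24, 43, 26, 29]),
   ([44, 24], [24, 44, 27, 29]),
   ([42, 24], [24, 42, 25]),
   ([48, 20], [20, 48, 43]),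
   ([48, 21], [21, 48, 44]),
   ([49, 20], [20, 49, 43, 44]),
   ([49, 21], [21, 49, 43]),
   ([10, 57], [57, 10, 22, 56]),
   ([10, 58], [58, 10, 23, 56]),
   ([38, 20], [20, 38, 22]),
   ([38, 21], [21, 38, 23]),
   ([39, 20], [20, 39, 22, 23]),
   ([39, 21], [21, 39, 22]),
   ([60, 3], [3, 60, 20]),
   ([60, 4], [4, 60, 21]),
   ([61, 3], [3, 61, 21]),
   ([61, 4], [4, 61, 20, 21]),
   ([13, 60], [60, 13, 43]),
   ([13, 61], [61, 13, 43, 44]),
   ([14, 60], [60, 14, 44]),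
   ([14, 61], [61, 14, 43]),
   ([71, 3], [3, 71, 52, 15]),
   ([71, 4], [4, 71, 53, 15]),
   ([52, 3], [3, 52])]

/-- Relations, part 75. -/
def varTab75 : List (List ℕ × List ℕ) :=
  [([52, 4], [4, 52, 15]),
   ([52, 71], [71, 52]),
   ([53, 3], [3, 53, 15]),
   ([53, 4], [4, 53]),
   ([53, 71], [71, 53]),
   ([15, 60], [60, 15]),
   ([15, 61], [61, 15]),
   ([15, 48], [48, 15, 22, 47]),
   ([15, 49], [49, 15, 23, 47]),
   ([15, 71], [71, 15]),
   ([70, 3], [3, 70, 43, 10]),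
   ([70, 4], [4, 70, 44, 10]),
   ([7, 60], [60, 7, 22, 59]),
   ([7, 61], [61, 7, 23, 59]),
   ([43, 3], [3, 43]),
   ([43, 4], [4, 43, 10]),
   ([43, 71], [71, 43]),
   ([43, 70], [70, 43]),
   ([43, 7], [7, 43]),
   ([44, 3], [3, 44, 10]),
   ([44, 4], [4, 44]),
   ([44, 71], [71, 44]),
   ([44, 70], [70, 44]),
   ([44, 7], [7, 44]),
   ([10, 60], [60, 10]),
   ([10, 61], [61, 10]),
   ([10, 48], [48, 10]),
   ([10, 49], [49, 10]),
   ([10, 71], [71, 10, 59]),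
   ([10, 69], [69, 10, 47]),
   ([10, 70], [70, 10]),
   ([22, 60], [60, 22]),
   ([22, 61], [61, 22, 59]),
   ([22, 71], [71, 22]),
   ([22, 7], [7, 22]),
   ([23, 60], [60, 23, 59]),
   ([23, 61], [61, 23]),
   ([23, 71], [71, 23]),
   ([23, 7], [7, 23]),
   ([59, 7], [7, 59]),
   ([36, 7], [7, 36, 8, 24]),
   ([37, 7], [7, 37, 9, 24]),
   ([20, 71], [71, 20]),
   ([21, 71], [71, 21]),
   ([2, 71], [71, 2, 51]),
   ([67, 2], [2, 67, 33, 66]),
   ([68, 2], [2, 68, 34, 66]),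
   ([11, 71], [71, 11, 60, 42]),
   ([12, 71], [71, 12, 61, 42]),
   ([51, 71], [71, 51]),
   ([51, 2], [2, 51]),
   ([51, 29], [29, 51, 42]),
   ([60, 71], [71, 60]),
   ([60, 2], [2, 60]),
   ([60, 11], [11, 60]),
   ([60, 12], [12, 60, 42]),
   ([61, 71], [71, 61]),
   ([61, 2], [2, 61]),
   ([61, 11], [11, 61, 42]),
   ([61, 12], [12, 61]),
   ([70, 2], [2, 70, 42]),
   ([70, 11], [11, 70]),
   ([70, 12], [12, 70]),
   ([42, 71], [71, 42])]

/-- Relations, part 76. -/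
def varTab76 : List (List ℕ × List ℕ) :=
  [([42, 2], [2, 42]),
   ([42, 70], [70, 42]),
   ([15, 45], [45, 15, 20, 42]),
   ([15, 46], [46, 15, 21, 42]),
   ([48, 2], [2, 48, 11, 29]),
   ([49, 2], [2, 49, 12, 29]),
   ([3, 45], [45, 3, 11]),
   ([3, 46], [46, 3, 12]),
   ([3, 48], [48, 3, 13]),
   ([3, 49], [49, 3, 14]),
   ([4, 45], [45, 4, 11, 12]),
   ([4, 46], [46, 4, 11]),
   ([4, 48], [48, 4, 14]),
   ([4, 49], [49, 4, 13, 14]),
   ([0, 56], [56, 0, 7]),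
   ([7, 45], [45, 7, 13, 29]),
   ([7, 46], [46, 7, 14, 29]),
   ([20, 70], [70, 20]),
   ([21, 70], [70, 21]),
   ([11, 56], [56, 11, 22, 10]),
   ([11, 62], [62, 11, 43]),
   ([11, 63], [63, 11, 44]),
   ([11, 70], [70, 11]),
   ([12, 56], [56, 12, 23, 10]),
   ([12, 62], [62, 12, 43, 44]),
   ([12, 63], [63, 12, 43]),
   ([12, 70], [70, 12]),
   ([13, 56], [56, 13]),
   ([14, 56], [56, 14]),
   ([42, 7], [7, 42, 10]),
   ([10, 45], [45, 10]),
   ([10, 46], [46, 10]),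
   ([5, 56], [56, 5, 18, 1]),
   ([6, 56], [56, 6, 19, 1]),
   ([8, 56], [56, 8]),
   ([9, 56], [56, 9]),
   ([16, 56], [56, 16]),
   ([17, 56], [56, 17]),
   ([33, 56], [56, 33, 52, 51]),
   ([34, 56], [56, 34, 53, 51]),
   ([30, 56], [56, 30, 50]),
   ([22, 54], [54, 22, 52]),
   ([22, 55], [55, 22, 53]),
   ([23, 54], [54, 23, 52, 53]),
   ([23, 55], [55, 23, 52]),
   ([10, 67], [67, 10, 43, 70]),
   ([10, 68], [68, 10, 44, 70]),
   ([69, 11], [11, 69, 48, 29]),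
   ([69, 12], [12, 69, 49, 29]),
   ([0, 69], [69, 0, 28]),
   ([45, 8], [8, 45, 26]),
   ([45, 9], [9, 45, 26, 27]),
   ([45, 0], [0, 45]),
   ([46, 8], [8, 46, 27]),
   ([46, 9], [9, 46, 26]),
   ([46, 0], [0, 46]),
   ([13, 69], [69, 13]),
   ([14, 69], [69, 14]),
   ([48, 11], [11, 48]),
   ([48, 12], [12, 48, 29]),
   ([48, 69], [69, 48]),
   ([49, 11], [11, 49, 29]),
   ([49, 12], [12, 49]),
   ([49, 69], [69, 49])]

/-- Relations, part 77. -/
def varTab77 : List (List ℕ × List ℕ) :=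
  [([29, 69], [69, 29]),
   ([60, 7], [7, 60, 22, 59]),
   ([61, 7], [7, 61, 23, 59]),
   ([3, 70], [70, 3, 43, 10]),
   ([4, 70], [70, 4, 44, 10]),
   ([2, 70], [70, 2, 42]),
   ([0, 70], [70, 0, 29]),
   ([8, 69], [69, 8]),
   ([9, 69], [69, 9]),
   ([3, 69], [69, 3, 38, 7]),
   ([4, 69], [69, 4, 39, 7]),
   ([11, 69], [69, 11, 48, 29]),
   ([12, 69], [69, 12, 49, 29]),
   ([3, 57], [57, 3, 18]),
   ([3, 58], [58, 3, 19]),
   ([4, 57], [57, 4, 19]),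
   ([4, 58], [58, 4, 18, 19]),
   ([40, 15], [15, 40, 18, 35]),
   ([41, 15], [15, 41, 19, 35]),
   ([54, 7], [7, 54, 18, 50]),
   ([55, 7], [7, 55, 19, 50]),
   ([2, 57], [57, 2, 16, 50]),
   ([2, 58], [58, 2, 17, 50]),
   ([16, 57], [57, 16]),
   ([16, 58], [58, 16, 50]),
   ([16, 2], [2, 16]),
   ([17, 57], [57, 17, 50]),
   ([17, 58], [58, 17]),
   ([17, 2], [2, 17]),
   ([50, 2], [2, 50]),
   ([1, 57], [57, 1]),
   ([1, 58], [58, 1]),
   ([1, 71], [71, 1, 50]),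
   ([50, 71], [71, 50]),
   ([50, 1], [1, 50]),
   ([18, 69], [69, 18]),
   ([19, 69], [69, 19]),
   ([10, 66], [66, 10, 42]),
   ([2, 62], [62, 2, 20, 59]),
   ([2, 63], [63, 2, 21, 59]),
   ([31, 62], [62, 31, 57]),
   ([31, 63], [63, 31, 58]),
   ([32, 62], [62, 32, 57, 58]),
   ([32, 63], [63, 32, 57]),
   ([57, 2], [2, 57, 16, 50]),
   ([58, 2], [2, 58, 17, 50]),
   ([16, 71], [71, 16]),
   ([16, 62], [62, 16, 52]),
   ([16, 63], [63, 16, 53]),
   ([17, 71], [71, 17]),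
   ([17, 62], [62, 17, 52, 53]),
   ([17, 63], [63, 17, 52]),
   ([3, 71], [71, 3, 52, 15]),
   ([4, 71], [71, 4, 53, 15]),
   ([1, 62], [62, 1, 18, 56]),
   ([1, 63], [63, 1, 19, 56]),
   ([24, 56], [56, 24, 35]),
   ([26, 56], [56, 26, 38, 28]),
   ([27, 56], [56, 27, 39, 28]),
   ([16, 67], [67, 16, 54]),
   ([16, 68], [68, 16, 55]),
   ([17, 67], [67, 17, 55]),
   ([17, 68], [68, 17, 54, 55]),
   ([1, 69], [69, 1, 35])]

/-- Relations, part 78. -/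
def varTab78 : List (List ℕ × List ℕ) :=
  [([54, 1], [1, 54]),
   ([55, 1], [1, 55]),
   ([31, 56], [56, 31]),
   ([32, 56], [56, 32]),
   ([60, 0], [0, 60, 11, 42]),
   ([61, 0], [0, 61, 12, 42]),
   ([18, 60], [60, 18, 52]),
   ([18, 61], [61, 18, 52, 53]),
   ([19, 60], [60, 19, 53]),
   ([19, 61], [61, 19, 52]),
   ([31, 59], [59, 31, 52, 50]),
   ([32, 59], [59, 32, 53, 50]),
   ([54, 10], [10, 54, 20, 51]),
   ([55, 10], [10, 55, 21, 51]),
   ([16, 45], [45, 16, 33]),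
   ([16, 46], [46, 16, 34]),
   ([17, 45], [45, 17, 33, 34]),
   ([17, 46], [46, 17, 33]),
   ([67, 11], [11, 67, 45]),
   ([67, 12], [12, 67, 46]),
   ([68, 11], [11, 68, 46]),
   ([68, 12], [12, 68, 45, 46]),
   ([71, 11], [11, 71, 60, 42]),
   ([71, 12], [12, 71, 61, 42])]

/-- The relations, in chunks of 64. -/
def varTabs : List (List (List ℕ × List ℕ)) :=
  [varTab0, varTab1, varTab2, varTab3, varTab4, varTab5, varTab6, varTab7, varTab8, varTab9, varTab10, varTab11, varTab12, varTab13, varTab14, varTab15, varTab16, varTab17, varTab18, varTab19, varTab20, varTab21, varTab22, varTab23, varTab24, varTab25, varTab26, varTab27, varTab28, varTab29, varTab30, varTab31, varTab32, varTab33, varTab34, varTab35, varTab36, varTab37, varTab38, varTab39, varTab40, varTab41, varTab42, varTab43, varTab44, varTab45, varTab46, varTab47, varTab48, varTab49, varTab50, varTab51, varTab52, varTab53, varTab54, varTab55,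 varTab56, varTab57, varTab58, varTab59, varTab60, varTab61, varTab62, varTab63, varTab64, varTab65, varTab66, varTab67, varTab68, varTab69, varTab70, varTab71, varTab72, varTab73, varTab74, varTab75, varTab76, varTab77, varTab78]

/-- The relation numbered `g`. -/
def relAt (g : ℕ) : List ℕ × List ℕ := (varTabs.getD (g / 64) []).getD (g % 64) ([], [])

/-- Number of relations. -/
def numRel : ℕ := 5016

end Cfsg.Agent.Lib.Compute.E6Two
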