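import Cfsg.Agent.Lib.Compute.E6Two.RootCollect

/-! The relations of the generators hold in the collected forms. -/

set_option autoImplicit false
set_option maxRecDepth 100000
set_option Elab.async false

namespace Cfsg.Agent.Lib.Compute.E6Two

/-- One table of relations holds. -/
def tabOK (i : ℕ) : Bool := (varTabs.getD i []).all relOK

theorem tabOK_0 : ((List.range' 0 8).all tabOK) = true := by decide +kernel

theorem tabOK_8 : ((List.range' 8 8).all tabOK) = true := by decide +kernel

theorem tabOK_16 : ((List.range' 16 8).all tabOK) = true := by decide +kernel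

theorem tabOK_24 : ((List.range' 24 8).all tabOK) = true := by decide +kernel

theorem tabOK_32 : ((List.range' 32 8).all tabOK) = true := by decide +kernel

theorem tabOK_40 : ((List.range' 40 8).all tabOK) = true := by decide +kernel

theorem tabOK_48 : ((List.range' 48 8).all tabOK) = true := by decide +kernel

theorem tabOK_56 : ((List.range' 56 8).all tabOK) = true := by decide +kernel

theorem tabOK_64 : ((List.range' 64 8).all tabOK) = true := by decide +kernel

theorem tabOK_72 : ((List.range' 72 8).all tabOK) = true := by decide +kernel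

theorem relOK_all {g : ℕ} (hg : g < numRel) : relOK (relAt g) = true := by
  have hi : g / 64 < 80 := by simp only [numRel] at hg; omega
  have h : tabOK (g / 64) = true := by
    obtain h | h | h | h | h | h | h | h | h | h : g / 64 / 8 = 0 ∨ g / 64 / 8 = 1 ∨ g / 64 / 8 = 2 ∨ g / 64 / 8 = 3 ∨
        g / 64 / 8 = 4 ∨ g / 64 / 8 = 5 ∨ g / 64 / 8 = 6 ∨ g / 64 / 8 = 7 ∨ g / 64 / 8 = 8 ∨ g / 64 / 8 = 9 := by omega
    · exact List.all_eq_true.1 tabOK_0 _ (List.mem_range'_1.2 ⟨by omega, by omega⟩)
    · exact List.all_eq_true.1 tabOK_8 _ (List.mem_range'_1.2 ⟨by omega, by omega⟩)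
    · exact List.all_eq_true.1 tabOK_16 _ (List.mem_range'_1.2 ⟨by omega, by omega⟩)
    · exact List.all_eq_true.1 tabOK_24 _ (List.mem_range'_1.2 ⟨by omega, by omega⟩)
    · exact List.all_eq_true.1 tabOK_32 _ (List.mem_range'_1.2 ⟨by omega, by omega⟩)
    · exact List.all_eq_true.1 tabOK_40 _ (List.mem_range'_1.2 ⟨by omega, by omega⟩)
    · exact List.all_eq_true.1 tabOK_48 _ (List.mem_range'_1.2 ⟨by omega, by omega⟩)
    · exact List.all_eq_true.1 tabOK_56 _ (List.mem_range'_1.2 ⟨by omega, by omega⟩)
    · exact List.all_eq_true.1 tabOK_64 _ (List.mem_range'_1.2 ⟨by omega, by omega⟩)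
    · exact List.all_eq_true.1 tabOK_72 _ (List.mem_range'_1.2 ⟨by omega, by omega⟩)
  simp only [relAt]
  rw [tabOK, List.all_eq_true] at h
  by_cases hl : g % 64 < (varTabs.getD (g / 64) []).length
  · rw [List.getD_eq_getElem _ _ hl]
    exact h _ (List.getElem_mem hl)
  · rw [List.getD_eq_default _ _ (not_lt.1 hl)]
    rfl

end Cfsg.Agent.Lib.Compute.E6Two
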