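import Cfsg.Agent.Lib.Compute.E6Two.Rep
import Cfsg.Agent.Lib.Compute.E6Two.RelCheck

/-!
Generators of `²E₆(2)`: relations, the Sylow subgroup, its intersections with conjugates under six
representatives, and an induction along the Bruhat decomposition.
-/

set_option autoImplicit false
set_option maxRecDepth 8000
set_option maxHeartbeats 400000

namespace Cfsg.Agent.Lib.Compute.E6Two

open Cfsg.Lie Cfsg.Agent.Lib.Chev Cfsg.Agent.Lib.ChevCent
open Cfsg.Agent.Lib.Twisted (e6Graph_facts GraphData e6Graph)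
open Cfsg.Agent.Lib.Twisted.Core (rootedE6 chkGraph_E6 e6Twist e6Orbits Cls diag_cls e6Orb)
open Cfsg.Agent.Lib.Schur.TwistLift (RootLayers oSet iSet iSet_succ)
open scoped Pointwise

theorem chkGens_pos : (chkGens posGens (layersWith 4) &&
    posGens.all fun n => (genTab.getD n []).all fun t => Nat.ble 36 t.1 && Nat.blt t.1 72) = true := by
  decide +kernel

/-- The facts on the generators staying positive under the representative of an orbit. -/
def chkStay (k : ℕ) : Bool :=
  chkGens (stayTab.getD k []) ((layersWith k).take 23) && decide ((layersWith k).length = 24) &&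
    ((stayTab.getD k []).all fun n =>
      (genTab.getD n []).all fun t => ((layersWith k).take 23).flatten.contains t.1) &&
    (((layersWith k).take 23).flatten.all fun r => Nat.ble 36 (perm E6.cert (repOrb k) r)) &&
    ((layersWith k).getD 23 []).all fun r => ((repOrb k).map chevE6.simple).contains r

theorem chkStay_all : ((List.range 4).all chkStay) = true := by decide +kernel

theorem stay_torus : stayTab.getD 4 [] = posGens ∧ stayTab.getD 5 [] = posGens := by decide +kernel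

/-- Where the generators of the defining words are. -/
theorem genTab_simple :
    (List.map (fun n => genTab.getD n []) [50, 29, 42, 35, 36, 37, 22, 23, 38, 39, 33, 34]) =
      [[(e6p2, 1)], [(e6m2, 1)], [(e6p4, 1)], [(e6m4, 1)], [(e6p6, 1), (e6p1, 1)], [(e6p6, 2), (e6p1, 3)],
        [(e6m1, 1), (e6m6, 1)], [(e6m1, 2), (e6m6, 3)], [(e6p5, 1), (e6p3, 1)], [(e6p5, 2), (e6p3, 3)],
        [(e6m3, 1), (e6m5, 1)], [(e6m3, 2), (e6m5, 3)]] := by
  decide +kernel

theorem pair_swaps : ([(e6p1, e6p6), (e6p3, e6p5)].all fun e =>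
    (List.range' 1 3).all fun a => (List.range' 1 3).all fun b =>
      sameW [(e.1, a), (e.2, b)] [(e.2, b), (e.1, a)]) = true := by
  decide +kernel

theorem pair_adds : ([(e6p1, e6p6), (e6p3, e6p5), (e6m1, e6m6), (e6m3, e6m5)].all fun e =>
    sameW [(e.1, 1), (e.2, 1), (e.1, 2), (e.2, 3)] [(e.1, 3), (e.2, 2)]) = true := by
  decide +kernel

theorem mem_smul_conj {G : Type*} [Group G] {U : Subgroup G} {a g : G} :
    g ∈ MulAut.conj a • U ↔ a⁻¹ * g * a ∈ U := by
  rw [Subgroup.mem_pointwise_smul_iff_inv_smul_mem]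
  simp [MulAut.smul_def]

variable {K : Type*} [Field K] [Fintype K] (H : FieldData K)

namespace FieldData

/-- The value of a generator lies in any subgroup containing it. -/
theorem valW_single_mem {S : Subgroup ↥(twistedE6 K 2)} {n : ℕ} (hn : H.x n ∈ S)
    {g : ↥(twistedE6 K 2)} (e : (g : GL chevE6.Idx K) = valW H.ω (genTab.getD n [])) : g ∈ S := by
  rwa [show g = H.x n from Subtype.ext e]

theorem gens_top : Subgroup.closure (H.x '' Set.Iio 72) = ⊤ := by
  haveI := H.char_two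
  set S := Subgroup.closure (H.x '' Set.Iio 72)
  have hgen : ∀ n < 72, valW H.ω (genTab.getD n []) ∈ S.map (twistedE6 K 2).subtype := fun n hn =>
    ⟨H.x n, Subgroup.subset_closure ⟨n, hn, rfl⟩, rfl⟩
  rw [eq_top_iff]
  suffices h : twistedE6 K 2 ≤ S.map (twistedE6 K 2).subtype by
    intro g _
    obtain ⟨g', hg', e⟩ := h g.2
    obtain rfl := Subtype.ext e
    exact hg'
  intro g hg
  change g ∈ chevE6.genSubgroup K (e6Words K 2) at hg
  refine (Subgroup.closure_le _).2 ?_ hg
  clear hg g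
  rintro g ⟨w, hw, eg⟩
  have tab := genTab_simple
  simp only [List.map_cons, List.map_nil, List.cons.injEq, and_true] at tab
  obtain ⟨t50, t29, t42, t35, t36, t37, t22, t23, t38, t39, t33, t34⟩ := tab
  have one : ∀ r n, n < 72 → genTab.getD n [] = [(r, 1)] → ∀ t : K, t ^ 2 = t →
      ∀ g : GL chevE6.Idx K, (g : Matrix _ _ K) = chevE6.wordMat K [(r, t)] →
      g ∈ S.map (twistedE6 K 2).subtype := by
    intro r n hn e t ht g eg
    have hg : g = xg checked_E6 r t := Units.ext (by rw [eg, coe_xg]; simp [ChevalleyDatum.wordMat])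
    subst hg
    rcases H.cases t with h | h | h | h
    · rw [h, show val4 H.ω 0 = 0 by simp [val4], xg_zero]; exact one_mem _
    · have := hgen n hn; rw [e] at this; rw [h]; simpa [valW] using this
    all_goals
      exfalso
      rw [h, ← H.hφ, H.phi_val4] at ht
      simp [val4, mul4] at ht
  have two : ∀ r s n m, n < 72 → m < 72 →
      valW H.ω [(r, 1), (s, 1)] = valW H.ω (genTab.getD n []) →
      sameW [(r, 1), (s, 1), (r, 2), (s, 3)] [(r, 3), (s, 2)] = true →
      (valW H.ω [(r, 2), (s, 3)] = valW H.ω (genTab.getD m []) ∨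
        valW H.ω [(r, 3), (s, 2)] = valW H.ω (genTab.getD m [])) →
      ∀ t : K, ∀ g : GL chevE6.Idx K, (g : Matrix _ _ K) = chevE6.wordMat K [(r, t), (s, t ^ 2)] →
      g ∈ S.map (twistedE6 K 2).subtype := by
    intro r s n m hn hm e1 hadd e2 t g eg
    have hg : g = xg checked_E6 r t * xg checked_E6 s (t ^ 2) :=
      Units.ext (by rw [eg, Units.val_mul, coe_xg, coe_xg]; simp [ChevalleyDatum.wordMat])
    subst hg
    have h1 : valW H.ω [(r, 1), (s, 1)] ∈ S.map (twistedE6 K 2).subtype := e1 ▸ hgen n hn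
    have hsum := valW_of_sameW H.ω H.hω hadd
    rw [show [(r, 1), (s, 1), (r, 2), (s, 3)] = [(r, 1), (s, 1)] ++ [(r, 2), (s, 3)] from rfl, valW_append] at hsum
    have h23 : valW H.ω [(r, 2), (s, 3)] ∈ S.map (twistedE6 K 2).subtype ∧
        valW H.ω [(r, 3), (s, 2)] ∈ S.map (twistedE6 K 2).subtype := by
      rcases e2 with e2 | e2
      · have h2 := e2 ▸ hgen m hm
        exact ⟨h2, hsum ▸ mul_mem h1 h2⟩
      · have h3 := e2 ▸ hgen m hm
        refine ⟨?_, h3⟩
        rw [← hsum] at h3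
        exact (Subgroup.mul_mem_cancel_left _ h1).1 h3
    rw [← H.hφ]
    rcases H.cases t with h | h | h | h <;> rw [h, H.phi_val4]
    · rw [show mul4 0 0 = 0 from rfl, show val4 H.ω 0 = 0 by simp [val4], xg_zero, xg_zero, mul_one]
      exact one_mem _
    · simpa [valW, mul4] using h1
    · simpa [valW, mul4] using h23.1
    · simpa [valW, mul4] using h23.2
  have sw : ∀ e ∈ [(e6p1, e6p6), (e6p3, e6p5)], ∀ a b : ℕ, 1 ≤ a ∧ a < 4 → 1 ≤ b ∧ b < 4 →
      valW H.ω [(e.1, a), (e.2, b)] = valW H.ω [(e.2, b), (e.1, a)] := fun e he a b ha hb =>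
    valW_of_sameW H.ω H.hω (List.all_eq_true.1 (List.all_eq_true.1 (List.all_eq_true.1 pair_swaps e he) a
      (List.mem_range'_1.2 (by omega))) b (List.mem_range'_1.2 (by omega)))
  have ad := List.all_eq_true.1 pair_adds
  rcases hw with ⟨t, ht, r, hr, rfl⟩ | ⟨t, rs, hrs, rfl⟩
  · simp only [List.mem_cons, List.not_mem_nil, or_false] at hr
    rcases hr with rfl | rfl | rfl | rfl
    · exact one _ 50 (by norm_num) t50 t ht g eg
    · exact one _ 29 (by norm_num) t29 t ht g eg
    · exact one _ 42 (by norm_num) t42 t ht g eg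
    · exact one _ 35 (by norm_num) t35 t ht g eg
  · simp only [List.mem_cons, List.not_mem_nil, or_false] at hrs
    rcases hrs with rfl | rfl | rfl | rfl
    · exact two _ _ 36 37 (by norm_num) (by norm_num)
        (by rw [t36]; exact sw _ (by simp) 1 1 (by omega) (by omega)) (ad _ (by simp))
        (Or.inr (by rw [t37]; exact sw _ (by simp) 3 2 (by omega) (by omega))) t g eg
    · exact two _ _ 22 23 (by norm_num) (by norm_num) (by rw [t22]) (ad _ (by simp))
        (Or.inl (by rw [t23])) t g eg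
    · exact two _ _ 38 39 (by norm_num) (by norm_num)
        (by rw [t38]; exact sw _ (by simp) 1 1 (by omega) (by omega)) (ad _ (by simp))
        (Or.inr (by rw [t39]; exact sw _ (by simp) 3 2 (by omega) (by omega))) t g eg
    · exact two _ _ 33 34 (by norm_num) (by norm_num) (by rw [t33]) (ad _ (by simp))
        (Or.inl (by rw [t34])) t g eg

/-- The Sylow subgroup. -/
noncomputable def U : Subgroup ↥(twistedE6 K 2) := Subgroup.closure (H.x '' {i | i ∈ posGens})

theorem sig_eq (g : ↥(twistedE6 K 2)) : H.T.sig (g : GL chevE6.Idx K) = g :=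
  H.T.sig_fixed (H.G_eq ▸ g.2)

theorem x_mem_rootGen {S : Set ℕ} {n : ℕ} (h : ∀ t ∈ genTab.getD n [], t.1 ∈ S) :
    (H.x n : GL chevE6.Idx K) ∈ rootGen chevE6 K S := by
  refine list_prod_mem fun y hy => ?_
  obtain ⟨t, ht, rfl⟩ := List.mem_map.1 hy
  exact xg_mem_rootGen checked_E6 (h t ht) _

theorem mem_closure_of_gGrp {S : List ℕ} {g : ↥(twistedE6 K 2)} (hg : (g : GL chevE6.Idx K) ∈ H.gGrp S) :
    g ∈ Subgroup.closure (H.x '' {i | i ∈ S}) := by
  obtain ⟨g', hg', e⟩ := hg
  obtain rfl := Subtype.ext e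
  exact hg'

theorem mem_U {g : ↥(twistedE6 K 2)} : g ∈ H.U ↔ (g : GL chevE6.Idx K) ∈ chevE6.posUnipotent K := by
  have hc := chkGens_pos
  simp only [Bool.and_eq_true, List.all_eq_true, Nat.ble_eq, Nat.blt_eq] at hc
  constructor
  · intro hg
    refine (Subgroup.closure_le (K := (chevE6.posUnipotent K).subgroupOf (twistedE6 K 2))).2 ?_ hg
    rintro _ ⟨n, hn, rfl⟩
    show (H.x n : GL chevE6.Idx K) ∈ chevE6.posUnipotent K
    rw [checked_E6.posUnipotent_eq]
    exact H.x_mem_rootGen fun t ht => hc.2 n hn t ht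
  · intro hg
    refine H.mem_closure_of_gGrp ?_
    have L := rootLayers_of_chk (List.all_eq_true.1 chkLay_all 4 (List.mem_range.2 (by norm_num)))
    refine H.iSet_mem L le_rfl ?_ ?_ (H.sig_eq g)
    · rw [List.take_length]; exact hc.1
    · refine rootGen_mono L.cover ?_
      rw [← checked_E6.posUnipotent_eq]
      exact hg

/-- The generators staying positive under the `k`th representative. -/
noncomputable def stayGrp (k : ℕ) : Subgroup ↥(twistedE6 K 2) :=
  Subgroup.closure (H.x '' {i | i ∈ stayTab.getD k []})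

theorem stayGrp_torus (k : ℕ) (hk : k = 4 ∨ k = 5) : H.stayGrp k = H.U := by
  rcases hk with rfl | rfl <;> simp only [stayGrp, U, stay_torus.1, stay_torus.2]

theorem conj_U_tor (k : ℕ) (hk : k = 4 ∨ k = 5) {a : ↥(twistedE6 K 2)} (ha : (a : GL chevE6.Idx K) = H.rep k) :
    MulAut.conj a • H.U = H.U := by
  ext g
  rw [mem_smul_conj, H.mem_U, H.mem_U]
  simp only [Subgroup.coe_mul, Subgroup.coe_inv, ha]
  have hN := Subgroup.mem_normalizer_iff'.1
    (rootedE6.diagonal_le_normalizer_posUnipotent (H.rep_diag k hk))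
  constructor
  · intro h
    have := (Subgroup.mem_normalizer_iff.1
      (rootedE6.diagonal_le_normalizer_posUnipotent (H.rep_diag k hk)) _).1 h
    simpa [mul_assoc] using this
  · intro h
    have := (Subgroup.mem_normalizer_iff.1
      (inv_mem (rootedE6.diagonal_le_normalizer_posUnipotent (H.rep_diag k hk))) _).1 h
    simpa using this

/-- An element of the Sylow subgroup, moved through an orbit representative. -/
theorem conj_cases (j : Fin 4) {x : ↥(twistedE6 K 2)} (hx : x ∈ H.U) {a : ↥(twistedE6 K 2)}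
    (ha : (a : GL chevE6.Idx K) = H.rep j.val) :
    (x ∈ H.stayGrp j.val ∧ a⁻¹ * x * a ∈ H.U) ∨
      ∃ b ∈ chevE6.borelSubgroup K ⊓ twistedE6 K 2, ∃ b' ∈ chevE6.borelSubgroup K ⊓ twistedE6 K 2,
        (↑(a⁻¹ * x * a) : GL chevE6.Idx K) = b * H.O.system.sEl j * b' := by
  haveI := H.char_two
  have hc := List.all_eq_true.1 chkStay_all j.val (List.mem_range.2 j.2)
  simp only [chkStay, Bool.and_eq_true, decide_eq_true_eq, List.all_eq_true, List.contains_iff_mem,
    Nat.ble_eq] at hc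
  obtain ⟨⟨⟨⟨hgens, hlen⟩, hsub⟩, hperm⟩, hsimple⟩ := hc
  set os := layersWith j.val with hos
  have L := rootLayers_of_chk (List.all_eq_true.1 chkLay_all j.val (List.mem_range.2 (by omega)))
  rw [← hos] at L
  have hxU := H.mem_U.1 hx
  rw [checked_E6.posUnipotent_eq] at hxU
  have h23 : 23 < os.length := by omega
  have hle : rootGen chevE6 K (posSet chevE6) ≤
      rootGen chevE6 K (oSet os 23) ⊔ rootGen chevE6 K (iSet os 23) := by
    refine (Subgroup.closure_le _).2 ?_
    rintro y ⟨r, t, hr, e⟩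
    have := L.cover r hr
    rw [hlen, iSet_succ] at this
    rcases this with h | h
    exacts [Subgroup.mem_sup_right (mem_rootGen h e), Subgroup.mem_sup_left (mem_rootGen h e)]
  have hx' : (x : GL chevE6.Idx K) ∈
      (↑(rootGen chevE6 K (oSet os 23) ⊔ rootGen chevE6 K (iSet os 23)) : Set (GL chevE6.Idx K)) := hle hxU
  rw [Subgroup.coe_mul_of_left_le_normalizer_right _ _
    ((L.oGrp_le_pos rootedE6 h23).trans (L.pos_le_normalizer rootedE6 h23.le))] at hx'
  obtain ⟨c, hcm, o, ho, e⟩ := hx'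
  have e' : c * o = x := e
  obtain ⟨hcf, hof⟩ := H.split_fixed L h23 hcm ho (e' ▸ H.sig_eq x)
  have hG := H.G_eq
  have hcG : c ∈ twistedE6 K 2 := by
    rw [hG, Twisted.Core.Twist.mem_fixedGroup]
    exact ⟨rootGen_le_group (fun r hr => (L.pos 23 h23 hr).2) hcm, hcf⟩
  have hoG : o ∈ twistedE6 K 2 := by
    rw [hG, Twisted.Core.Twist.mem_fixedGroup]
    exact ⟨rootGen_le_group (fun r hr => (L.iSet_pos h23.le hr).2) ho, hof⟩
  have hcl : Cls rootedE6 (H.O.system.wJ j) (H.rep j.val) := H.rep_cls j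
  have hL : IsWord chevE6 (e6Orb j) := H.O.isWordOrb j
  set n := H.rep j.val with hn
  -- the part staying positive
  have ho' : n⁻¹ * o * n ∈ chevE6.posUnipotent K := by
    have := (H.O.system.cls_inv hcl).conj_rootGen (S := iSet os 23) (S' := posSet chevE6)
      (fun r hr => (L.iSet_pos h23.le hr).2) ?_ ho
    · rw [checked_E6.posUnipotent_eq]; simpa using this
    intro r hr
    have h1 := hperm r.val (mem_flatten_take.2 hr)
    rw [repOrb_eq] at h1
    have h2 : (H.O.system.wJ j r).val = perm E6.cert (e6Orb j) r.val := checked_E6.wperm_val hL r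
    exact ⟨h2 ▸ h1, Fin.isLt _⟩
  -- the part in the orbit
  have hcu : c ∈ Twisted.Core.Twist.uGrp chevE6 K (H.O.system.wJ j) := by
    show c ∈ rootGen chevE6 K (Fin.val '' _)
    rw [show H.O.system.wJ j = wperm checked_E6 (e6Orb j) from rfl,
      Twisted.Core.image_invs_orbit checked_E6 hL (H.O.facts j).2.2.1]
    refine rootGen_mono ?_ hcm
    intro r hr
    have hr' : r ∈ os.getD 23 [] := hr
    have := hsimple r hr'
    rw [repOrb_eq] at this
    exact this
  have hs : H.O.system.sEl j ∈ twistedE6 K 2 := H.O.system.sEl_mem j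
  set s := H.O.system.sEl j with hs'
  have ht1 : s⁻¹ * n⁻¹ ∈ chevE6.diagonalSubgroup K :=
    (H.O.system.sEl_cls j).diff (H.O.system.cls_inv hcl)
  set t1 := s⁻¹ * n⁻¹ with ht1'
  have ht1G : t1 ∈ twistedE6 K 2 := mul_mem (inv_mem hs) (inv_mem (H.rep_mem _))
  have hc' : t1 * c * t1⁻¹ ∈ Twisted.Core.Twist.uGrp chevE6 K (H.O.system.wJ j) ⊓ twistedE6 K 2 := by
    refine Subgroup.mem_inf.2 ⟨?_, mul_mem (mul_mem ht1G hcG) (inv_mem ht1G)⟩
    exact (Subgroup.mem_normalizer_iff.1
      (rootedE6.diagonal_le_normalizer (Twisted.Core.image_val_lt _) ht1) c).1 hcu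
  obtain ⟨b, hb, b', hb', hbb⟩ := H.O.system.sEl_conj_mem j hc'
  have hss : (s * s)⁻¹ ∈ chevE6.borelSubgroup K ⊓ twistedE6 K 2 :=
    Subgroup.mem_inf.2 ⟨Subgroup.mem_sup_right (inv_mem (H.O.system.sEl_sq j)), inv_mem (mul_mem hs hs)⟩
  have hd : n⁻¹ * c * n = s * (t1 * c * t1⁻¹) * s * (s * s)⁻¹ := by rw [ht1']; group
  have hoB : n⁻¹ * o * n ∈ chevE6.borelSubgroup K ⊓ twistedE6 K 2 :=
    Subgroup.mem_inf.2 ⟨Subgroup.mem_sup_left ho', mul_mem (mul_mem (inv_mem (H.rep_mem _)) hoG) (H.rep_mem _)⟩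
  have hexp : (↑(a⁻¹ * x * a) : GL chevE6.Idx K) = n⁻¹ * c * n * (n⁻¹ * o * n) := by
    simp only [Subgroup.coe_mul, Subgroup.coe_inv, ha, ← hn, ← e']
    group
  rcases hbb with hbb | hbb
  · -- the orbit part is trivial
    left
    rw [← hs'] at hbb
    have hdB : n⁻¹ * c * n ∈ chevE6.borelSubgroup K := by
      rw [hd, hbb]
      exact mul_mem (mul_mem hb.1 hb'.1) hss.1
    have hdV : n⁻¹ * c * n ∈ chevE6.negUnipotent K := by
      have := (H.O.system.cls_inv hcl).conj_rootGen (S := Fin.val '' _) (S' := negSet chevE6)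
        (Twisted.Core.image_val_lt _) ?_ hcu
      · rw [checked_E6.negUnipotent_eq]; simpa using this
      rintro r ⟨r', hr', er⟩
      obtain rfl : r' = r := Fin.ext er
      exact not_le.1 (checked_E6.mem_invs.1 hr').2
    have h1 : n⁻¹ * c * n = 1 := Subgroup.mem_bot.1 (rootedE6.borel_inf_negUnipotent.le ⟨hdB, hdV⟩)
    have hc1 : c = 1 := by
      calc c = n * (n⁻¹ * c * n) * n⁻¹ := by group
        _ = 1 := by rw [h1]; group
    refine ⟨H.mem_closure_of_gGrp ?_, H.mem_U.2 ?_⟩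
    · rw [← e', hc1, one_mul]
      exact H.iSet_mem L h23.le hgens ho hof
    · rw [hexp, h1, one_mul]; exact ho'
  · right
    rw [← hs'] at hbb
    refine ⟨b, hb, b' * (s * s)⁻¹ * (n⁻¹ * o * n), mul_mem (mul_mem hb' hss) hoB, ?_⟩
    rw [hexp, hd, hbb]
    group

theorem wJ_ne_one (j : Fin 4) : H.O.system.wJ j ≠ 1 := by
  intro e
  obtain ⟨i, hi⟩ := H.O.system.J_nonempty j
  have hr := Finset.mem_range.1 (H.O.system.J_lt j hi)
  have h1 : checked_E6.sroot hr ∈ invs (H.O.system.wJ j) :=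
    (H.O.system.mem_invs_wJ j).2 ⟨checked_E6.sroot_pos hr, checked_E6.supp_simple hr hi⟩
  rw [e, checked_E6.mem_invs, Equiv.Perm.one_apply] at h1
  exact h1.2 h1.1

theorem sEl_not_borel (j : Fin 4) {b b' : GL chevE6.Idx K} (hb : b ∈ chevE6.borelSubgroup K)
    (hb' : b' ∈ chevE6.borelSubgroup K) : b * H.O.system.sEl j * b' ∉ chevE6.borelSubgroup K := by
  intro h
  have hs : H.O.system.sEl j ∈ chevE6.borelSubgroup K := by
    have := mul_mem (mul_mem (inv_mem hb) h) (inv_mem hb')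
    simpa [mul_assoc] using this
  have hd : H.O.system.sEl j ∈ chevE6.diagonalSubgroup K :=
    rootedE6.borel_inf_monomial.le ⟨hs, (H.O.system.sEl_cls j).mem_monomial⟩
  exact H.wJ_ne_one j ((H.O.system.sEl_cls j).unique (diag_cls hd))

/-- **The intersections.** -/
theorem stay_eq {k : ℕ} (hk : k < 6) {a : ↥(twistedE6 K 2)} (ha : (a : GL chevE6.Idx K) = H.rep k) :
    H.U ⊓ (MulAut.conj a • H.U) = H.stayGrp k := by
  by_cases h4 : k < 4
  swap
  · have hk' : k = 4 ∨ k = 5 := by omega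
    rw [H.conj_U_tor k hk' ha, inf_idem, H.stayGrp_torus k hk']
  refine le_antisymm (fun x hx => ?_) ?_
  · obtain ⟨hxU, hxc⟩ := hx
    change x ∈ H.U at hxU
    change x ∈ MulAut.conj a • H.U at hxc
    rw [mem_smul_conj] at hxc
    rcases H.conj_cases ⟨k, h4⟩ hxU ha with ⟨h1, -⟩ | ⟨b, hb, b', hb', e⟩
    · exact h1
    · have := Subgroup.mem_sup_left (T := chevE6.diagonalSubgroup K) (H.mem_U.1 hxc)
      rw [e] at this
      exact absurd this (H.sEl_not_borel _ hb.1 hb'.1)
  · refine (Subgroup.closure_le _).2 ?_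
    rintro _ ⟨n, hn, rfl⟩
    have hc := List.all_eq_true.1 chkStay_all k (List.mem_range.2 h4)
    simp only [chkStay, Bool.and_eq_true, decide_eq_true_eq, List.all_eq_true, List.contains_iff_mem,
      Nat.ble_eq] at hc
    have hin : (H.x n : GL chevE6.Idx K) ∈ rootGen chevE6 K (iSet (layersWith k) 23) :=
      H.x_mem_rootGen fun t ht => mem_flatten_take.1 (hc.1.1.2 n hn t ht)
    have L := rootLayers_of_chk (List.all_eq_true.1 chkLay_all k (List.mem_range.2 (by omega)))
    have hU : (H.x n : GL chevE6.Idx K) ∈ chevE6.posUnipotent K := by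
      rw [checked_E6.posUnipotent_eq]
      exact rootGen_mono (L.iSet_pos (by rw [hc.1.1.1.2]; omega)) hin
    refine ⟨H.mem_U.2 hU, mem_smul_conj.2 (H.mem_U.2 ?_)⟩
    have := (H.O.system.cls_inv (H.rep_cls ⟨k, h4⟩)).conj_rootGen (S := iSet (layersWith k) 23)
      (S' := posSet chevE6) (fun r hr => (L.iSet_pos (by rw [hc.1.1.1.2]; omega) hr).2) ?_ hin
    · rw [checked_E6.posUnipotent_eq]
      simpa [ha] using this
    intro r hr
    have h1 := hc.1.2 r.val (mem_flatten_take.2 hr)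
    rw [show repOrb k = e6Orb ⟨k, h4⟩ from repOrb_eq ⟨k, h4⟩] at h1
    have h2 : (H.O.system.wJ ⟨k, h4⟩ r).val = perm E6.cert (e6Orb ⟨k, h4⟩) r.val :=
      checked_E6.wperm_val (H.O.isWordOrb ⟨k, h4⟩) r
    exact ⟨h2 ▸ h1, Fin.isLt _⟩

/-- The representatives as elements of the group. -/
noncomputable def a (k : ℕ) : ↥(twistedE6 K 2) := Schur.prodT H.x (repTab.getD k [])

theorem torus_words {t : ↥(twistedE6 K 2)} (ht : (t : GL chevE6.Idx K) ∈ chevE6.diagonalSubgroup K) :
    ∃ i j : ℕ, t = H.a 4 ^ i * H.a 5 ^ j := by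
  haveI := H.char_two
  rw [rootedE6.diagonalSubgroup_eq] at ht
  obtain ⟨c, hc⟩ := ht
  have e := H.T.sig_fixed (hc.symm ▸ (H.G_eq ▸ t.2 : (t : GL chevE6.Idx K) ∈ H.T.fixedGroup))
  rw [Twisted.Core.Twist.sig_torusHom] at e
  obtain ⟨c', h1, h2⟩ := H.O.lift c e
  let g : Kˣ := Units.mk0 H.ω H.omega_ne
  have hφu : ∀ (i : ℕ), H.φ ((g ^ i : Kˣ) : K) = ((g ^ (2 * i) : Kˣ) : K) := fun i => by
    rw [H.hφ, ← Units.val_pow_eq_pow_val, ← pow_mul, mul_comm]
  have hunit : ∀ u : Kˣ, ∃ i < 3, u = g ^ i := by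
    intro u
    rcases H.cases (u : K) with h | h | h | h
    · exact absurd h (by simp [val4])
    · exact ⟨0, by norm_num, Units.ext (by simpa [val4] using h)⟩
    · exact ⟨1, by norm_num, Units.ext (by simpa [val4, g] using h)⟩
    · exact ⟨2, by norm_num, Units.ext (by
        rw [h, Units.val_pow_eq_pow_val, sq]; simp [val4, g, H.hω])⟩
  obtain ⟨i, -, hi⟩ := hunit (c' 2)
  obtain ⟨j, -, hj⟩ := hunit (c' 0)
  refine ⟨i, j, Subtype.ext ?_⟩
  rw [Subgroup.coe_mul, Subgroup.coe_pow, Subgroup.coe_pow]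
  simp only [a, H.coe_rep, H.rep_tor 4 (Or.inl rfl), H.rep_tor 5 (Or.inr rfl)]
  rw [← hc, ← h2, ← map_pow, ← map_pow, ← map_mul]
  refine Twisted.Core.Twist.torusHom_congr fun b hb => ?_
  have hfix : ∀ u : Kˣ, (u : K) = H.φ (u : K) → u = 1 := fun u hu => by
    rcases H.cases (u : K) with h | h | h | h
    · exact absurd h (by simp [val4])
    · exact Units.ext (by simpa [val4] using h)
    all_goals
      exfalso
      rw [h, H.phi_val4] at hu
      simp [val4, mul4] at hu
  rw [Twisted.Core.e6rank] at hb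
  have n1 := h1 1 (by decide)
  have n3 := h1 3 (by decide)
  have n0 := h1 0 (by decide)
  have n2 := h1 2 (by decide)
  simp only [show e6Graph.node 1 = 1 by decide, show e6Graph.node 3 = 3 by decide,
    show e6Graph.node 0 = 5 by decide, show e6Graph.node 2 = 4 by decide] at n1 n3 n0 n2
  rw [hi, hφu] at n2
  rw [hj, hφu] at n0
  interval_cases b <;> simp [torC, torExp, g, Pi.mul_apply, hi, hj, hfix _ n1, hfix _ n3, Units.ext n0,
    Units.ext n2, ← pow_mul]

/-- **Induction along the Bruhat decomposition.** -/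
theorem bruhat_ind (P : ↥(twistedE6 K 2) → Prop) (h1 : P 1)
    (hs : ∀ k < 6, ∀ m, H.U ⊓ (MulAut.conj (H.a k * m) • H.U) ≤ MulAut.conj (H.a k) • H.U →
      P m → P (H.a k * m)) (g : ↥(twistedE6 K 2)) :
    ∃ u ∈ H.U, ∃ v ∈ H.U, ∃ m, P m ∧ g = u * m * v := by
  haveI := H.char_two
  have hT : ∀ k, k = 4 ∨ k = 5 → ∀ m, P m → P (H.a k * m) := by
    intro k hk m hm
    refine hs k (by omega) m ?_ hm
    rw [show MulAut.conj (H.a k) • H.U = H.U from H.conj_U_tor k hk (H.coe_rep k)]
    exact inf_le_left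
  have hTp : ∀ k, k = 4 ∨ k = 5 → ∀ (i : ℕ) m, P m → P (H.a k ^ i * m) := by
    intro k hk i
    induction i with
    | zero => intro m hm; simpa using hm
    | succ i ih => intro m hm; rw [pow_succ', mul_assoc]; exact hT k hk _ (ih m hm)
  have key : ∀ w, H.T.FixW w → ∀ n : ↥(twistedE6 K 2), Cls rootedE6 w⁻¹ (n : GL chevE6.Idx K) → P n := by
    intro w hw
    refine H.O.system.fixW_induction
      (P := fun w => ∀ n : ↥(twistedE6 K 2), Cls rootedE6 w⁻¹ (n : GL chevE6.Idx K) → P n) ?_ ?_ hw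
    · intro n hn
      rw [inv_one] at hn
      obtain ⟨i, j, rfl⟩ := H.torus_words hn.diag_of_one
      exact hTp 4 (Or.inl rfl) i _ (by simpa using hTp 5 (Or.inr rfl) j 1 h1)
    intro w j hwf hd ih n hn
    have hinv : (H.O.system.wJ j)⁻¹ = H.O.system.wJ j :=
      inv_eq_of_mul_eq_one_left (H.O.system.word_sq j)
    have hm : Cls rootedE6 (w * H.O.system.wJ j)⁻¹ ((↑((H.a j.val)⁻¹ * n)) : GL chevE6.Idx K) := by
      rw [mul_inv_rev, hinv, Subgroup.coe_mul, Subgroup.coe_inv]
      refine Cls.mul ?_ hn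
      simp only [a, H.coe_rep]
      exact H.O.system.cls_inv (H.rep_cls j)
    have hstep := hs j.val (by omega) ((H.a j.val)⁻¹ * n) ?_ (ih _ hm)
    · simpa using hstep
    set m := (H.a j.val)⁻¹ * n with hmdef
    intro x hx
    obtain ⟨hxU, hxc⟩ := hx
    change x ∈ H.U at hxU
    change x ∈ MulAut.conj (H.a j.val * m) • H.U at hxc
    rw [mem_smul_conj] at hxc ⊢
    rcases H.conj_cases j hxU (H.coe_rep j.val) with ⟨-, h2⟩ | ⟨b, hb, b', hb', e⟩
    · exact h2
    exfalso
    set y := (H.a j.val * m)⁻¹ * x * (H.a j.val * m) with hy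
    have hyB : (y : GL chevE6.Idx K) ∈ chevE6.borelSubgroup K := Subgroup.mem_sup_left (H.mem_U.1 hxc)
    have heq : (H.a j.val)⁻¹ * x * H.a j.val * m = m * y := by rw [hy]; group
    have heq' := congrArg (fun z : ↥(twistedE6 K 2) => (z : GL chevE6.Idx K)) heq
    simp only [Subgroup.coe_mul] at heq'
    rw [show (H.a j.val : GL chevE6.Idx K) = H.rep j.val from H.coe_rep _] at heq'
    have e2 : (↑((H.a j.val)⁻¹) : GL chevE6.Idx K) * x * H.rep j.val = b * H.O.system.sEl j * b' := by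
      rw [← e, Subgroup.coe_mul, Subgroup.coe_mul, ← H.coe_rep]
      rfl
    rw [e2] at heq'
    have hasc : ∀ i ∈ H.O.system.J j, Asc ((w * H.O.system.wJ j)⁻¹)⁻¹ i := by
      rw [inv_inv]; exact H.O.system.asc_mul_wJ hwf hd
    obtain ⟨p, hp, p', hp', e3⟩ := H.O.system.sEl_borel_mul_asc j hb' m.2 hm hasc
    have hcell : ∀ {v : Equiv.Perm (Fin chevE6.nroots)} {z c d : GL chevE6.Idx K},
        c ∈ chevE6.borelSubgroup K → d ∈ chevE6.borelSubgroup K → Cls rootedE6 v z →
        c * z * d ∈ bcell checked_E6 K v := by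
      intro v z c d hc hd hz
      obtain ⟨L, hL, rfl, t, ht, rfl⟩ := hz
      rw [show c * (nProd checked_E6 K L * t) * d = c * nProd checked_E6 K L * (t * d) by group]
      exact bcell_mul_mem hc (rootedE6.nProd_mem_bcell hL) (mul_mem (Subgroup.mem_sup_right ht) hd)
    have c1 := hcell (one_mem _) hyB hm
    rw [one_mul, ← heq'] at c1
    have c2 := hcell (mul_mem hb.1 hp.1) hp'.1 ((H.O.system.sEl_cls j).mul hm)
    rw [show b * p * (H.O.system.sEl j * (m : GL chevE6.Idx K)) * p' =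
      b * H.O.system.sEl j * b' * m by
        rw [show b * H.O.system.sEl j * b' * (m : GL chevE6.Idx K) = b * (H.O.system.sEl j * b' * m) by group,
          e3]
        group] at c2
    have := rootedE6.bcell_unique c2 c1
    exact H.wJ_ne_one j (mul_eq_right.1 this)
  obtain ⟨w, hw, hcan⟩ := Twisted.Core.OrbitSys.fixed_canonical (H.O.G_le g.2)
  obtain ⟨⟨n, hn, hnc⟩, hle, -⟩ := H.O.system.fix_data hw
  obtain ⟨b, hb, u, hu, e⟩ := hcan n hnc (H.O.G_le hn)
  obtain ⟨u0, hu0, t, ht, eb⟩ := Twisted.Core.OrbitSys.borel_fixed_split hb.1 hb.2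
  have hu0G : u0 ∈ twistedE6 K 2 := H.G_eq ▸ hu0.2
  have htG : t ∈ twistedE6 K 2 := H.G_eq ▸ ht.2
  have huG : u ∈ twistedE6 K 2 := H.G_eq ▸ hu.2
  refine ⟨⟨u0, hu0G⟩, H.mem_U.2 hu0.1, ⟨u, huG⟩,
    H.mem_U.2 (Twisted.Core.uGrp_le_pos checked_E6 _ hu.1), ⟨t * n, mul_mem htG hn⟩, ?_, ?_⟩
  · refine key w⁻¹ hw.inv _ ?_
    rw [inv_inv]
    simpa using (diag_cls (hh := rootedE6) ht.1).mul hnc
  · refine Subtype.ext (e.trans ?_)
    simp only [Subgroup.coe_mul]
    rw [eb]
    group

theorem card_U : Nat.card ↥H.U = 2 ^ 36 := by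
  have e : H.U = (chevE6.posUnipotent K ⊓ twistedE6 K 2).subgroupOf (twistedE6 K 2) := by
    ext g
    rw [H.mem_U, Subgroup.mem_subgroupOf]
    exact ⟨fun h => ⟨h, g.2⟩, fun h => h.1⟩
  rw [e, Nat.card_congr (Subgroup.subgroupOfEquivOfLe inf_le_right).toEquiv,
    Twisted.Core.e6_card_pos Nat.prime_two.isPrimePow (by rw [H.hK]; rfl)]

theorem index_U : Odd H.U.index := by
  have h := Twisted.Core.e6_card (K := K) Nat.prime_two.isPrimePow (by rw [H.hK]; rfl)
  rw [← H.U.card_mul_index, H.card_U] at h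
  simp only [mul_assoc] at h
  rw [show Nat.gcd 3 (2 + 1) * (2 ^ 36 * H.U.index) = 2 ^ 36 * (3 * H.U.index) by
    rw [show Nat.gcd 3 (2 + 1) = 3 from rfl]; ring] at h
  have h' := Nat.eq_of_mul_eq_mul_left (by positivity) h
  have ho : Odd (3 * H.U.index) := by rw [h']; decide +kernel
  exact (Nat.odd_mul.1 ho).2

end FieldData

/-- **The generators of `²E₆(2)`.** -/
theorem exists_gens.{u} {K : Type u} [Field K] [Fintype K] (hK : Fintype.card K = 4) :
    ∃ x : ℕ → ↥(twistedE6 K 2),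
      (∀ g < numRel, Schur.prodT x (relAt g).1 = Schur.prodT x (relAt g).2) ∧
      Subgroup.closure (x '' Set.Iio 72) = ⊤ ∧
      Nat.card ↥(Subgroup.closure (x '' {i | i ∈ posGens})) = 2 ^ 36 ∧
      Odd (Subgroup.closure (x '' {i | i ∈ posGens})).index ∧
      (∀ k < 6, Subgroup.closure (x '' {i | i ∈ posGens}) ⊓
          (MulAut.conj (Schur.prodT x (repTab.getD k [])) • Subgroup.closure (x '' {i | i ∈ posGens})) =
        Subgroup.closure (x '' {i | i ∈ stayTab.getD k []})) ∧
      (∀ k < 6, ∀ p ∈ conjTabs.getD k [],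
        x p.1 * Schur.prodT x (repTab.getD k []) = Schur.prodT x (repTab.getD k []) * Schur.prodT x p.2) ∧
      ∀ P : ↥(twistedE6 K 2) → Prop, P 1 →
        (∀ k < 6, ∀ m, Subgroup.closure (x '' {i | i ∈ posGens}) ⊓
            (MulAut.conj (Schur.prodT x (repTab.getD k []) * m) • Subgroup.closure (x '' {i | i ∈ posGens})) ≤
            MulAut.conj (Schur.prodT x (repTab.getD k [])) • Subgroup.closure (x '' {i | i ∈ posGens}) →
          P m → P (Schur.prodT x (repTab.getD k []) * m)) →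
        ∀ g, ∃ u ∈ Subgroup.closure (x '' {i | i ∈ posGens}), ∃ v ∈ Subgroup.closure (x '' {i | i ∈ posGens}),
          ∃ m, P m ∧ g = u * m * v := by
  obtain ⟨H⟩ := exists_fieldData hK
  refine ⟨H.x, fun g hg => H.prodT_eq ?_, H.gens_top, H.card_U, H.index_U,
    fun k hk => H.stay_eq hk (H.coe_rep k), fun k hk p hp => H.rep_conj hk hp, fun P h1 hs => H.bruhat_ind P h1 hs⟩
  exact relOK_all hg

end Cfsg.Agent.Lib.Compute.E6Two
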