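import Cfsg.Agent.Lib.Compute.Schur.Cert

/-!
# Central extensions with prescribed tails of a presented 2-group

A power-conjugate presentation whose squares are tails is realised by adjoining the letters from the
last one to the first, each acting as an involutory automorphism on the group of the later letters.
`consOK` checks by collection that the images of the later letters satisfy the rules and that the
action squares to the identity.
-/

set_option autoImplicit false

namespace Cfsg.Agent.Lib.Compute.E6Two.Tower

open Cfsg.Agent.Lib.Compute.Schur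

universe u

/-- The shape of the rules: `p = 2`, squares are tails, conjugates use later letters. -/
def suppOK (R : PcData) : Bool :=
  Nat.beq R.p 2 && (List.range R.k).all fun i =>
    natListEq (R.rhs i i) [] &&
      (List.range i).all fun j => (R.rhs i j).all fun a => Nat.blt j a && Nat.blt a R.k

/-- The image of a word under the action of the letter `l`. -/
def imgW (R : PcData) (l : ℕ) (w : List ℕ) : List ℕ := w.flatMap fun x => R.rhs x l

/-- The tails of that image. -/
def imgT (l : ℕ) (w : List ℕ) : List ℕ := w.map fun x => tix x l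

variable {A : Type} [CommGroup A] [DecidableEq A]

/-- The image of the letter `i` satisfies its square rule. -/
noncomputable def powOK (R : PcData) (val : ℕ → A) (l i : ℕ) : Bool :=
  match ev R (R.rhs i l ++ R.rhs i l) [] with
  | (e, v) => natListEq e [] && decide (prodT val (tix i l :: tix i l :: v) = val (tix i i))

/-- The images of the letters `i`, `j` satisfy their commutator rule. -/
noncomputable def commOK (R : PcData) (val : ℕ → A) (l i j : ℕ) : Bool :=
  match ev R (R.rhs i l ++ R.rhs j l) [], ev R (R.rhs j l ++ imgW R l (R.rhs i j)) [] with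
  | (e, v), (e', v') => natListEq e e' &&
      decide (prodT val (tix i l :: tix j l :: v) =
        prodT val (tix i j :: tix j l :: (imgT l (R.rhs i j) ++ v')))

/-- The action of `l` squares to the identity on the letter `i`. -/
noncomputable def invOK (R : PcData) (val : ℕ → A) (l i : ℕ) : Bool :=
  match ev R (imgW R l (R.rhs i l)) [] with
  | (e, v) => natListEq e [i] && decide (prodT val (tix i l :: (imgT l (R.rhs i l) ++ v)) = 1)

/-- All checks of the letter `l`. -/
noncomputable def towerStepOK (R : PcData) (val : ℕ → A) (l : ℕ) : Bool :=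
  (List.range' (l + 1) (R.k - (l + 1))).all fun i =>
    powOK R val l i && invOK R val l i &&
      (List.range' (l + 1) (i - (l + 1))).all fun j => commOK R val l i j

/-- All checks. -/
noncomputable def consOK (R : PcData) (val : ℕ → A) : Bool :=
  suppOK R && (List.range R.k).all fun l => towerStepOK R val l

/-- `consOK` from the separate checks of the letters. -/
theorem consOK_of_steps {R : PcData} {val : ℕ → A} (hs : suppOK R = true)
    (h : ∀ l < R.k, towerStepOK R val l = true) : consOK R val = true := by
  simp only [consOK, hs, Bool.true_and, List.all_eq_true, List.mem_range]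
  exact h

/-- The rules among the letters from `l` on. -/
structure RulesOn (R : PcData) {Y : Type u} [Group Y] (l : ℕ) (t z : ℕ → Y) : Prop where
  central : ∀ n, z n ∈ Subgroup.center Y
  pow : ∀ i, l ≤ i → i < R.k → t i ^ 2 = z (tix i i)
  comm : ∀ i j, l ≤ j → j < i → i < R.k → t i * t j = t j * prodT t (R.rhs i j) * z (tix i j)

/-- The shape of the rules as a proposition. -/
structure Supp (R : PcData) : Prop where
  p_eq : R.p = 2
  diag : ∀ i < R.k, R.rhs i i = []
  off : ∀ i j, j < i → i < R.k → ∀ a ∈ R.rhs i j, j < a ∧ a < R.k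

theorem supp_of_suppOK {R : PcData} (h : suppOK R = true) : Supp R := by
  simp only [suppOK, Bool.and_eq_true, List.all_eq_true, List.mem_range, Nat.blt_eq] at h
  obtain ⟨hp, hr⟩ := h
  exact ⟨Nat.eq_of_beq_eq_true hp, fun i hi => natListEq_eq (hr i hi).1,
    fun i j hj hi a ha => (hr i hi).2 j hj a ha⟩

section Sound

variable {Y : Type u} [Group Y] {R : PcData} {t z : ℕ → Y} {l : ℕ}

/-- The letters are at least `l`. -/
def From (l : ℕ) (w : List ℕ) : Prop := ∀ a ∈ w, l ≤ a

theorem prodT_center (h : RulesOn R l t z) (v : List ℕ) : prodT z v ∈ Subgroup.center Y := by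
  refine Subgroup.list_prod_mem _ fun a ha => ?_
  obtain ⟨n, -, rfl⟩ := List.mem_map.1 ha
  exact h.central n

/-- `f` rewrites correctly words of letters from `l` on. -/
def SoundOn (t z : ℕ → Y) (l : ℕ) (f : ℕ → List ℕ → List ℕ × List ℕ) : Prop :=
  ∀ i w, l ≤ i → From l w →
    From l (f i w).1 ∧ t i * prodT t w = prodT t (f i w).1 * prodT z (f i w).2

theorem evWith_soundOn {f : ℕ → List ℕ → List ℕ × List ℕ} (hf : SoundOn t z l f) :
    ∀ u w : List ℕ, From l u → From l w → From l (evWith f u w).1 ∧
      prodT t u * prodT t w = prodT t (evWith f u w).1 * prodT z (evWith f u w).2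
  | [], w, _, hw => ⟨hw, by simp [evWith, prodT]⟩
  | a :: u, w, hu, hw => by
    have ih := evWith_soundOn hf u w (fun x hx => hu x (List.mem_cons_of_mem _ hx)) hw
    simp only [evWith]
    cases hq : evWith f u w with
    | mk l' v =>
      simp only [hq] at ih
      have h' := hf a l' (hu a (List.mem_cons_self ..)) ih.1
      refine ⟨h'.1, ?_⟩
      rw [prodT_cons, mul_assoc, ih.2, ← mul_assoc, h'.2]
      simp only [pushTails, prodT_append, mul_assoc]

theorem app_soundOn (hS : Supp R) (h : RulesOn R l t z) :
    ∀ fuel : ℕ, SoundOn t z l (app R fuel)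
  | 0 => fun i w hi hw => ⟨List.forall_mem_cons.2 ⟨hi, hw⟩, by simp [app, prodT]⟩
  | n + 1 => by
    have ih := app_soundOn hS h n
    intro i w hi hw
    have triv : From l (i :: w) ∧ t i * prodT t w = prodT t (i :: w) * prodT z [] :=
      ⟨List.forall_mem_cons.2 ⟨hi, hw⟩, by simp [prodT]⟩
    cases w with
    | nil => exact triv
    | cons j r =>
      have e : app R (n + 1) i (j :: r) =
          bif Nat.blt i j || !Nat.blt i R.k then (i :: j :: r, [])
          else bif Nat.beq i j then
            bif startsWith i (R.p - 1) (j :: r) then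
              pushTails (evWith (app R n) (R.rhs i i) ((j :: r).drop (R.p - 1))) [tix i i]
            else (i :: j :: r, [])
          else
            match evWith (app R n) (R.rhs i j) r with
            | (l', v) => pushTails (app R n j l') (tix i j :: v) := rfl
      rw [e]
      cases hb : Nat.blt i j || !Nat.blt i R.k with
      | true => exact triv
      | false =>
        simp only [Bool.or_eq_false_iff, Bool.not_eq_false', Nat.blt_eq] at hb
        have hji : ¬ i < j := by simpa [← Bool.not_eq_true, Nat.blt_eq] using hb.1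
        obtain ⟨hj, hr⟩ := List.forall_mem_cons.1 hw
        simp only [cond_false]
        cases hij : Nat.beq i j with
        | true =>
          obtain rfl := Nat.eq_of_beq_eq_true hij
          simp only [cond_true]
          cases hs : startsWith i (R.p - 1) (i :: r) with
          | false => exact triv
          | true =>
            simp only [cond_true, hS.p_eq, hS.diag i hb.2, evWith, pushTails, List.nil_append,
              Nat.add_one_sub_one, List.drop_succ_cons, List.drop_zero]
            refine ⟨hr, ?_⟩
            rw [prodT_cons, ← mul_assoc, ← pow_two, h.pow i hi hb.2,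
              ← Subgroup.mem_center_iff.1 (h.central _) (prodT t r)]
            simp [prodT]
        | false =>
          have hlt : j < i := by
            rcases Nat.lt_or_ge j i with h' | h'
            · exact h'
            · obtain rfl : i = j := by omega
              simp at hij
          simp only [cond_false]
          have h1 := evWith_soundOn ih (R.rhs i j) r
            (fun a ha => le_trans hj (hS.off i j hlt hb.2 a ha).1.le) hr
          cases hq : evWith (app R n) (R.rhs i j) r with
          | mk l' v =>
            rw [hq] at h1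
            have h2 := ih j l' hj h1.1
            refine ⟨h2.1, ?_⟩
            rw [prodT_cons, ← mul_assoc, h.comm i j hj hlt hb.2, mul_assoc,
              ← Subgroup.mem_center_iff.1 (h.central _) (prodT t r), ← mul_assoc, mul_assoc (t j),
              h1.2, ← mul_assoc, h2.2]
            simp only [pushTails, prodT_append, prodT_cons]
            simp only [mul_assoc]
            congr 2
            exact Subgroup.mem_center_iff.1 (h.central _) _

theorem ev_soundOn (hS : Supp R) (h : RulesOn R l t z) {u : List ℕ} (hu : From l u) :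
    prodT t u = prodT t (ev R u []).1 * prodT z (ev R u []).2 := by
  have := (evWith_soundOn (app_soundOn hS h (4 * R.k + 8)) u [] hu (by simp [From])).2
  simpa [prodT, ev] using this

theorem prodT_mul_central {W Z : ℕ → Y} (hZ : ∀ x, Z x ∈ Subgroup.center Y) :
    ∀ w : List ℕ, prodT (fun x => W x * Z x) w = prodT W w * prodT Z w
  | [] => by simp [prodT]
  | x :: w => by
    rw [prodT_cons, prodT_cons, prodT_cons, prodT_mul_central hZ w, mul_assoc (W x) (Z x),
      ← mul_assoc (Z x), ← Subgroup.mem_center_iff.1 (hZ x) (prodT W w)]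
    simp only [mul_assoc]

theorem prodT_flatMap (t : ℕ → Y) (f : ℕ → List ℕ) :
    ∀ w : List ℕ, prodT t (w.flatMap f) = prodT (fun x => prodT t (f x)) w
  | [] => rfl
  | x :: w => by rw [List.flatMap_cons, prodT_append, prodT_cons, prodT_flatMap t f w]

end Sound

/-- Adjoining to `Q` a letter acting as `φ` whose square is `c`. -/
structure TwistData (Q : Type) [Group Q] where
  φ : Q →* Q
  c : Q
  inv : ∀ q, φ (φ q) = q
  fix : φ c = c
  cen : c ∈ Subgroup.center Q

/-- The pairs `(e, q)`, standing for `T ^ e * q`. -/
@[ext]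
structure Twist {Q : Type} [Group Q] (D : TwistData Q) where
  e : Bool
  q : Q

namespace Twist

variable {Q : Type} [Group Q] {D : TwistData Q}

instance : Mul (Twist D) :=
  ⟨fun x y => ⟨xor x.e y.e,
    (bif x.e && y.e then D.c else 1) * (bif y.e then D.φ x.q else x.q) * y.q⟩⟩

instance : One (Twist D) := ⟨⟨false, 1⟩⟩

instance : Inv (Twist D) :=
  ⟨fun x => ⟨x.e, bif x.e then (D.φ x.q)⁻¹ * D.c⁻¹ else x.q⁻¹⟩⟩

theorem mul_e (x y : Twist D) : (x * y).e = xor x.e y.e := rfl

theorem mul_q (x y : Twist D) :
    (x * y).q = (bif x.e && y.e then D.c else 1) * (bif y.e then D.φ x.q else x.q) * y.q := rfl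

theorem c_comm (D : TwistData Q) (a : Q) : a * D.c = D.c * a :=
  Subgroup.mem_center_iff.1 D.cen a

theorem c_comm' (D : TwistData Q) (a b : Q) : a * (D.c * b) = D.c * (a * b) := by
  rw [← mul_assoc, c_comm, mul_assoc]

instance : Group (Twist D) :=
  Group.ofLeftAxioms
    (fun x y z => by
      obtain ⟨a, x⟩ := x; obtain ⟨b, y⟩ := y; obtain ⟨d, z⟩ := z
      refine Twist.ext ?_ ?_
      · simp [mul_e, Bool.xor_assoc]
      · cases a <;> cases b <;> cases d <;>
          simp [mul_q, mul_e, mul_assoc, map_mul, D.inv, D.fix, c_comm', c_comm])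
    (fun x => by
      obtain ⟨a, x⟩ := x
      refine Twist.ext ?_ ?_
      · simp [mul_e, show (1 : Twist D).e = false from rfl]
      · cases a <;> simp [mul_q, show (1 : Twist D).e = false from rfl,
          show (1 : Twist D).q = 1 from rfl])
    (fun x => by
      obtain ⟨a, x⟩ := x
      refine Twist.ext ?_ ?_
      · cases a <;> rfl
      · change (bif a && a then D.c else 1) *
          (bif a then D.φ (bif a then (D.φ x)⁻¹ * D.c⁻¹ else x⁻¹)
            else (bif a then (D.φ x)⁻¹ * D.c⁻¹ else x⁻¹)) * x = 1
        cases a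
        · simp
        · simp only [Bool.and_self, cond_true, map_mul, map_inv, D.inv, D.fix]
          rw [← mul_assoc D.c, ← c_comm D x⁻¹]
          group)

instance [Finite Q] : Finite (Twist D) :=
  Finite.of_injective (fun x => (x.e, x.q)) fun x y h =>
    Twist.ext (congrArg Prod.fst h) (congrArg Prod.snd h)

theorem card_eq : Nat.card (Twist D) = 2 * Nat.card Q := by
  rw [Nat.card_congr (⟨fun x => (x.e, x.q), fun p => ⟨p.1, p.2⟩, fun _ => rfl, fun _ => rfl⟩ :
    Twist D ≃ Bool × Q), Nat.card_prod]
  simp

/-- The inclusion of `Q`. -/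
def incl (D : TwistData Q) : Q →* Twist D where
  toFun q := ⟨false, q⟩
  map_one' := rfl
  map_mul' a b := Twist.ext rfl (by simp [mul_q])

/-- The adjoined letter. -/
def top (D : TwistData Q) : Twist D := ⟨true, 1⟩

theorem incl_injective : Function.Injective (incl D) := fun _ _ h => congrArg Twist.q h

theorem top_mul_top : top D * top D = incl D D.c := Twist.ext rfl (by simp [mul_q, top, incl])

theorem incl_mul_top (q : Q) : incl D q * top D = top D * incl D (D.φ q) :=
  Twist.ext rfl (by simp [mul_q, top, incl])

theorem eq_top_mul (x : Twist D) :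
    x = (if x.e then top D else 1) * incl D x.q := by
  obtain ⟨a, q⟩ := x
  cases a
  · simp [incl]
  · exact Twist.ext rfl (by simp [mul_q, top, incl])

theorem incl_center {q : Q} (hq : q ∈ Subgroup.center Q) (hf : D.φ q = q) :
    incl D q ∈ Subgroup.center (Twist D) := by
  refine Subgroup.mem_center_iff.2 fun x => ?_
  obtain ⟨a, x⟩ := x
  refine Twist.ext (by cases a <;> rfl) ?_
  cases a <;> simp [mul_q, incl, hf, Subgroup.mem_center_iff.1 hq x]

/-- The homomorphism given by one on `Q` and an image of the new letter. -/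
def lift {Y : Type u} [Group Y] (f : Q →* Y) (s : Y) (h2 : s * s = f D.c)
    (hconj : ∀ q, f q * s = s * f (D.φ q)) : Twist D →* Y :=
  MonoidHom.mk' (fun x => (bif x.e then s else 1) * f x.q) (by
    rintro ⟨a, x⟩ ⟨b, y⟩
    have hk : ∀ q r, f q * (s * r) = s * (f (D.φ q) * r) := fun q r => by
      rw [← mul_assoc, hconj, mul_assoc]
    have h2' : ∀ r, s * (s * r) = f D.c * r := fun r => by rw [← mul_assoc, h2]
    cases a <;> cases b <;> simp [mul_q, mul_e, map_mul, mul_assoc, hk, h2', hconj])

theorem lift_incl {Y : Type u} [Group Y] (f : Q →* Y) (s : Y) (h2 : s * s = f D.c)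
    (hconj : ∀ q, f q * s = s * f (D.φ q)) (q : Q) : lift f s h2 hconj (incl D q) = f q :=
  show (1 : Y) * f q = f q from one_mul _

theorem lift_top {Y : Type u} [Group Y] (f : Q →* Y) (s : Y) (h2 : s * s = f D.c)
    (hconj : ∀ q, f q * s = s * f (D.φ q)) : lift f s h2 hconj (top D) = s :=
  show s * f 1 = s by simp

end Twist

/-- A realisation of the letters from `l` on. -/
structure Model (R : PcData) (val : ℕ → A) (l : ℕ) (P : Type) [Group P] (ι : A →* P)
    (t : ℕ → P) : Prop where
  inj : Function.Injective ι
  le_center : ι.range ≤ Subgroup.center P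
  rules : RulesOn R l t (fun n => ι (val n))
  gen : Subgroup.closure (t '' Set.Ico l R.k ∪ Set.range ι) = ⊤
  card : Nat.card P = Nat.card A * 2 ^ (R.k - l)
  univ : ∀ {Y : Type u} [Group Y] (s : ℕ → Y) (j : A →* Y), j.range ≤ Subgroup.center Y →
    RulesOn R l s (fun n => j (val n)) →
      ∃ f : P →* Y, (∀ i, l ≤ i → i < R.k → f (t i) = s i) ∧ ∀ a, f (ι a) = j a

variable [Finite A]

theorem exists_model_top (R : PcData) (val : ℕ → A) :
    ∃ (P : Type) (_ : Group P) (_ : Finite P) (ι : A →* P) (t : ℕ → P),
      Model.{u} R val R.k P ι t := by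
  refine ⟨A, inferInstance, inferInstance, MonoidHom.id A, fun _ => 1, ?_⟩
  exact
    { inj := fun _ _ h => h
      le_center := fun a _ => Subgroup.mem_center_iff.2 fun g => mul_comm g a
      rules := ⟨fun n => Subgroup.mem_center_iff.2 fun g => mul_comm g _,
        fun i h1 h2 => absurd h1 (by omega), fun i j h1 h2 h3 => absurd h1 (by omega)⟩
      gen := top_le_iff.1 fun a _ => Subgroup.subset_closure (Or.inr ⟨a, rfl⟩)
      card := by simp
      univ := fun s j _ _ => ⟨j, fun i h1 h2 => absurd h1 (by omega), fun a => rfl⟩ }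

theorem exists_model_step (R : PcData) (val : ℕ → A) (hS : Supp R) (l : ℕ) (hl : l < R.k)
    (hstep : towerStepOK R val l = true)
    (hM : ∃ (P : Type) (_ : Group P) (_ : Finite P) (ι : A →* P) (t : ℕ → P),
      Model.{u} R val (l + 1) P ι t) :
    ∃ (P : Type) (_ : Group P) (_ : Finite P) (ι : A →* P) (t : ℕ → P),
      Model.{u} R val l P ι t := by
  obtain ⟨Q, _, _, ι, t, M⟩ := hM
  simp only [towerStepOK, powOK, invOK, commOK, List.all_eq_true, List.mem_range'_1, Bool.and_eq_true,
    decide_eq_true_eq] at hstep
  have hcen : ∀ a, ι a ∈ Subgroup.center Q := fun a => M.le_center ⟨a, rfl⟩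
  have hzv : ∀ v, prodT (fun n => ι (val n)) v = ι (prodT val v) := fun v => (map_prodT ι val v).symm
  have hev : ∀ w, From (l + 1) w → prodT t w = prodT t (ev R w []).1 * ι (prodT val (ev R w []).2) :=
    fun w hw => by rw [← hzv]; exact ev_soundOn hS M.rules hw
  have hrhs : ∀ i, l < i → i < R.k → From (l + 1) (R.rhs i l) := fun i h1 h2 a ha =>
    (hS.off i l h1 h2 a ha).1
  have himg : ∀ i j, l < j → j < i → i < R.k → From (l + 1) (imgW R l (R.rhs i j)) := by
    intro i j h1 h2 h3 a ha
    obtain ⟨x, hx, hax⟩ := List.mem_flatMap.1 ha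
    have hx' := hS.off i j h2 h3 x hx
    exact (hS.off x l (by omega) hx'.2 a hax).1
  set s : ℕ → Q := fun x => prodT t (R.rhs x l) * ι (val (tix x l)) with hsdef
  have hsw : ∀ w, prodT s w = prodT t (imgW R l w) * ι (prodT val (imgT l w)) := by
    intro w
    rw [hsdef, prodT_mul_central fun x => hcen _, map_prodT, imgW, prodT_flatMap]
    congr 1
    simp [prodT, imgT, List.map_map, Function.comp_def]
  have hsR : RulesOn R (l + 1) s (fun n => ι (val n)) := by
    refine ⟨M.rules.central, fun i h1 h2 => ?_, fun i j h1 h2 h3 => ?_⟩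
    · obtain ⟨⟨⟨he, hv⟩, -⟩, -⟩ := hstep i ⟨h1, by omega⟩
      have hw : From (l + 1) (R.rhs i l ++ R.rhs i l) :=
        List.forall_mem_append.2 ⟨hrhs i h1 h2, hrhs i h1 h2⟩
      have := hev _ hw
      rw [natListEq_eq he, prodT_append] at this
      simp only [pow_two, hsdef]
      rw [mul_assoc, ← mul_assoc (ι _), ← Subgroup.mem_center_iff.1 (hcen _) (prodT t _), mul_assoc,
        ← mul_assoc, this, ← hv]
      simp [prodT, mul_assoc, mul_comm, mul_left_comm, ← map_mul]
    · obtain ⟨he, hv⟩ := (hstep i ⟨by omega, by omega⟩).2 j ⟨h1, by omega⟩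
      have hwl : From (l + 1) (R.rhs i l ++ R.rhs j l) :=
        List.forall_mem_append.2 ⟨hrhs i (by omega) h3, hrhs j h1 (by omega)⟩
      have hwr : From (l + 1) (R.rhs j l ++ imgW R l (R.rhs i j)) :=
        List.forall_mem_append.2 ⟨hrhs j h1 (by omega), himg i j h1 h2 h3⟩
      have e1 := hev _ hwl
      have e2 := hev _ hwr
      rw [prodT_append] at e1 e2
      rw [natListEq_eq he] at e1
      have hL : s i * s j = prodT t (ev R (R.rhs j l ++ imgW R l (R.rhs i j)) []).1 *
          ι (prodT val (tix i l :: tix j l :: (ev R (R.rhs i l ++ R.rhs j l) []).2)) := by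
        simp only [hsdef]
        rw [mul_assoc, ← mul_assoc (ι _), ← Subgroup.mem_center_iff.1 (hcen _) (prodT t _),
          mul_assoc, ← mul_assoc, e1]
        simp [prodT, mul_assoc, mul_comm, mul_left_comm, ← map_mul]
      have hR : s j * prodT s (R.rhs i j) * ι (val (tix i j)) =
          prodT t (ev R (R.rhs j l ++ imgW R l (R.rhs i j)) []).1 *
          ι (prodT val (tix i j :: tix j l ::
            (imgT l (R.rhs i j) ++ (ev R (R.rhs j l ++ imgW R l (R.rhs i j)) []).2))) := by
        rw [hsw]
        simp only [hsdef]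
        rw [mul_assoc (prodT t _) (ι _), ← mul_assoc (ι _),
          ← Subgroup.mem_center_iff.1 (hcen _) (prodT t _), mul_assoc _ (ι _) (ι _),
          ← mul_assoc (prodT t (R.rhs j l)), e2]
        simp [prodT, mul_assoc, mul_comm, mul_left_comm, ← map_mul]
      rw [hL, hR, hv]
  obtain ⟨g, hgt, hgι⟩ := M.univ (Y := ULift.{u} Q) (fun x => ⟨s x⟩)
    ((MulEquiv.ulift.symm : Q ≃* ULift.{u} Q).toMonoidHom.comp ι)
    (by
      rintro _ ⟨a, rfl⟩
      exact Subgroup.mem_center_iff.2 fun x =>
        ULift.ext _ _ (Subgroup.mem_center_iff.1 (hcen a) x.down))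
    (by
      have hd : ∀ w, prodT (fun x => (⟨s x⟩ : ULift.{u} Q)) w = ⟨prodT s w⟩ := fun w =>
        (map_prodT (MulEquiv.ulift.symm : Q ≃* ULift.{u} Q).toMonoidHom s w).symm
      refine ⟨fun n => Subgroup.mem_center_iff.2 fun x => ULift.ext _ _
        (Subgroup.mem_center_iff.1 (hcen _) x.down), fun i h1 h2 => ULift.ext _ _ (hsR.pow i h1 h2),
        fun i j h1 h2 h3 => ?_⟩
      rw [hd]
      exact ULift.ext _ _ (hsR.comm i j h1 h2 h3))
  set φ : Q →* Q := (MulEquiv.ulift : ULift.{u} Q ≃* Q).toMonoidHom.comp g with hφ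
  have hφt : ∀ i, l + 1 ≤ i → i < R.k → φ (t i) = s i := fun i h1 h2 => by
    simp [hφ, hgt i h1 h2]; rfl
  have hφι : ∀ a, φ (ι a) = ι a := fun a => by simp [hφ, hgι a]
  have hφw : ∀ w, (∀ x ∈ w, l + 1 ≤ x ∧ x < R.k) → φ (prodT t w) = prodT s w := fun w hw => by
    rw [map_prodT, prodT, prodT]
    exact congrArg List.prod (List.map_congr_left fun x hx => hφt x (hw x hx).1 (hw x hx).2)
  have hφφ : ∀ q, φ (φ q) = q := by
    refine DFunLike.congr_fun (MonoidHom.eq_of_eqOn_dense M.gen (f := φ.comp φ) (g := MonoidHom.id Q) ?_)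
    rintro _ (⟨i, ⟨h1, h2⟩, rfl⟩ | ⟨a, rfl⟩)
    · obtain ⟨⟨-, he, hv⟩, -⟩ := hstep i ⟨h1, by omega⟩
      have himgi : From (l + 1) (imgW R l (R.rhs i l)) := by
        intro a ha
        obtain ⟨x, hx, hax⟩ := List.mem_flatMap.1 ha
        have hx' := hS.off i l h1 h2 x hx
        exact (hS.off x l hx'.1 hx'.2 a hax).1
      simp only [MonoidHom.comp_apply, MonoidHom.id_apply]
      rw [hφt i h1 h2, hsdef]
      simp only
      rw [map_mul, hφι, hφw _ (fun x hx => hS.off i l h1 h2 x hx), hsw, hev _ himgi,
        natListEq_eq he, mul_assoc, mul_assoc, ← map_mul, ← map_mul]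
      have hcomb : prodT val (ev R (imgW R l (R.rhs i l)) []).2 *
          (prodT val (imgT l (R.rhs i l)) * val (tix i l)) = 1 := by
        rw [← hv]; simp [prodT, mul_assoc, mul_comm, mul_left_comm]
      rw [hcomb]
      simp [prodT]
    · simp [hφι]
  let D : TwistData Q := ⟨φ, ι (val (tix l l)), hφφ, hφι _, hcen _⟩
  classical
  set t' : ℕ → Twist D := fun x => if x = l then Twist.top D else Twist.incl D (t x) with ht'
  have ht'l : t' l = Twist.top D := by simp [ht']
  have ht'w : ∀ w, From (l + 1) w → prodT t' w = Twist.incl D (prodT t w) := fun w hw => by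
    rw [map_prodT, prodT, prodT]
    refine congrArg List.prod (List.map_congr_left fun x hx => ?_)
    have := hw x hx
    simp [ht', show x ≠ l by omega]
  have ht'x : ∀ x, l < x → t' x = Twist.incl D (t x) := fun x hx => by
    simp [ht', show x ≠ l by omega]
  refine ⟨Twist D, inferInstance, inferInstance, (Twist.incl D).comp ι, t', ?_⟩
  exact
    { inj := Twist.incl_injective.comp M.inj
      le_center := by
        rintro _ ⟨a, rfl⟩
        exact Twist.incl_center (hcen a) (hφι a)
      rules := by
        refine ⟨fun n => Twist.incl_center (hcen _) (hφι _), fun i h1 h2 => ?_,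
          fun i j h1 h2 h3 => ?_⟩
        · rcases Nat.eq_or_lt_of_le h1 with rfl | h1
          · rw [ht'l, pow_two]; exact Twist.top_mul_top
          · rw [ht'x i h1, ← map_pow, M.rules.pow i h1 h2]; rfl
        · rcases Nat.eq_or_lt_of_le h1 with rfl | h1
          · rw [ht'l, ht'x i h2, Twist.incl_mul_top, show D.φ (t i) = s i from hφt i h2 h3,
              ht'w _ (hrhs i h2 h3), mul_assoc]
            simp [hsdef]
          · rw [ht'x i (by omega), ht'x j h1, ht'w _
              (fun a ha => by have := hS.off i j h2 h3 a ha; omega), ← map_mul,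
              M.rules.comm i j h1 h2 h3]
            simp [mul_assoc]
      gen := by
        refine top_le_iff.1 fun x _ => ?_
        set H := Subgroup.closure (t' '' Set.Ico l R.k ∪ Set.range ((Twist.incl D).comp ι))
        have hQ : (⊤ : Subgroup Q) ≤ H.comap (Twist.incl D) := by
          rw [← M.gen, Subgroup.closure_le]
          rintro _ (⟨i, ⟨h1, h2⟩, rfl⟩ | ⟨a, rfl⟩)
          · exact Subgroup.subset_closure (Or.inl ⟨i, ⟨by omega, h2⟩, ht'x i h1⟩)
          · exact Subgroup.subset_closure (Or.inr ⟨a, rfl⟩)
        rw [Twist.eq_top_mul x]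
        refine Subgroup.mul_mem _ ?_ (hQ (Subgroup.mem_top _))
        split
        · exact Subgroup.subset_closure (Or.inl ⟨l, ⟨le_rfl, hl⟩, ht'l⟩)
        · exact Subgroup.one_mem _
      card := by
        rw [Twist.card_eq, M.card, show R.k - l = R.k - (l + 1) + 1 by omega, pow_succ]
        ring
      univ := fun {Y} _ σ j hj hσ => by
        obtain ⟨f, hft, hfι⟩ := M.univ σ j hj
          ⟨hσ.central, fun i h1 h2 => hσ.pow i (by omega) h2,
            fun i k h1 h2 h3 => hσ.comm i k (by omega) h2 h3⟩
        have hfw : ∀ w, (∀ x ∈ w, l + 1 ≤ x ∧ x < R.k) → f (prodT t w) = prodT σ w :=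
          fun w hw => by
            rw [map_prodT, prodT, prodT]
            exact congrArg List.prod
              (List.map_congr_left fun x hx => hft x (hw x hx).1 (hw x hx).2)
        have hconj : ∀ q, f q * σ l = σ l * f (D.φ q) := by
          have : (MulAut.conj (σ l)⁻¹).toMonoidHom.comp f = f.comp φ := by
            refine MonoidHom.eq_of_eqOn_dense M.gen ?_
            rintro _ (⟨i, ⟨h1, h2⟩, rfl⟩ | ⟨a, rfl⟩)
            · simp only [MonoidHom.comp_apply, MulEquiv.coe_toMonoidHom, MulAut.conj_apply, inv_inv]
              rw [hft i h1 h2, hφt i h1 h2, mul_assoc, hσ.comm i l le_rfl h1 h2]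
              simp only [hsdef, map_mul, hfι]
              rw [hfw _ (fun x hx => hS.off i l h1 h2 x hx), mul_assoc (σ l),
                inv_mul_cancel_left]
            · simp only [MonoidHom.comp_apply, MulEquiv.coe_toMonoidHom, MulAut.conj_apply, inv_inv,
                hφι, hfι]
              rw [mul_assoc, ← Subgroup.mem_center_iff.1 (hj ⟨a, rfl⟩) (σ l), inv_mul_cancel_left]
          intro q
          have := DFunLike.congr_fun this q
          simp only [MonoidHom.comp_apply, MulEquiv.coe_toMonoidHom, MulAut.conj_apply, inv_inv] at this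
          rw [show f (D.φ q) = f (φ q) from rfl, ← this]
          group
        have h2 : σ l * σ l = f D.c := by
          rw [← pow_two, hσ.pow l le_rfl hl]
          exact (hfι _).symm
        refine ⟨Twist.lift f (σ l) h2 hconj, fun i h1 h2 => ?_, fun a => ?_⟩
        · rcases Nat.eq_or_lt_of_le h1 with rfl | h1
          · rw [ht'l, Twist.lift_top]
          · rw [ht'x i h1, Twist.lift_incl, hft i h1 h2]
        · rw [MonoidHom.comp_apply, Twist.lift_incl, hfι] }

/-- A presentation passing the check is realised by a group of order `|A| * 2 ^ k` with the universal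
property. -/
theorem exists_deformed (R : PcData) (val : ℕ → A) (h : consOK R val = true) :
    ∃ (P : Type) (_ : Group P) (_ : Finite P) (ι : A →* P) (t : ℕ → P), Function.Injective ι ∧
      ι.range ≤ Subgroup.center P ∧ IsLift R t (fun n => ι (val n)) ∧
      Subgroup.closure (t '' Set.Iio R.k ∪ Set.range ι) = ⊤ ∧
      Nat.card P = Nat.card A * 2 ^ R.k ∧
      ∀ {Y : Type u} [Group Y] (s : ℕ → Y) (j : A →* Y), j.range ≤ Subgroup.center Y →
        IsLift R s (fun n => j (val n)) →
          ∃ f : P →* Y, (∀ i < R.k, f (t i) = s i) ∧ ∀ a, f (ι a) = j a := by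
  simp only [consOK, Bool.and_eq_true, List.all_eq_true, List.mem_range] at h
  obtain ⟨hs, hsteps⟩ := h
  have hS := supp_of_suppOK hs
  have key : ∀ d, d ≤ R.k → ∃ (P : Type) (_ : Group P) (_ : Finite P) (ι : A →* P) (t : ℕ → P),
      Model.{u} R val (R.k - d) P ι t := by
    intro d
    induction d with
    | zero => intro _; exact exists_model_top R val
    | succ d ih =>
      intro hd
      refine exists_model_step R val hS _ (by omega) (hsteps _ (by omega)) ?_
      rw [show R.k - (d + 1) + 1 = R.k - d by omega]
      exact ih (by omega)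
  obtain ⟨P, iG, iF, ι, t, M⟩ := key R.k le_rfl
  rw [Nat.sub_self] at M
  refine ⟨P, iG, iF, ι, t, M.inj, M.le_center, ⟨M.rules.central, fun i hi => ?_,
    fun i j hj hi => M.rules.comm i j (Nat.zero_le _) hj hi, by simp [hS.p_eq]⟩, ?_, ?_, ?_⟩
  · rw [hS.p_eq, M.rules.pow i (Nat.zero_le _) hi, hS.diag i hi]
    simp [prodT]
  · rw [← M.gen]
    congr 3
    ext x
    simp
  · simpa using M.card
  · intro Y _ s j hj hL
    obtain ⟨f, hf, hfι⟩ := M.univ s j hj ⟨hL.central, fun i _ hi => by
      rw [← hS.p_eq, hL.pow i hi, hS.diag i hi]; simp [prodT], fun i k _ hk hi => hL.comm i k hk hi⟩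
    exact ⟨f, fun i hi => hf i (Nat.zero_le _) hi, hfι⟩

end Cfsg.Agent.Lib.Compute.E6Two.Tower
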