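import Cfsg.Agent.Lib.Compute.E6Two.Steps
import Cfsg.Agent.Lib.Compute.E6Two.PosSys
import Cfsg.Agent.Lib.Compute.FFourTwo.Bound
import Cfsg.Agent.Lib.Schur.Sylow

/-! The `2`-part of the kernel of a stem extension of `²E₆(2)` has at most four elements. -/

set_option autoImplicit false
set_option maxRecDepth 100000

namespace Cfsg.Agent.Lib.Compute.E6Two

open Cfsg.Agent.Lib.Compute.Schur
open scoped commutatorElement

/-- The letters of the relations are generators. -/
def lettersOK (L : List (List ℕ × List ℕ)) : Bool :=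
  L.all fun p => p.1.all (fun a => Nat.blt a 72) && p.2.all fun a => Nat.blt a 72

theorem letters_ok : (varTabs.all lettersOK) = true := by decide +kernel

theorem relAt_lt {g : ℕ} : (∀ a ∈ (relAt g).1, a < 72) ∧ ∀ a ∈ (relAt g).2, a < 72 := by
  have h := letters_ok
  simp only [List.all_eq_true, lettersOK, Bool.and_eq_true, Nat.blt_eq] at h
  rw [relAt]
  by_cases h1 : g / 64 < varTabs.length
  · rw [List.getD_eq_getElem varTabs _ h1]
    have hL := h _ (List.getElem_mem h1)
    by_cases h2 : g % 64 < varTabs[g / 64].length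
    · rw [List.getD_eq_getElem _ _ h2]
      exact hL _ (List.getElem_mem h2)
    · rw [List.getD_eq_default _ _ (by omega)]; simp
  · rw [List.getD_eq_default varTabs _ (by omega)]; simp

/-- The first 72 relations define the generators as commutators. -/
noncomputable def unitCheck : Bool :=
  (List.range 72).all fun t => forceNat (getP 16 ordTab t) fun g => Nat.blt g numRel &&
    match relAt g with
    | ([a, b], [b', a', c]) => Nat.beq a a' && Nat.beq b b' && Nat.beq c t
    | _ => false

theorem unit_ok : unitCheck = true := by decide +kernel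

theorem unit_rel {t : ℕ} (ht : t < 72) : getP 16 ordTab t < numRel ∧
    ∃ a b, relAt (getP 16 ordTab t) = ([a, b], [b, a, t]) := by
  have h := unit_ok
  simp only [unitCheck, List.all_eq_true, List.mem_range, forceNat_eq, Bool.and_eq_true, Nat.blt_eq] at h
  obtain ⟨h1, h2⟩ := h t ht
  refine ⟨h1, ?_⟩
  split at h2
  · rename_i a b b' a' c e
    simp only [Bool.and_eq_true] at h2
    exact ⟨a, b, by rw [e, ← Nat.eq_of_beq_eq_true h2.1.1, ← Nat.eq_of_beq_eq_true h2.1.2,
      Nat.eq_of_beq_eq_true h2.2]⟩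
  · simp at h2

theorem map_zeta {Y Q : Type*} [Group Y] [Group Q] (σ : Y →* Q) (X : ℕ → Y) (g : ℕ) :
    σ (ζ X g) = ζ (fun a => σ (X a)) g := by
  simp [ζ, map_prodT]

theorem prodT_congr {Y : Type*} [Group Y] {X X' : ℕ → Y} {u : List ℕ} (h : ∀ a ∈ u, X a = X' a) :
    prodT X u = prodT X' u :=
  congrArg List.prod (List.map_congr_left h)

theorem pow_parity {Y : Type*} [Group Y] {a : Y} (ha : a ^ 2 = 1) (v : ℤ) : a ^ v = 1 ∨ a ^ v = a := by
  have e : a ^ v = a ^ (v % 2) := by
    conv_lhs => rw [← Int.emod_add_mul_ediv v 2]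
    rw [zpow_add, zpow_mul, show a ^ (2 : ℤ) = 1 from by exact_mod_cast ha, one_zpow, mul_one]
  rcases Int.emod_two_eq_zero_or_one v with h | h <;> simp [e, h]

variable {G : Type*} [Group G] [Finite G] {x : ℕ → G}

/-- Distinct normal words in the positive generators are distinct. -/
theorem normal_inj (hrel : ∀ g < numRel, prodT x (relAt g).1 = prodT x (relAt g).2)
    (hcard : Nat.card ↥(Subgroup.closure (x '' {i | i ∈ posGens})) = 2 ^ 36)
    {e : Fin sysPos.R.k → Fin sysPos.R.p}
    (he : prodT (fun i => x (sysPos.root i))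
      ((List.finRange sysPos.R.k).flatMap fun i => List.replicate (e i : ℕ) (i : ℕ)) = 1) :
    ((List.finRange sysPos.R.k).flatMap fun i => List.replicate (e i : ℕ) (i : ℕ)) = [] := by
  haveI : NeZero sysPos.R.p := ⟨by decide⟩
  have hz : ∀ g < numRel, ζ x g = 1 := fun g hg => by rw [ζ, hrel g hg, inv_mul_cancel]
  obtain ⟨hl, hgx⟩ := isLift_of_sysCheck (X := x) (fun g hg => by rw [hz g hg]; exact Subgroup.one_mem _)
    sysPos_ok
  let N : (Fin sysPos.R.k → Fin sysPos.R.p) → G := fun e => prodT (fun i => x (sysPos.root i))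
      ((List.finRange sysPos.R.k).flatMap fun i => List.replicate (e i : ℕ) (i : ℕ))
  have hroot : (fun i => x (sysPos.root i)) '' Set.Iio sysPos.R.k = x '' {i | i ∈ posGens} := by
    obtain ⟨h1, h2, h3⟩ := sysPos_perm
    simp only [List.all_eq_true, List.any_eq_true] at h1 h2
    have hlen : sysPos.o.length = 36 := Nat.eq_of_beq_eq_true h3
    ext y
    constructor
    · rintro ⟨i, hi, rfl⟩
      have hi' : i < sysPos.o.length := by rw [hlen]; exact hi
      obtain ⟨b, hb, e⟩ := h1 _ (List.getElem_mem hi')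
      refine ⟨_, hb, ?_⟩
      show x b = x (sysPos.root i)
      rw [← Nat.eq_of_beq_eq_true e, Sys.root, List.getD_eq_getElem _ _ hi']
    · rintro ⟨b, hb, rfl⟩
      obtain ⟨a, ha, e⟩ := h2 _ hb
      obtain ⟨i, hi, rfl⟩ := List.getElem_of_mem ha
      refine ⟨i, by rw [hlen] at hi; exact hi, ?_⟩
      show x (sysPos.root i) = x b
      rw [Nat.eq_of_beq_eq_true e, Sys.root, List.getD_eq_getElem _ _ hi]
  have hsupp : ∀ i j, j ≤ i → i < sysPos.R.k → ∀ a ∈ sysPos.R.rhs i j, j < a ∧ a < sysPos.R.k := by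
    intro i j hj hi a ha
    have h := sysPos_supp
    simp only [List.all_eq_true, List.mem_range, Bool.and_eq_true, Nat.blt_eq] at h
    exact h i hi j (by omega) a ha
  let U := Subgroup.closure (x '' {i | i ∈ posGens})
  have hmem : ∀ e, N e ∈ U := fun e => Subgroup.list_prod_mem _ fun y hy => by
    obtain ⟨i, hi, rfl⟩ := List.mem_map.1 hy
    obtain ⟨j, -, hj⟩ := List.mem_flatMap.1 hi
    rw [List.eq_of_mem_replicate hj]
    refine Subgroup.subset_closure ?_
    rw [← hroot]
    exact ⟨j, j.isLt, rfl⟩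
  have hsurj : Function.Surjective fun e => (⟨N e, hmem e⟩ : U) := by
    rintro ⟨u, hu⟩
    have hu' : u ∈ Subgroup.closure (x '' {i | i ∈ posGens}) := hu
    rw [← hroot] at hu'
    obtain ⟨e, v, hv, rfl⟩ := exists_normal hl hsupp hu'
    refine ⟨e, Subtype.ext ?_⟩
    have hv1 : v = 1 := by
      have : Subgroup.closure (Set.range fun n => ζ x (sysPos.var n)) ≤ (⊥ : Subgroup G) := by
        rw [Subgroup.closure_le]
        rintro _ ⟨n, rfl⟩
        exact hz _ (var_lt hgx n)
      exact this hv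
    simp [N, hv1]
  have hbij := hsurj.bijective_of_nat_card_le (le_of_eq (by
    rw [hcard, Nat.card_fun, Nat.card_fin, Nat.card_fin]; rfl))
  have h0 : N (fun _ => 0) = 1 := by
    have e0 : ((List.finRange sysPos.R.k).flatMap fun i : Fin sysPos.R.k => List.replicate 0 (i : ℕ)) = [] := by
      simp [List.flatMap_eq_nil_iff]
    show prodT _ _ = 1
    simp only [Fin.val_zero, e0]
    rfl
  have := hbij.injective (a₁ := e) (a₂ := fun _ => 0) (Subtype.ext (he.trans h0.symm))
  simp [this, List.flatMap_eq_nil_iff]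

/-- The bound on the `2`-part. -/
theorem two_part_le {Γ : Type*} [Group Γ] [Finite Γ]
    (hrel : ∀ g < numRel, prodT x (relAt g).1 = prodT x (relAt g).2)
    (hcard : Nat.card ↥(Subgroup.closure (x '' {i | i ∈ posGens})) = 2 ^ 36)
    (hodd : Odd (Subgroup.closure (x '' {i | i ∈ posGens})).index)
    (σ : Γ →* G) (hσ : Cfsg.IsStemExtension σ) {m : ℕ} (hm : 2 ^ m ∣ Nat.card σ.ker) : m ≤ 2 := by
  classical
  haveI : Fact (Nat.Prime 2) := ⟨Nat.prime_two⟩
  let U := Subgroup.closure (x '' {i | i ∈ posGens})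
  let y := fun r => Function.surjInv hσ.1 (x r)
  have hy : ∀ r, σ (y r) = x r := fun r => Function.surjInv_eq hσ.1 _
  let gA := fun t => (relAt (getP 16 ordTab t)).1.getD 0 0
  let gB := fun t => (relAt (getP 16 ordTab t)).1.getD 1 0
  let X : ℕ → Γ := fun t => if t < 72 then (y (gB t) * y (gA t))⁻¹ * (y (gA t) * y (gB t)) else 1
  have hX : ∀ t < 72, σ (X t) = x t := fun t ht => by
    obtain ⟨hg, a, b, e⟩ := unit_rel ht
    have := hrel _ hg
    rw [e] at this
    simp only [prodT, List.map_cons, List.map_nil, List.prod_cons, List.prod_nil, mul_one] at this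
    simp only [X, if_pos ht, gA, gB, e, map_mul, map_inv, hy, List.getD_cons_zero, List.getD_cons_succ]
    rw [this]
    group
  have hσζ : ∀ g < numRel, σ (ζ X g) = 1 := fun g hg => by
    obtain ⟨h1, h2⟩ := relAt_lt (g := g)
    rw [map_zeta, ζ, prodT_congr (X' := x) fun a ha => hX a (h1 a ha),
      prodT_congr (X' := x) fun a ha => hX a (h2 a ha), hrel g hg, inv_mul_cancel]
  have hc : ∀ g < numRel, ζ X g ∈ Subgroup.center Γ := fun g hg => hσ.2.1 (hσζ g hg)
  have hunit : ∀ t < 72, ζ X (getP 16 ordTab t) = 1 := fun t ht => by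
    obtain ⟨hg, a, b, e⟩ := unit_rel ht
    obtain ⟨h1, h2⟩ := relAt_lt (g := getP 16 ordTab t)
    rw [e] at h1 h2
    have ha : a < 72 := h1 a (by simp)
    have hb : b < 72 := h1 b (by simp)
    obtain ⟨c, hc, ec⟩ : ∃ c ∈ Subgroup.center Γ, X a = y a * c :=
      ⟨(y a)⁻¹ * X a, hσ.2.1 (by simp [MonoidHom.mem_ker, hy, hX a ha]), by group⟩
    obtain ⟨d, hd, ed⟩ : ∃ d ∈ Subgroup.center Γ, X b = y b * d :=
      ⟨(y b)⁻¹ * X b, hσ.2.1 (by simp [MonoidHom.mem_ker, hy, hX b hb]), by group⟩
    have key : (X b * X a)⁻¹ * (X a * X b) = X t := by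
      rw [ec, ed, FFourTwo.comm_central _ _ hd hc]
      simp [X, if_pos ht, gA, gB, e]
    rw [ζ, e]
    simp only [prodT, List.map_cons, List.map_nil, List.prod_cons, List.prod_nil, mul_one]
    rw [← key]
    group
  obtain ⟨a, hac, b, -, ha2, hb2, -, -, hval⟩ := exists_deviations hc hunit
  have hab : Commute b a := Subgroup.mem_center_iff.1 hac b
  -- the preimage of the positive subgroup
  let V := U.comap σ
  let W := Subgroup.closure (X '' {i | i ∈ posGens})
  have hpos : ∀ i ∈ posGens, i < 72 := by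
    have h : (posGens.all fun i => Nat.blt i 72) = true := by decide +kernel
    simpa [List.all_eq_true, Nat.blt_eq] using h
  have hWV : ∀ v ∈ V, ∃ w ∈ W, w⁻¹ * v ∈ σ.ker := by
    have hmap : W.map σ = U := by
      rw [MonoidHom.map_closure, ← Set.image_comp]
      exact congrArg Subgroup.closure (Set.image_congr fun i hi => hX i (hpos i hi))
    intro v hv
    obtain ⟨w, hw, e⟩ := (hmap.ge hv : σ v ∈ W.map σ)
    exact ⟨w, hw, by simp [MonoidHom.mem_ker, e]⟩
  have hVW : ⁅V, V⁆ ≤ W := by
    rw [Subgroup.commutator_le]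
    intro u hu v hv
    obtain ⟨u', hu', eu⟩ := hWV u hu
    obtain ⟨v', hv', ev⟩ := hWV v hv
    rw [Cfsg.Agent.Lib.Schur.ChevBr.comm_eq (π := σ) hσ.2.1
      (show σ u = σ u' from (inv_mul_eq_one.1 (by simpa [MonoidHom.mem_ker] using eu)).symm)
      (show σ v = σ v' from (inv_mul_eq_one.1 (by simpa [MonoidHom.mem_ker] using ev)).symm)]
    exact Subgroup.mul_mem _ (Subgroup.mul_mem _ (Subgroup.mul_mem _ hu' hv') (Subgroup.inv_mem _ hu'))
      (Subgroup.inv_mem _ hv')
  have hidx : ¬ 2 ∣ V.index := by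
    rw [Subgroup.index_comap_of_surjective _ hσ.1]
    exact fun h => (Nat.not_even_iff_odd.2 hodd) (even_iff_two_dvd.2 h)
  obtain ⟨Q⟩ : Nonempty (Sylow 2 V) := inferInstance
  let P : Sylow 2 Γ := (Q.isPGroup'.map V.subtype).toSylow (by
    rw [Subgroup.index_map_subtype]
    exact fun h => ((Nat.Prime.dvd_mul Nat.prime_two).1 h).elim Q.not_dvd_index hidx)
  obtain ⟨hl, hgx⟩ := isLift_of_sysCheck hc sysPos_ok
  let S : Finset Γ := {1, a, b, a * b}
  have hS : ∀ g < numRel, ζ X g ∈ ({1, a, b, a * b} : Set Γ) := fun g hg => by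
    rw [hval g hg]
    rcases pow_parity ha2 (valA pvTab g) with h1 | h1 <;> rcases pow_parity hb2 (valB pvTab g) with h2 | h2 <;>
      simp [h1, h2]
  obtain ⟨H, hH⟩ := Sylow.exists_subgroup_card_pow_prime 2 hm
  have hHS : ∀ z : H, ((z : σ.ker) : Γ) ∈ S := by
    intro z
    set z' : Γ := ((z : σ.ker) : Γ) with hz'
    have hzc := hσ.2.1 (z : σ.ker).2
    have hpg : IsPGroup 2 (Subgroup.zpowers z') := by
      have h1 : orderOf z' ∣ 2 ^ m := by
        rw [hz', Subgroup.orderOf_coe, Subgroup.orderOf_coe, ← hH]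
        exact orderOf_dvd_natCard z
      obtain ⟨j, -, hj⟩ := (Nat.dvd_prime_pow Nat.prime_two).1 h1
      exact IsPGroup.of_card (n := j) (by rw [Nat.card_zpowers, hj])
    have hzP := Cfsg.Agent.Lib.Schur.mem_sylow_of_central P hpg hzc
    have hd := Cfsg.Agent.Lib.Schur.mem_commutator_sylow_of_central P z' hzP hzc (hσ.2.2 (z : σ.ker).2)
    have hzW : z' ∈ W := by
      refine hVW ?_
      have hle : (P : Subgroup Γ) ≤ V := by
        show Subgroup.map V.subtype Q ≤ V
        exact Subgroup.map_subtype_le _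
      have h' := Subgroup.mem_map_of_mem (P : Subgroup Γ).subtype hd
      rw [commutator_def, Subgroup.map_commutator, ← MonoidHom.range_eq_map, Subgroup.range_subtype] at h'
      exact Subgroup.commutator_mono hle hle h'
    have hroot : W ≤ Subgroup.closure ((fun i => X (sysPos.root i)) '' Set.Iio sysPos.R.k) := by
      refine Subgroup.closure_mono ?_
      rintro _ ⟨i, hi, rfl⟩
      have h := sysPos_perm.2.1
      simp only [List.all_eq_true, List.any_eq_true] at h
      obtain ⟨c, hc', e⟩ := h i hi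
      obtain ⟨j, hj, rfl⟩ := List.getElem_of_mem hc'
      refine ⟨j, by rw [Nat.eq_of_beq_eq_true sysPos_perm.2.2] at hj; exact hj, ?_⟩
      show X (sysPos.root j) = X i
      rw [Nat.eq_of_beq_eq_true e, Sys.root, List.getD_eq_getElem _ _ hj]
    have hsupp : ∀ i j, j ≤ i → i < sysPos.R.k → ∀ a ∈ sysPos.R.rhs i j, j < a ∧ a < sysPos.R.k := by
      intro i j hj hi a ha
      have h := sysPos_supp
      simp only [List.all_eq_true, List.mem_range, Bool.and_eq_true, Nat.blt_eq] at h
      exact h i hi j (by omega) a ha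
    obtain ⟨e, v, hv, hev⟩ := exists_normal hl hsupp (hroot hzW)
    have hv1 : σ v = 1 ∧ v ∈ Subgroup.center Γ ∧ ∃ i j : ℤ, v = a ^ i * b ^ j := by
      clear hev
      induction hv using Subgroup.closure_induction with
      | mem v hv =>
        obtain ⟨n, rfl⟩ := hv
        exact ⟨hσζ _ (var_lt hgx n), hc _ (var_lt hgx n), _, _, hval _ (var_lt hgx n)⟩
      | one => exact ⟨map_one _, Subgroup.one_mem _, 0, 0, by simp⟩
      | mul u v _ _ hu hv =>
        obtain ⟨h1, h2, i, j, rfl⟩ := hu
        obtain ⟨h1', h2', i', j', rfl⟩ := hv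
        refine ⟨by rw [map_mul, h1, h1', one_mul], Subgroup.mul_mem _ h2 h2', i + i', j + j', ?_⟩
        rw [mul_assoc, ← mul_assoc (b ^ j) (a ^ i')]
        have hcb : Commute (b ^ j) (a ^ i') := (Commute.zpow_zpow ?_ j i')
        · rw [hcb.eq, zpow_add, zpow_add]
          simp [mul_assoc]
        · exact hab
      | inv u _ hu =>
        obtain ⟨h1, h2, i, j, rfl⟩ := hu
        refine ⟨by rw [map_inv, h1, inv_one], Subgroup.inv_mem _ h2, -i, -j, ?_⟩
        rw [mul_inv_rev, ← zpow_neg, ← zpow_neg]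
        exact (Commute.zpow_zpow hab (-j) (-i)).eq
    obtain ⟨hv1, -, i, j, rfl⟩ := hv1
    have he := congrArg σ hev
    rw [map_mul, hv1, mul_one, map_prodT, MonoidHom.mem_ker.1 (z : σ.ker).2] at he
    have hroot' : ∀ i, σ (X (sysPos.root i)) = x (sysPos.root i) := fun i => by
      refine hX _ ?_
      have h : (List.range 37).all (fun i => Nat.blt (sysPos.root i) 72) = true := by decide +kernel
      simp only [List.all_eq_true, List.mem_range, Nat.blt_eq] at h
      by_cases hi : i < 37
      · exact h i hi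
      · rw [Sys.root, List.getD_eq_default _ _ (by rw [Nat.eq_of_beq_eq_true sysPos_perm.2.2]; omega)]
        norm_num
    rw [normal_inj hrel hcard (e := e) ((prodT_congr fun i _ => (hroot' i).symm).trans he.symm)] at hev
    simp only [prodT, List.map_nil, List.prod_nil, one_mul] at hev
    rw [hev]
    rcases pow_parity ha2 i with h1 | h1 <;> rcases pow_parity hb2 j with h2 | h2 <;> simp [S, h1, h2]
  have hle : Nat.card H ≤ 4 := by
    refine (Nat.card_le_card_of_injective (fun z : H => (⟨_, hHS z⟩ : S)) fun z z' h => ?_).trans ?_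
    · exact Subtype.ext (Subtype.ext (congrArg (fun s : S => (s : Γ)) h))
    · rw [Nat.card_eq_fintype_card, Fintype.card_coe]
      exact Finset.card_le_four
  rw [hH, show (4 : ℕ) = 2 ^ 2 from rfl] at hle
  exact (Nat.pow_le_pow_iff_right (by norm_num)).1 hle

end Cfsg.Agent.Lib.Compute.E6Two
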