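import Cfsg.Agent.Lib.Compute.E6Two.LowerCheck
import Cfsg.Agent.Lib.Compute.E6Two.Upper
import Cfsg.Agent.Lib.Compute.E6Two.Tower
import Cfsg.Agent.Lib.Schur.StableClass

/-! A central extension of `²E₆(2)` by a four-group inside the commutator subgroup. -/

set_option autoImplicit false
set_option maxRecDepth 100000
set_option maxHeartbeats 1000000

namespace Cfsg.Agent.Lib.Compute.E6Two

open Cfsg.Agent.Lib.Compute.Schur
open scoped commutatorElement Pointwise

/-- The four-group. -/
abbrev Kl : Type := Multiplicative (ZMod 2 × ZMod 2)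

/-- The element of a code. -/
def toKl (n : ℕ) : Kl := Multiplicative.ofAdd (((n % 2 : ℕ) : ZMod 2), ((n / 2 % 2 : ℕ) : ZMod 2))

theorem toKl_xor (m n : ℕ) : toKl (Nat.xor m n) = toKl m * toKl n := by
  have e : ∀ j : ℕ, ∀ x : ℕ, ((x / 2 ^ j % 2 : ℕ) : ZMod 2) = if x.testBit j then 1 else 0 := by
    intro j x
    rw [Nat.testBit_eq_decide_div_mod_eq]
    rcases Nat.mod_two_eq_zero_or_one (x / 2 ^ j) with h | h <;> simp [h]
  have e0 := e 0
  have e1 := e 1
  simp only [pow_zero, Nat.div_one, pow_one] at e0 e1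
  show Multiplicative.ofAdd _ = _
  rw [toKl, toKl, ← ofAdd_add, Prod.mk_add_mk, e1, e1, e1, e0, e0, e0]
  change Multiplicative.ofAdd ((if (m ^^^ n).testBit 0 then (1 : ZMod 2) else 0),
    (if (m ^^^ n).testBit 1 then (1 : ZMod 2) else 0)) = _
  rw [Nat.testBit_xor, Nat.testBit_xor]
  cases m.testBit 0 <;> cases n.testBit 0 <;> cases m.testBit 1 <;> cases n.testBit 1 <;> decide

theorem toKl_zero : toKl 0 = 1 := by decide

theorem Kl_sq (a : Kl) : a ^ 2 = 1 := by revert a; decide

theorem prodT_toKl {P : Type*} [Group P] (ι : Kl →* P) (f : ℕ → ℕ) : ∀ u : List ℕ,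
    prodT (fun n => ι (toKl (f n))) u = ι (toKl (parV f u))
  | [] => by simp [prodT, parV, toKl_zero]
  | n :: u => by rw [prodT_cons, prodT_toKl ι f u, parV, toKl_xor, map_mul]

theorem prodT_fst {A B : Type*} [Group A] [Group B] (f : ℕ → A × B) (u : List ℕ) :
    (prodT f u).1 = prodT (fun a => (f a).1) u := map_prodT (MonoidHom.fst A B) f u

theorem prodT_snd {A B : Type*} [Group A] [Group B] (f : ℕ → A × B) (u : List ℕ) :
    (prodT f u).2 = prodT (fun a => (f a).2) u := map_prodT (MonoidHom.snd A B) f u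

/-- Values in the four-group. -/
noncomputable def klVal (n : ℕ) : Kl := toKl (posVal n)

theorem stabOK_tab : ∀ k < 6, lowStabOK (stabTab.getD k ⟨[], [], [], []⟩) = true := by
  intro k hk
  interval_cases k
  exacts [stab0_ok, stab1_ok, stab2_ok, stab3_ok, stab4_ok, stab5_ok]

/-- Increasing positions form a normal word. -/
theorem eq_nil_of_prod {G : Type*} [Group G] [Finite G] {x : ℕ → G}
    (hrel : ∀ g < numRel, prodT x (relAt g).1 = prodT x (relAt g).2)
    (hcard : Nat.card ↥(Subgroup.closure (x '' {i | i ∈ posGens})) = 2 ^ 36)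
    {w : List ℕ} (hw : w.Pairwise (· < ·)) (hlt : ∀ a ∈ w, a < 36)
    (he : prodT (fun i => x (sysPos.root i)) w = 1) : w = [] := by
  classical
  let e : Fin sysPos.R.k → Fin sysPos.R.p := fun i => if (i : ℕ) ∈ w then ⟨1, by decide⟩ else ⟨0, by decide⟩
  have key : ((List.finRange sysPos.R.k).flatMap fun i => List.replicate (e i : ℕ) (i : ℕ)) = w := by
    have h1 : ∀ l : List (Fin sysPos.R.k), (l.flatMap fun i => List.replicate (e i : ℕ) (i : ℕ)) =
        (l.map Fin.val).filter (fun a => decide (a ∈ w)) := by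
      intro l
      induction l with
      | nil => rfl
      | cons i l ih =>
        rw [List.flatMap_cons, ih, List.map_cons, List.filter_cons]
        by_cases hi : (i : ℕ) ∈ w <;> simp [e, hi]
    rw [h1, List.map_coe_finRange_eq_range]
    refine List.Perm.eq_of_pairwise' ?_ ?_ ?_ (r := fun a b => a < b)
    · exact List.pairwise_lt_range.filter _
    · exact hw
    · refine (List.perm_ext_iff_of_nodup (List.nodup_range.filter _)
        (hw.imp (fun {a b} h => Nat.ne_of_lt h))).2 fun a => ?_
      simp only [List.mem_filter, List.mem_range, decide_eq_true_eq]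
      exact ⟨fun h => h.2, fun h => ⟨hlt a h, h⟩⟩
  have := normal_inj hrel hcard (e := e) (by rw [key]; exact he)
  rwa [key] at this

universe u

/-- The central extension. -/
theorem exists_four_cover {G : Type u} [Group G] [Finite G] {x : ℕ → G}
    (hrel : ∀ g < numRel, prodT x (relAt g).1 = prodT x (relAt g).2)
    (hcard : Nat.card ↥(Subgroup.closure (x '' {i | i ∈ posGens})) = 2 ^ 36)
    (hodd : Odd (Subgroup.closure (x '' {i | i ∈ posGens})).index)
    (hstay : ∀ k < 6, Subgroup.closure (x '' {i | i ∈ posGens}) ⊓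
        (MulAut.conj (prodT x (repTab.getD k [])) • Subgroup.closure (x '' {i | i ∈ posGens})) ≤
      Subgroup.closure (x '' {i | i ∈ stayTab.getD k []}))
    (hconj : ∀ k < 6, ∀ p ∈ conjTabs.getD k [],
      x p.1 * prodT x (repTab.getD k []) = prodT x (repTab.getD k []) * prodT x p.2)
    (hind : ∀ P : G → Prop, P 1 → (∀ k < 6, ∀ m,
        Subgroup.closure (x '' {i | i ∈ posGens}) ⊓
          (MulAut.conj (prodT x (repTab.getD k []) * m) • Subgroup.closure (x '' {i | i ∈ posGens})) ≤
          MulAut.conj (prodT x (repTab.getD k [])) • Subgroup.closure (x '' {i | i ∈ posGens}) →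
        P m → P (prodT x (repTab.getD k []) * m)) →
      ∀ g, ∃ u ∈ Subgroup.closure (x '' {i | i ∈ posGens}), ∃ v ∈ Subgroup.closure (x '' {i | i ∈ posGens}),
        ∃ m, P m ∧ g = u * m * v)
    (hcons : Tower.consOK sysPos.R klVal = true) :
    ∃ (E : Type u) (_ : Group E) (_ : Finite E) (π : E →* G) (j : Kl →* E),
      Function.Surjective π ∧ Function.Injective j ∧ j.range = π.ker ∧ π.ker ≤ Subgroup.center E ∧
        ∀ a, j a ∈ commutator E := by
  classical
  obtain ⟨P, _, _, ι, t, hι, hcen, hlift, hgen, hcardP, huniv⟩ := Tower.exists_deformed.{u} sysPos.R klVal hcons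
  have hk : sysPos.R.k = 36 := rfl
  set U := Subgroup.closure (x '' {i | i ∈ posGens}) with hU
  have hroot : ∀ i < 36, x (sysPos.root i) ∈ U := fun i hi => by
    obtain ⟨h1, -, h3⟩ := sysPos_perm
    have hi' : i < sysPos.o.length := by rw [Nat.eq_of_beq_eq_true h3]; exact hi
    simp only [List.all_eq_true, List.any_eq_true] at h1
    obtain ⟨b, hb, e⟩ := h1 _ (List.getElem_mem hi')
    refine Subgroup.subset_closure ⟨b, hb, ?_⟩
    rw [← Nat.eq_of_beq_eq_true e, Sys.root, List.getD_eq_getElem _ _ hi']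
  obtain ⟨hlx, hgx⟩ := isLift_of_sysCheck (X := x)
    (fun g hg => by rw [ζ, hrel g hg, inv_mul_cancel]; exact Subgroup.one_mem _) sysPos_ok
  have hz1 : ∀ n, ζ x (sysPos.var n) = 1 := fun n => by
    rw [ζ, hrel _ (var_lt hgx n), inv_mul_cancel]
  obtain ⟨p₀, hp0, hp0ι⟩ := huniv (fun i => x (sysPos.root i)) (1 : Kl →* G) (by rintro _ ⟨a, rfl⟩; simp)
    (by
      have h := hlx
      rw [show (fun n => ζ x (sysPos.var n)) = fun n => (1 : Kl →* G) (klVal n) from
        funext fun n => by rw [hz1 n]; rfl] at h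
      exact h)
  rw [hk] at hgen hp0
  have hp0mem : ∀ z, p₀ z ∈ U := fun z => by
    have hle : (⊤ : Subgroup P) ≤ U.comap p₀ := by
      rw [← hgen, Subgroup.closure_le]
      rintro _ (⟨i, hi, rfl⟩ | ⟨a, rfl⟩)
      · show p₀ (t i) ∈ U
        rw [hp0 i hi]; exact hroot i hi
      · show p₀ (ι a) ∈ U
        rw [hp0ι a]; exact Subgroup.one_mem _
    exact hle (Subgroup.mem_top z)
  let p : P →* U := p₀.codRestrict U hp0mem
  have hp : Function.Surjective p := by
    rintro ⟨v, hv⟩
    have hle : U ≤ p₀.range := by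
      rw [hU, Subgroup.closure_le]
      rintro _ ⟨i, hi, rfl⟩
      have h := sysPos_perm.2.1
      simp only [List.all_eq_true, List.any_eq_true] at h
      obtain ⟨c, hc, e⟩ := h i hi
      obtain ⟨n, hn, rfl⟩ := List.getElem_of_mem hc
      have hn' : n < 36 := by rw [Nat.eq_of_beq_eq_true sysPos_perm.2.2] at hn; exact hn
      refine ⟨t n, ?_⟩
      rw [hp0 n hn', Sys.root, List.getD_eq_getElem _ _ hn, Nat.eq_of_beq_eq_true e]
    obtain ⟨z, hz⟩ := hle hv
    exact ⟨z, Subtype.ext hz⟩
  have hker : ι.range = p.ker := by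
    refine Subgroup.eq_of_le_of_card_ge ?_ ?_
    · rintro _ ⟨a, rfl⟩; exact MonoidHom.mem_ker.2 (Subtype.ext (hp0ι a))
    · have h1 := Subgroup.card_mul_index p.ker
      rw [Subgroup.index_ker, MonoidHom.range_eq_top.2 hp, Subgroup.card_top, hcard, hcardP, hk] at h1
      rw [Nat.card_congr (MonoidHom.ofInjective hι).toEquiv.symm]
      exact le_of_eq (Nat.eq_of_mul_eq_mul_right (by positivity) h1)
  have hcentral : p.ker ≤ Subgroup.center P := hker ▸ hcen
  -- lifts of conjugation by the elements of a set closed under the moves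
  let Dom : G → Subgroup P := fun g => Subgroup.comap (U.subtype.comp p) (MulAut.conj g • U)
  let Stab : G → Prop := fun g => ∃ φ : ↥(Dom g) →* P,
    (∀ z : ↥(Dom g), ((p (φ z) : U) : G) = g⁻¹ * (p z : G) * g) ∧
      ∀ a (ha : ι a ∈ Dom g), φ ⟨ι a, ha⟩ = ι a
  have mem_dom : ∀ {g : G} {z : P}, z ∈ Dom g ↔ g⁻¹ * (p z : G) * g ∈ U := fun {g z} => by
    rw [Subgroup.mem_comap, Subgroup.mem_pointwise_smul_iff_inv_smul_mem]
    simp [MulAut.smul_def]
  have hrep : ∀ k < 6, Stab (prodT x (repTab.getD k [])) := by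
    intro k hk6
    have hok := stabOK_tab k hk6
    set a := prodT x (repTab.getD k []) with ha
    set D := stabTab.getD k ⟨[], [], [], []⟩ with hD
    have htab := List.all_eq_true.1 tab_ok k (List.mem_range.2 hk6)
    simp only [stayTabOK, ← hD, Bool.and_eq_true, List.all_eq_true, List.mem_range, List.any_eq_true] at htab
    obtain ⟨⟨htab1, htab2⟩, -⟩ := htab
    simp only [lowStabOK, Bool.and_eq_true, List.all_eq_true, List.mem_range, Nat.blt_eq] at hok
    obtain ⟨⟨⟨⟨⟨himl, hdevl⟩, -⟩, himg⟩, hq⟩, hrules⟩ := hok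
    have himl := Nat.eq_of_beq_eq_true himl
    let qf : ℕ → ℕ := fun i => D.q.getD i 0
    let yv : ℕ → P := fun i => prodT t (D.img.getD i []) * ι (toKl (D.dev.getD i 0))
    let n := D.q.length
    let R' : PcData := ⟨2, n, D.w⟩
    let X2 : ℕ → P × P := fun i => (t (qf i), yv i)
    let Z2 : ℕ → P × P := fun m => match (rulePairs n)[m]? with
      | none => 1
      | some (i, j) => (ι (klVal (tix (qf i) (qf j))), ι (klVal (tix (qf i) (qf j))))
    have hy : ∀ u : List ℕ, prodT yv u = prodT t (imgW D u) * ι (toKl (devW D u)) := by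
      intro u
      induction u with
      | nil => simp [prodT, imgW, devW, parV, toKl_zero]
      | cons b u ih =>
        have hc := Subgroup.mem_center_iff.1 (hcen ⟨toKl (D.dev.getD b 0), rfl⟩) (prodT t (imgW D u))
        rw [prodT_cons, ih, show imgW D (b :: u) = D.img.getD b [] ++ imgW D u by simp [imgW], prodT_append,
          show devW D (b :: u) = Nat.xor (D.dev.getD b 0) (devW D u) from rfl, toKl_xor, map_mul]
        simp only [yv, mul_assoc]
        rw [← mul_assoc (ι _) (prodT t _), ← hc, mul_assoc]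
    have hpairs : ∀ i j, j ≤ i → i < n → (rulePairs n)[tix i j]? = some (i, j) := by
      have h : ((List.range 37).all fun m => (List.range m).all fun i => (List.range (i + 1)).all fun j =>
          match (rulePairs m)[tix i j]? with
          | none => false
          | some q => Nat.beq q.1 i && Nat.beq q.2 j) = true := by decide +kernel
      intro i j hj hi
      have hn : n < 37 := by
        interval_cases k <;> simp [n, hD, stabTab, stab0, stab1, stab2, stab3, stab4, stab5]
      simp only [List.all_eq_true, List.mem_range] at h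
      have h := h n hn i hi j (by omega)
      split at h
      · simp at h
      · rename_i q hq'
        simp only [Bool.and_eq_true] at h
        rw [hq', ← Nat.eq_of_beq_eq_true h.1, ← Nat.eq_of_beq_eq_true h.2]
    have hZc : ∀ m, Z2 m ∈ Subgroup.center (P × P) := fun m => by
      simp only [Z2]
      split
      · exact Subgroup.one_mem _
      · exact Subgroup.mem_center_iff.2 fun z => Prod.ext (Subgroup.mem_center_iff.1 (hcen ⟨_, rfl⟩) z.1)
          (Subgroup.mem_center_iff.1 (hcen ⟨_, rfl⟩) z.2)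
    have hrule : ∀ i j, j ≤ i → i < n →
        let w := (D.w.getD i []).getD j []
        (∀ a ∈ w, j < a ∧ a < n) ∧
        w.map qf = sysPos.R.rhs (qf i) (qf j) ∧
        ∀ lhs rhs, lhs = (if i = j then [i, i] else [i, j]) → rhs = (if i = j then w else j :: w) →
          prodT yv lhs = prodT yv rhs * ι (klVal (tix (qf i) (qf j))) := by
      intro i j hj hi
      have h := hrules i hi j (by omega)
      simp only [ruleOK, forceNat_eq, Bool.and_eq_true, List.all_eq_true, Nat.blt_eq] at h
      obtain ⟨⟨h1, h2⟩, h3⟩ := h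
      refine ⟨h2, natListEq_eq h1, fun lhs rhs el er => ?_⟩
      subst el er
      revert h3
      generalize (if i = j then [i, i] else [i, j]) = lhs
      generalize (if i = j then (D.w.getD i []).getD j [] else j :: (D.w.getD i []).getD j []) = rhs
      intro h3
      have s1 := ev_sound hlift (imgW D lhs) []
      have s2 := ev_sound hlift (imgW D rhs) []
      cases e1 : ev sysPos.R (imgW D lhs) [] with | mk n1 t1 =>
      cases e2 : ev sysPos.R (imgW D rhs) [] with | mk n2 t2 =>
      simp only [e1, e2, Bool.and_eq_true] at h3 s1 s2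
      obtain ⟨hn12, hv⟩ := h3
      obtain rfl := natListEq_eq hn12
      rw [show prodT t ([] : List ℕ) = 1 from rfl, mul_one, show (fun n => ι (klVal n)) =
        fun n => ι (toKl (posVal n)) from rfl, prodT_toKl] at s1 s2
      rw [hy, hy, s1, s2]
      simp only [mul_assoc, ← map_mul, klVal, ← toKl_xor]
      rw [Nat.eq_of_beq_eq_true hv]
    have hq2 : ∀ i < n, qf i < 36 := fun i hi => (hq i hi).1
    have hqlt : ∀ i, i + 1 < n → qf i < qf (i + 1) := fun i hi => by
      have := (hq i (by omega)).2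
      rw [show Nat.blt (i + 1) D.q.length = true from Nat.blt_eq.mpr hi, cond_true] at this
      simpa [qf, Nat.blt_eq] using this
    have hqmono : ∀ i j, i < j → j < n → qf i < qf j := by
      intro i j hij hj
      induction j with
      | zero => omega
      | succ j ih =>
        rcases Nat.lt_succ_iff_lt_or_eq.1 hij with h | h
        · exact (ih h (by omega)).trans (hqlt j hj)
        · subst h; exact hqlt i hj
    have hR' : ∀ i j, R'.rhs i j = (D.w.getD i []).getD j [] := fun _ _ => rfl
    have hl2 : IsLift R' X2 Z2 := by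
      refine ⟨hZc, fun i hi => ?_, fun i j hj hi => ?_, by norm_num [R']⟩
      · obtain ⟨-, h2, h3⟩ := hrule i i le_rfl hi
        have h1 := hlift.pow (qf i) (by rw [hk]; exact hq2 i hi)
        have h3 := h3 [i, i] _ (by simp) rfl
        rw [if_pos rfl] at h3
        simp only [Z2, hpairs i i le_rfl hi]
        refine Prod.ext ?_ ?_
        · rw [Prod.pow_fst, Prod.fst_mul, prodT_fst]
          show t (qf i) ^ 2 = prodT (fun a => t (qf a)) _ * _
          rw [hR', ← prodT_map, h2]
          exact h1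
        · rw [Prod.pow_snd, Prod.snd_mul, prodT_snd]
          show yv i ^ 2 = prodT yv _ * _
          rw [hR', ← h3, pow_two]
          simp [prodT]
      · obtain ⟨-, h2, h3⟩ := hrule i j hj.le hi
        have hij : i ≠ j := by omega
        have h1 := hlift.comm (qf i) (qf j) (hqmono j i hj hi) (by rw [hk]; exact hq2 i hi)
        have h3 := h3 [i, j] _ (by simp [hij]) rfl
        rw [if_neg hij] at h3
        simp only [Z2, hpairs i j hj.le hi]
        refine Prod.ext ?_ ?_
        · simp only [Prod.fst_mul, prodT_fst]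
          show t (qf i) * t (qf j) = t (qf j) * prodT (fun a => t (qf a)) _ * _
          rw [hR', ← prodT_map, h2]
          exact h1
        · simp only [Prod.snd_mul, prodT_snd]
          show yv i * yv j = yv j * prodT yv _ * _
          rw [hR', ← prodT_cons, ← h3]
          simp [prodT]
    let M : Subgroup (P × P) := Subgroup.closure (X2 '' Set.Iio n)
    let Dg : Subgroup (P × P) := (ι.prod ι).range
    let Γ := M ⊔ Dg
    have hDc : Dg ≤ Subgroup.center (P × P) := by
      rintro _ ⟨b, rfl⟩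
      exact Subgroup.mem_center_iff.2 fun z => Prod.ext (Subgroup.mem_center_iff.1 (hcen ⟨_, rfl⟩) z.1)
          (Subgroup.mem_center_iff.1 (hcen ⟨_, rfl⟩) z.2)
    have hsupp2 : ∀ i j, j ≤ i → i < R'.k → ∀ b ∈ R'.rhs i j, j < b ∧ b < R'.k :=
      fun i j hj hi => (hrule i j hj hi).1
    have hZD : ∀ m, Z2 m ∈ Dg := fun m => by
      simp only [Z2]
      split
      · exact Subgroup.one_mem _
      · exact ⟨_, rfl⟩
    have hfib : ∀ z ∈ Γ, z.1 = 1 → z.2 = 1 := by
      intro z hz hz1
      rw [Subgroup.mem_sup_of_normal_right (s := M) (t := Dg) (ht := ⟨fun d hd g => by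
        rw [Subgroup.mem_center_iff.1 (hDc hd) g, mul_inv_cancel_right]; exact hd⟩)] at hz
      obtain ⟨m, hm, d, hd, rfl⟩ := hz
      obtain ⟨e, v, hv, rfl⟩ := exists_normal hl2 hsupp2 hm
      have hvD : v * d ∈ Dg := Subgroup.mul_mem _
        ((Subgroup.closure_le _).2 (by rintro _ ⟨m, rfl⟩; exact hZD m) hv) hd
      obtain ⟨b, hb⟩ := hvD
      rw [mul_assoc, ← hb] at hz1 ⊢
      rw [Prod.fst_mul, prodT_fst] at hz1
      change prodT (fun i => t (qf i)) _ * ι b = 1 at hz1
      generalize hw : ((List.finRange R'.k).flatMap fun i => List.replicate (e i : ℕ) (i : ℕ)) = w at hz1 ⊢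
      have hwlt : ∀ i ∈ w, i < n := by
        intro i hi
        rw [← hw] at hi
        obtain ⟨c, -, hc⟩ := List.mem_flatMap.1 hi
        rw [List.eq_of_mem_replicate hc]; exact c.isLt
      have hwp : w.Pairwise (· < ·) := by
        rw [← hw, List.pairwise_flatMap]
        refine ⟨fun c _ => ?_, (List.pairwise_lt_finRange R'.k).imp fun {c d} hcd => ?_⟩
        · rcases (show (e c : ℕ) = 0 ∨ (e c : ℕ) = 1 by
            have h2 := (e c).isLt; change (e c : ℕ) < 2 at h2; omega) with h | h <;> simp [h]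
        · intro u hu v hv
          rw [List.eq_of_mem_replicate hu, List.eq_of_mem_replicate hv]
          exact hcd
      have hp1 := congrArg p₀ hz1
      rw [map_mul, hp0ι, MonoidHom.one_apply, mul_one, map_one, map_prodT,
        show prodT (fun i => p₀ (t (qf i))) w = prodT (fun i => x (sysPos.root i)) (w.map qf) by
          rw [prodT_map]; exact prodT_congr fun i hi => hp0 _ (hq2 i (hwlt i hi))] at hp1
      have hmap := eq_nil_of_prod hrel hcard (w := w.map qf) (List.pairwise_map.2
        (hwp.imp_of_mem fun {u v} hu hv huv => hqmono u v huv (hwlt v hv)))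
        (fun b hb => by obtain ⟨i, hi, rfl⟩ := List.mem_map.1 hb; exact hq2 i (hwlt i hi)) hp1
      rw [List.map_eq_nil_iff.1 hmap] at hz1 ⊢
      simp only [prodT, List.map_nil, List.prod_nil, one_mul] at hz1 ⊢
      exact hz1
    let pr : Γ →* P := (MonoidHom.fst P P).comp Γ.subtype
    have hinj : Function.Injective pr := by
      rw [injective_iff_map_eq_one]
      intro z hz
      exact Subtype.ext (Prod.ext hz (hfib z.1 z.2 hz))
    have hrange : Dom a ≤ pr.range := by
      intro z hz
      have hzs : (p z : G) ∈ Subgroup.closure (x '' {i | i ∈ stayTab.getD k []}) := by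
        refine hstay k hk6 ⟨(p z).2, ?_⟩
        exact hz
      have hsub : Subgroup.closure (x '' {i | i ∈ stayTab.getD k []}) ≤
          pr.range.map (U.subtype.comp p) := by
        rw [Subgroup.closure_le]
        rintro _ ⟨i, hi, rfl⟩
        obtain ⟨b, hb, e⟩ := htab2 i hi
        obtain ⟨c, hc, rfl⟩ := List.getElem_of_mem hb
        refine ⟨t (qf c), ⟨⟨X2 c, Subgroup.mem_sup_left (Subgroup.subset_closure ⟨c, hc, rfl⟩)⟩, rfl⟩, ?_⟩
        show p₀ (t (qf c)) = x i
        rw [hp0 _ (hq2 c hc), show qf c = D.q[c] from List.getD_eq_getElem _ _ hc, Nat.eq_of_beq_eq_true e]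
      obtain ⟨w, ⟨γ, hγ⟩, hw⟩ := hsub hzs
      have hwz : w⁻¹ * z ∈ p.ker := by
        refine MonoidHom.mem_ker.2 (Subtype.ext ?_)
        show p₀ (w⁻¹ * z) = 1
        rw [map_mul, map_inv, show p₀ w = p₀ z from hw, inv_mul_cancel]
      rw [← hker] at hwz
      obtain ⟨b, hb⟩ := hwz
      refine ⟨γ * ⟨(ι b, ι b), Subgroup.mem_sup_right ⟨b, rfl⟩⟩, ?_⟩
      rw [map_mul, hγ]
      show w * ι b = z
      rw [hb, mul_inv_cancel_left]
    let e := MonoidHom.ofInjective hinj
    let φ : ↥(Dom a) →* P :=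
      ((MonoidHom.snd P P).comp Γ.subtype).comp (e.symm.toMonoidHom.comp (Subgroup.inclusion hrange))
    have hΓ : ∀ z ∈ Γ, ((p z.2 : U) : G) = a⁻¹ * (p z.1 : G) * a := by
      let L : P × P →* G := p₀.comp (MonoidHom.snd P P)
      let R : P × P →* G := (MulAut.conj a⁻¹).toMonoidHom.comp (p₀.comp (MonoidHom.fst P P))
      intro z hz
      have hle : Γ ≤ MonoidHom.eqLocus L R := by
        refine sup_le ((Subgroup.closure_le _).2 ?_) ?_
        · rintro _ ⟨i, hi, rfl⟩
          show p₀ (yv i) = a⁻¹ * p₀ (t (qf i)) * a⁻¹⁻¹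
          rw [inv_inv]
          have h := htab1 i hi
          split at h
          · simp at h
          · rename_i q hq'
            simp only [Bool.and_eq_true] at h
            have hc := hconj k hk6 q (List.mem_of_getElem? hq')
            rw [Nat.eq_of_beq_eq_true h.1, natListEq_eq h.2, prodT_map, ← ha] at hc
            have hlt : ∀ b ∈ D.img.getD i [], b < 36 := by
              intro b hb
              rw [List.getD_eq_getElem _ _ (himl.symm ▸ hi)] at hb
              exact himg _ (List.getElem_mem _) b hb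
            simp only [yv, map_mul, hp0ι, MonoidHom.one_apply, mul_one]
            rw [hp0 _ (hq2 i hi), mul_assoc, hc, inv_mul_cancel_left, map_prodT]
            exact prodT_congr fun b hb => hp0 b (hlt b hb)
        · rintro _ ⟨b, rfl⟩
          show p₀ (ι b) = a⁻¹ * p₀ (ι b) * a⁻¹⁻¹
          simp [hp0ι]
      have := hle hz
      change p₀ z.2 = a⁻¹ * p₀ z.1 * a⁻¹⁻¹ at this
      rwa [inv_inv] at this
    refine ⟨φ, fun z => ?_, fun b hb => ?_⟩
    · have h1 := hΓ (e.symm ⟨z.1, hrange z.2⟩).1 (e.symm ⟨z.1, hrange z.2⟩).2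
      rw [show (e.symm ⟨z.1, hrange z.2⟩).1.1 = z.1 from
        congrArg Subtype.val (e.apply_symm_apply ⟨z.1, hrange z.2⟩)] at h1
      exact h1
    · have h1 : e.symm ⟨ι b, hrange hb⟩ = ⟨(ι b, ι b), Subgroup.mem_sup_right ⟨b, rfl⟩⟩ :=
        e.injective (by rw [e.apply_symm_apply]; rfl)
      show (e.symm ⟨ι b, hrange hb⟩).1.2 = ι b
      rw [h1]
  have h1 : Stab 1 := ⟨(Dom 1).subtype, fun z => by simp, fun _ _ => rfl⟩
  have hstep : ∀ k < 6, ∀ m, U ⊓ (MulAut.conj (prodT x (repTab.getD k []) * m) • U) ≤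
      MulAut.conj (prodT x (repTab.getD k [])) • U → Stab m → Stab (prodT x (repTab.getD k []) * m) := by
    intro k hk m hle ⟨φ, hφ, hφι⟩
    obtain ⟨ψ, hψ, hψι⟩ := hrep k hk
    generalize prodT x (repTab.getD k []) = a at hle ψ hψ hψι ⊢
    have hd : Dom (a * m) ≤ Dom a := fun z hz => hle ⟨(p z).2, hz⟩
    have hm : ∀ z : Dom (a * m), ψ (Subgroup.inclusion hd z) ∈ Dom m := fun z => by
      rw [mem_dom, hψ]
      have := mem_dom.1 z.2
      simpa [mul_assoc] using this
    refine ⟨φ.comp ((ψ.comp (Subgroup.inclusion hd)).codRestrict _ hm), fun z => ?_, fun b hb => ?_⟩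
    · show ((p (φ ⟨_, hm z⟩) : U) : G) = _
      rw [hφ, hψ, Subgroup.coe_inclusion]
      simp [mul_assoc]
    · show φ ⟨_, hm ⟨ι b, hb⟩⟩ = ι b
      have e1 : ψ (Subgroup.inclusion hd ⟨ι b, hb⟩) = ι b := hψι b (hd hb)
      have hb' : ι b ∈ Dom m := e1 ▸ hm ⟨ι b, hb⟩
      rw [show (⟨_, hm ⟨ι b, hb⟩⟩ : Dom m) = ⟨ι b, hb'⟩ from Subtype.ext e1]
      exact hφι b hb'
  have hstab : ∀ g, Stab g := by
    intro g
    obtain ⟨u, hu, v, hv, m, ⟨φ, hφ, hφι⟩, rfl⟩ := hind Stab h1 hstep g
    obtain ⟨u', hu'⟩ := hp ⟨u, hu⟩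
    obtain ⟨v', hv'⟩ := hp ⟨v, hv⟩
    have eu : (p u' : G) = u := congrArg Subtype.val hu'
    have evv : (p v' : G) = v := congrArg Subtype.val hv'
    have hm : ∀ z : Dom (u * m * v), u'⁻¹ * (z : P) * u' ∈ Dom m := fun z => by
      rw [mem_dom, map_mul, map_mul, map_inv, Subgroup.coe_mul, Subgroup.coe_mul, Subgroup.coe_inv, eu]
      have := U.mul_mem (U.mul_mem hv (mem_dom.1 z.2)) (U.inv_mem hv)
      convert this using 1
      group
    let c : Dom (u * m * v) →* Dom m :=
      { toFun := fun z => ⟨_, hm z⟩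
        map_one' := Subtype.ext (by simp)
        map_mul' := fun z w => Subtype.ext (by simp [mul_assoc]) }
    refine ⟨(MulAut.conj v'⁻¹).toMonoidHom.comp (φ.comp c), fun z => ?_, fun b hb => ?_⟩
    · show ((p (v'⁻¹ * φ ⟨_, hm z⟩ * v'⁻¹⁻¹) : U) : G) = _
      simp only [inv_inv, map_mul, map_inv, Subgroup.coe_mul, Subgroup.coe_inv, evv, eu, hφ]
      group
    · show v'⁻¹ * φ ⟨_, hm ⟨ι b, hb⟩⟩ * v'⁻¹⁻¹ = ι b
      have e1 : u'⁻¹ * ι b * u' = ι b := by
        rw [mul_assoc, ← Subgroup.mem_center_iff.1 (hcen ⟨b, rfl⟩) u', inv_mul_cancel_left]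
      have hb' : ι b ∈ Dom m := e1 ▸ hm ⟨ι b, hb⟩
      rw [show (⟨_, hm ⟨ι b, hb⟩⟩ : Dom m) = ⟨ι b, hb'⟩ from Subtype.ext e1, hφι b hb', inv_inv, mul_assoc,
        ← Subgroup.mem_center_iff.1 (hcen ⟨b, rfl⟩) v', inv_mul_cancel_left]
  obtain ⟨E, _, _, π, j, hπ, hj, hjr, hjc, hjcomm⟩ :=
    Cfsg.Agent.Lib.Schur.exists_extension_of_stable U hodd Kl_sq p hp ι hι hker hcentral hstab
  refine ⟨E, inferInstance, inferInstance, π, j, hπ, hj, hjr, hjc, ?_⟩
  have hsq : ∀ i < 36, t i * t i = 1 := fun i hi => by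
    have h := hlift.pow i hi
    have h0 := Nat.eq_of_beq_eq_true (List.all_eq_true.1 sq_zero i (List.mem_range.2 hi))
    have hp2 : sysPos.R.p = 2 := rfl
    have hr : sysPos.R.rhs i i = [] := by
      have hh : ((List.range 36).all fun i => natListEq (sysPos.R.rhs i i) []) = true := by decide +kernel
      exact natListEq_eq (List.all_eq_true.1 hh i (List.mem_range.2 hi))
    rw [hp2, hr, pow_two, klVal, h0, toKl_zero, map_one] at h
    simpa [prodT] using h
  have hw : ∀ (u : List ℕ) (v : ℕ), lowWitOK u v = true → prodT t u = ι (toKl v) := by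
    intro u v h
    have s := ev_sound hlift u []
    simp only [lowWitOK] at h
    cases e : ev sysPos.R u [] with | mk n z =>
    simp only [e, Bool.and_eq_true] at h s
    rw [show prodT t ([] : List ℕ) = 1 from rfl, mul_one, natListEq_eq h.1, show (fun n => ι (klVal n)) =
      fun n => ι (toKl (posVal n)) from rfl, prodT_toKl, Nat.eq_of_beq_eq_true h.2] at s
    simpa [prodT] using s
  have hcomm4 : ∀ i j k l, i < 36 → j < 36 → k < 36 → l < 36 →
      prodT t [i, j, i, j, k, l, k, l] ∈ commutator P := by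
    intro i j k l hi hj hk hl
    have e : ∀ a b, a < 36 → b < 36 → t a * t b * t a * t b = ⁅t a, t b⁆ := fun a b ha hb => by
      rw [commutatorElement_def, inv_eq_of_mul_eq_one_right (hsq a ha), inv_eq_of_mul_eq_one_right (hsq b hb)]
    rw [show prodT t [i, j, i, j, k, l, k, l] = (t i * t j * t i * t j) * (t k * t l * t k * t l) by
      simp [prodT, mul_assoc], e i j hi hj, e k l hk hl]
    exact Subgroup.mul_mem _ (Subgroup.commutator_mem_commutator (Subgroup.mem_top _) (Subgroup.mem_top _))
      (Subgroup.commutator_mem_commutator (Subgroup.mem_top _) (Subgroup.mem_top _))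
  have h10 := hjcomm _ (hw _ _ wit1_ok ▸ hcomm4 5 27 28 6 (by norm_num) (by norm_num) (by norm_num) (by norm_num))
  have h01 := hjcomm _ (hw _ _ wit2_ok ▸ hcomm4 2 6 5 3 (by norm_num) (by norm_num) (by norm_num) (by norm_num))
  intro b
  have hb : ∀ b : Kl, b = 1 ∨ b = toKl 1 ∨ b = toKl 2 ∨ b = toKl 1 * toKl 2 := by decide
  rcases hb b with rfl | rfl | rfl | rfl
  · rw [map_one]; exact Subgroup.one_mem _
  · exact h10
  · exact h01
  · rw [map_mul]; exact Subgroup.mul_mem _ h10 h01

end Cfsg.Agent.Lib.Compute.E6Two
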