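import Mathlib

/-! Data for the stability of the deformation under six representatives. -/

set_option autoImplicit false
set_option maxRecDepth 100000

namespace Cfsg.Agent.Lib.Compute.E6Two

/-- Positions staying positive, their rules, the positions of their images and the deviations of the images. -/
structure StabDatum where
  q : List ℕ
  w : List (List (List ℕ))
  img : List (List ℕ)
  dev : List ℕ

/-- Representative 0. -/
def stab0 : StabDatum :=
  ⟨[0, 2, 3, 4, 5, 6, 7, 8, 9, 10, 11, 12, 13, 14, 15, 16, 17, 18, 19, 20, 21, 22, 23, 24, 25, 26, 27, 28, 29, 30, 31, 32, 33, 34, 35],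
    [[[]],
     [[1, 6, 12], []],
     [[2, 7, 12], [2], []],
     [[3], [3, 8, 15], [3, 9, 15], []],
     [[4], [4, 10], [4, 11], [4], []],
     [[5], [5, 11], [5, 10, 11], [5], [5], []],
     [[6], [6], [6, 12], [6], [6, 13], [6, 14], []],
     [[7], [7, 12], [7], [7], [7, 14], [7, 13, 14], [7], []],
     [[8], [8], [8, 15], [8], [8, 16], [8, 17], [8], [8, 18], []],
     [[9], [9, 15], [9], [9], [9, 17], [9, 16, 17], [9, 18], [9], [9], []],
     [[10, 13, 25], [10], [10], [10, 16, 28], [10], [10], [10, 19], [10, 19, 20], [10, 21], [10, 21, 22], []],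
     [[11, 14, 25], [11], [11], [11, 17, 28], [11], [11], [11, 20], [11, 19], [11, 22], [11, 21], [11], []],
     [[12], [12], [12], [12, 18], [12, 19, 25], [12, 20, 25], [12], [12], [12], [12], [12], [12], []],
     [[13], [13, 19], [13, 19, 20], [13], [13], [13], [13], [13], [13, 23], [13, 23, 24], [13], [13, 25], [13], []],
     [[14], [14, 20], [14, 19], [14], [14], [14], [14], [14], [14, 24], [14, 23], [14, 25], [14], [14], [14], []],
     [[15, 18], [15], [15], [15], [15, 21, 28], [15, 22, 28], [15], [15], [15], [15], [15], [15], [15], [15, 26, 33], [15, 27, 33], []],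
     [[16], [16, 21], [16, 21, 22], [16], [16], [16], [16, 23], [16, 23, 24], [16], [16], [16], [16, 28], [16, 26, 34], [16], [16, 29], [16], []],
     [[17], [17, 22], [17, 21], [17], [17], [17], [17, 24], [17, 23], [17], [17], [17, 28], [17], [17, 27, 34], [17, 29], [17], [17], [17], []],
     [[18], [18], [18], [18], [18, 23, 29], [18, 24, 29], [18], [18], [18], [18], [18, 26, 32], [18, 27, 32], [18], [18], [18], [18], [18], [18], []],
     [[19], [19], [19], [19, 23, 33], [19], [19, 25], [19], [19], [19, 26], [19, 27], [19], [19], [19], [19], [19], [19], [19, 30], [19, 31], [19], []],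
     [[20], [20], [20], [20, 24, 33], [20, 25], [20], [20], [20], [20, 27], [20, 26, 27], [20], [20], [20], [20], [20], [20], [20, 30, 31], [20, 30], [20], [20], []],
     [[21, 23, 34], [21], [21], [21], [21], [21, 28], [21, 26], [21, 27], [21], [21], [21], [21], [21], [21, 30], [21, 31], [21], [21], [21], [21], [21], [21, 32], []],
     [[22, 24, 34], [22], [22], [22], [22, 28], [22], [22, 27], [22, 26, 27], [22], [22], [22], [22], [22], [22, 30, 31], [22, 30], [22], [22], [22], [22], [22, 32], [22], [22], []],
     [[23], [23, 26], [23, 27], [23], [23], [23, 29], [23], [23], [23], [23], [23, 30], [23, 31], [23], [23], [23], [23], [23], [23], [23], [23], [23, 33], [23], [23, 34], []],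
     [[24], [24, 27], [24, 26, 27], [24], [24, 29], [24], [24], [24], [24], [24], [24, 30, 31], [24, 30], [24], [24], [24], [24], [24], [24], [24], [24, 33], [24], [24, 34], [24], [24], []],
     [[25], [25], [25], [25, 29], [25], [25], [25], [25], [25, 30, 34], [25, 31, 34], [25], [25], [25], [25], [25], [25, 32], [25], [25], [25, 33], [25], [25], [25], [25], [25], [25], []],
     [[26], [26], [26], [26], [26, 30], [26, 30, 31], [26], [26], [26], [26], [26], [26, 32], [26], [26], [26, 33], [26], [26], [26, 34], [26], [26], [26], [26], [26], [26], [26], [26], []],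
     [[27], [27], [27], [27], [27, 31], [27, 30], [27], [27], [27], [27], [27, 32], [27], [27], [27, 33], [27], [27], [27, 34], [27], [27], [27], [27], [27], [27], [27], [27], [27], [27], []],
     [[28, 29], [28], [28], [28], [28], [28], [28, 30, 33], [28, 31, 33], [28], [28], [28], [28], [28, 32], [28], [28], [28], [28], [28], [28, 34], [28], [28], [28], [28], [28], [28], [28], [28], [28], []],
     [[29], [29, 30, 32], [29, 31, 32], [29], [29], [29], [29], [29], [29], [29], [29], [29], [29, 33], [29], [29], [29, 34], [29], [29], [29], [29], [29], [29], [29], [29], [29], [29], [29], [29], [29], []],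
     [[30], [30], [30, 32], [30], [30], [30], [30], [30, 33], [30], [30, 34], [30], [30], [30], [30], [30], [30], [30], [30], [30], [30], [30], [30], [30], [30], [30], [30], [30], [30], [30], [30], []],
     [[31], [31, 32], [31], [31], [31], [31], [31, 33], [31], [31, 34], [31], [31], [31], [31], [31], [31], [31], [31], [31], [31], [31], [31], [31], [31], [31], [31], [31], [31], [31], [31], [31], [31], []],
     [[32, 33], [32], [32], [32, 34], [32], [32], [32], [32], [32], [32], [32], [32], [32], [32], [32], [32], [32], [32], [32], [32], [32], [32], [32], [32], [32], [32], [32], [32], [32], [32], [32], [32], []],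
     [[33], [33], [33], [33], [33], [33], [33], [33], [33], [33], [33], [33], [33], [33], [33], [33], [33], [33], [33], [33], [33], [33], [33], [33], [33], [33], [33], [33], [33], [33], [33], [33], [33], []],
     [[34], [34], [34], [34], [34], [34], [34], [34], [34], [34], [34], [34], [34], [34], [34], [34], [34], [34], [34], [34], [34], [34], [34], [34], [34], [34], [34], [34], [34], [34], [34], [34], [34], [34], []]],
    [[4], [2], [3], [0], [5], [6], [9], [10], [7], [8], [11], [12], [16], [17], [18], [13], [14], [15], [19], [22], [23], [20], [21], [24], [25], [29], [27], [28], [26], [30], [31], [32], [33], [35], [34]],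
    [0, 0, 0, 0, 0, 0, 0, 0, 0, 0, 0, 0, 0, 0, 2, 0, 0, 2, 0, 0, 0, 0, 0, 0, 0, 0, 0, 0, 0, 0, 0, 0, 0, 0, 0]⟩

/-- Images of the generators: `x g * a = a * prodT x w` for the entries `(g, w)`, `a` the representative 0. -/
def conjTab0 : List (ℕ × List ℕ) :=
  [(42, [51]), (38, [38]), (39, [39]), (51, [42]), (36, [36]), (37, [37]), (43, [52]), (44, [53]), (52, [43]), (53, [44]), (40, [40]), (41, [41]), (47, [56]), (45, [54]), (46, [55]), (56, [47]), (54, [45]), (55, [46]), (59, [59]), (48, [57]), (49, [58]), (57, [48]), (58, [49]), (60, [60]), (61, [61]), (64, [65]), (62, [62]), (63, [63]), (65, [64]), (66, [66]), (67, [67]), (68, [68]), (69, [69]), (70, [71]), (71, [70])]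

/-- Representative 1. -/
def stab1 : StabDatum :=
  ⟨[1, 2, 3, 4, 5, 6, 7, 8, 9, 10, 11, 12, 13, 14, 15, 16, 17, 18, 19, 20, 21, 22, 23, 24, 25, 26, 27, 28, 29, 30, 31, 32, 33, 34, 35],
    [[[]],
     [[1], []],
     [[2], [2], []],
     [[3], [3, 8, 15], [3, 9, 15], []],
     [[4], [4, 10], [4, 11], [4], []],
     [[5], [5, 11], [5, 10, 11], [5], [5], []],
     [[6, 8, 18], [6], [6, 12], [6], [6, 13], [6, 14], []],
     [[7, 9, 18], [7, 12], [7], [7], [7, 14], [7, 13, 14], [7], []],
     [[8], [8], [8, 15], [8], [8, 16], [8, 17], [8], [8, 18], []],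
     [[9], [9, 15], [9], [9], [9, 17], [9, 16, 17], [9, 18], [9], [9], []],
     [[10], [10], [10], [10, 16, 28], [10], [10], [10, 19], [10, 19, 20], [10, 21], [10, 21, 22], []],
     [[11], [11], [11], [11, 17, 28], [11], [11], [11, 20], [11, 19], [11, 22], [11, 21], [11], []],
     [[12, 15], [12], [12], [12, 18], [12, 19, 25], [12, 20, 25], [12], [12], [12], [12], [12], [12], []],
     [[13, 16, 29], [13, 19], [13, 19, 20], [13], [13], [13], [13], [13], [13, 23], [13, 23, 24], [13], [13, 25], [13], []],
     [[14, 17, 29], [14, 20], [14, 19], [14], [14], [14], [14], [14], [14, 24], [14, 23], [14, 25], [14], [14], [14], []],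
     [[15], [15], [15], [15], [15, 21, 28], [15, 22, 28], [15], [15], [15], [15], [15], [15], [15], [15, 26, 33], [15, 27, 33], []],
     [[16], [16, 21], [16, 21, 22], [16], [16], [16], [16, 23], [16, 23, 24], [16], [16], [16], [16, 28], [16, 26, 34], [16], [16, 29], [16], []],
     [[17], [17, 22], [17, 21], [17], [17], [17], [17, 24], [17, 23], [17], [17], [17, 28], [17], [17, 27, 34], [17, 29], [17], [17], [17], []],
     [[18], [18], [18], [18], [18, 23, 29], [18, 24, 29], [18], [18], [18], [18], [18, 26, 32], [18, 27, 32], [18], [18], [18], [18], [18], [18], []],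
     [[19, 21, 32], [19], [19], [19, 23, 33], [19], [19, 25], [19], [19], [19, 26], [19, 27], [19], [19], [19], [19], [19], [19], [19, 30], [19, 31], [19], []],
     [[20, 22, 32], [20], [20], [20, 24, 33], [20, 25], [20], [20], [20], [20, 27], [20, 26, 27], [20], [20], [20], [20], [20], [20], [20, 30, 31], [20, 30], [20], [20], []],
     [[21], [21], [21], [21], [21], [21, 28], [21, 26], [21, 27], [21], [21], [21], [21], [21], [21, 30], [21, 31], [21], [21], [21], [21], [21], [21, 32], []],
     [[22], [22], [22], [22], [22, 28], [22], [22, 27], [22, 26, 27], [22], [22], [22], [22], [22], [22, 30, 31], [22, 30], [22], [22], [22], [22], [22, 32], [22], [22], []],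
     [[23], [23, 26], [23, 27], [23], [23], [23, 29], [23], [23], [23], [23], [23, 30], [23, 31], [23], [23], [23], [23], [23], [23], [23], [23], [23, 33], [23], [23, 34], []],
     [[24], [24, 27], [24, 26, 27], [24], [24, 29], [24], [24], [24], [24], [24], [24, 30, 31], [24, 30], [24], [24], [24], [24], [24], [24], [24], [24, 33], [24], [24, 34], [24], [24], []],
     [[25, 28], [25], [25], [25, 29], [25], [25], [25], [25], [25, 30, 34], [25, 31, 34], [25], [25], [25], [25], [25], [25, 32], [25], [25], [25, 33], [25], [25], [25], [25], [25], [25], []],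
     [[26], [26], [26], [26], [26, 30], [26, 30, 31], [26], [26], [26], [26], [26], [26, 32], [26], [26], [26, 33], [26], [26], [26, 34], [26], [26], [26], [26], [26], [26], [26], [26], []],
     [[27], [27], [27], [27], [27, 31], [27, 30], [27], [27], [27], [27], [27, 32], [27], [27], [27, 33], [27], [27], [27, 34], [27], [27], [27], [27], [27], [27], [27], [27], [27], [27], []],
     [[28], [28], [28], [28], [28], [28], [28, 30, 33], [28, 31, 33], [28], [28], [28], [28], [28, 32], [28], [28], [28], [28], [28], [28, 34], [28], [28], [28], [28], [28], [28], [28], [28], [28], []],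
     [[29], [29, 30, 32], [29, 31, 32], [29], [29], [29], [29], [29], [29], [29], [29], [29], [29, 33], [29], [29], [29, 34], [29], [29], [29], [29], [29], [29], [29], [29], [29], [29], [29], [29], [29], []],
     [[30], [30], [30, 32], [30], [30], [30], [30], [30, 33], [30], [30, 34], [30], [30], [30], [30], [30], [30], [30], [30], [30], [30], [30], [30], [30], [30], [30], [30], [30], [30], [30], [30], []],
     [[31], [31, 32], [31], [31], [31], [31], [31, 33], [31], [31, 34], [31], [31], [31], [31], [31], [31], [31], [31], [31], [31], [31], [31], [31], [31], [31], [31], [31], [31], [31], [31], [31], [31], []],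
     [[32], [32], [32], [32, 34], [32], [32], [32], [32], [32], [32], [32], [32], [32], [32], [32], [32], [32], [32], [32], [32], [32], [32], [32], [32], [32], [32], [32], [32], [32], [32], [32], [32], []],
     [[33, 34], [33], [33], [33], [33], [33], [33], [33], [33], [33], [33], [33], [33], [33], [33], [33], [33], [33], [33], [33], [33], [33], [33], [33], [33], [33], [33], [33], [33], [33], [33], [33], [33], []],
     [[34], [34], [34], [34], [34], [34], [34], [34], [34], [34], [34], [34], [34], [34], [34], [34], [34], [34], [34], [34], [34], [34], [34], [34], [34], [34], [34], [34], [34], [34], [34], [34], [34], [34], []]],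
    [[4], [7], [8], [1], [5], [6], [2], [3], [9], [10], [14], [15], [13], [11], [12], [19], [17], [18], [16], [20], [21], [24], [25], [22], [23], [26], [27], [28], [30], [29], [31], [32], [34], [33], [35]],
    [0, 0, 0, 0, 0, 0, 0, 0, 0, 0, 0, 2, 0, 0, 2, 0, 0, 0, 0, 0, 0, 0, 0, 0, 0, 0, 0, 0, 0, 0, 0, 0, 0, 0, 0]⟩

/-- Images of the generators: `x g * a = a * prodT x w` for the entries `(g, w)`, `a` the representative 1. -/
def conjTab1 : List (ℕ × List ℕ) :=
  [(50, [51]), (38, [43]), (39, [44]), (51, [50]), (36, [36]), (37, [37]), (43, [38]), (44, [39]), (52, [52]), (53, [53]), (40, [45]), (41, [46]), (47, [47]), (45, [40]), (46, [41]), (56, [59]), (54, [54]), (55, [55]), (59, [56]), (48, [48]), (49, [49]), (57, [60]), (58, [61]), (60, [57]), (61, [58]), (64, [64]), (62, [62]), (63, [63]), (65, [66]), (66, [65]), (67, [67]), (68, [68]), (69, [70]), (70, [69]), (71, [71])]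

/-- Representative 2. -/
def stab2 : StabDatum :=
  ⟨[0, 1, 4, 5, 6, 7, 8, 9, 10, 11, 12, 13, 14, 15, 16, 17, 18, 19, 20, 21, 22, 23, 24, 25, 26, 27, 28, 29, 30, 31, 32, 33, 34, 35],
    [[[]],
     [[1, 2], []],
     [[2], [2], []],
     [[3], [3], [3], []],
     [[4], [4], [4], [4], []],
     [[5], [5, 7, 17], [5], [5, 12], [5, 13], []],
     [[6], [6, 8, 17], [6], [6, 13], [6, 12, 13], [6], []],
     [[7], [7], [7], [7, 15], [7, 16], [7], [7, 17], []],
     [[8], [8], [8], [8, 16], [8, 15, 16], [8, 17], [8], [8], []],
     [[9, 12, 24], [9], [9, 15, 27], [9], [9], [9, 18], [9, 18, 19], [9, 20], [9, 20, 21], []],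
     [[10, 13, 24], [10], [10, 16, 27], [10], [10], [10, 19], [10, 18], [10, 21], [10, 20], [10], []],
     [[11], [11, 14], [11, 17], [11, 18, 24], [11, 19, 24], [11], [11], [11], [11], [11], [11], []],
     [[12], [12, 15, 28], [12], [12], [12], [12], [12], [12, 22], [12, 22, 23], [12], [12, 24], [12], []],
     [[13], [13, 16, 28], [13], [13], [13], [13], [13], [13, 23], [13, 22], [13, 24], [13], [13], [13], []],
     [[14, 17], [14], [14], [14, 20, 27], [14, 21, 27], [14], [14], [14], [14], [14], [14], [14], [14, 25, 32], [14, 26, 32], []],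
     [[15], [15], [15], [15], [15], [15, 22], [15, 22, 23], [15], [15], [15], [15, 27], [15, 25, 33], [15], [15, 28], [15], []],
     [[16], [16], [16], [16], [16], [16, 23], [16, 22], [16], [16], [16, 27], [16], [16, 26, 33], [16, 28], [16], [16], [16], []],
     [[17], [17], [17], [17, 22, 28], [17, 23, 28], [17], [17], [17], [17], [17, 25, 31], [17, 26, 31], [17], [17], [17], [17], [17], [17], []],
     [[18], [18, 20, 31], [18, 22, 32], [18], [18, 24], [18], [18], [18, 25], [18, 26], [18], [18], [18], [18], [18], [18], [18, 29], [18, 30], [18], []],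
     [[19], [19, 21, 31], [19, 23, 32], [19, 24], [19], [19], [19], [19, 26], [19, 25, 26], [19], [19], [19], [19], [19], [19], [19, 29, 30], [19, 29], [19], [19], []],
     [[20, 22, 33], [20], [20], [20], [20, 27], [20, 25], [20, 26], [20], [20], [20], [20], [20], [20, 29], [20, 30], [20], [20], [20], [20], [20], [20, 31], []],
     [[21, 23, 33], [21], [21], [21, 27], [21], [21, 26], [21, 25, 26], [21], [21], [21], [21], [21], [21, 29, 30], [21, 29], [21], [21], [21], [21], [21, 31], [21], [21], []],
     [[22], [22], [22], [22], [22, 28], [22], [22], [22], [22], [22, 29], [22, 30], [22], [22], [22], [22], [22], [22], [22], [22], [22, 32], [22], [22, 33], []],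
     [[23], [23], [23], [23, 28], [23], [23], [23], [23], [23], [23, 29, 30], [23, 29], [23], [23], [23], [23], [23], [23], [23], [23, 32], [23], [23, 33], [23], [23], []],
     [[24], [24, 27], [24, 28], [24], [24], [24], [24], [24, 29, 33], [24, 30, 33], [24], [24], [24], [24], [24], [24, 31], [24], [24], [24, 32], [24], [24], [24], [24], [24], [24], []],
     [[25], [25], [25], [25, 29], [25, 29, 30], [25], [25], [25], [25], [25], [25, 31], [25], [25], [25, 32], [25], [25], [25, 33], [25], [25], [25], [25], [25], [25], [25], [25], []],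
     [[26], [26], [26], [26, 30], [26, 29], [26], [26], [26], [26], [26, 31], [26], [26], [26, 32], [26], [26], [26, 33], [26], [26], [26], [26], [26], [26], [26], [26], [26], [26], []],
     [[27, 28], [27], [27], [27], [27], [27, 29, 32], [27, 30, 32], [27], [27], [27], [27], [27, 31], [27], [27], [27], [27], [27], [27, 33], [27], [27], [27], [27], [27], [27], [27], [27], [27], []],
     [[28], [28], [28], [28], [28], [28], [28], [28], [28], [28], [28], [28, 32], [28], [28], [28, 33], [28], [28], [28], [28], [28], [28], [28], [28], [28], [28], [28], [28], [28], []],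
     [[29], [29], [29], [29], [29], [29], [29, 32], [29], [29, 33], [29], [29], [29], [29], [29], [29], [29], [29], [29], [29], [29], [29], [29], [29], [29], [29], [29], [29], [29], [29], []],
     [[30], [30], [30], [30], [30], [30, 32], [30], [30, 33], [30], [30], [30], [30], [30], [30], [30], [30], [30], [30], [30], [30], [30], [30], [30], [30], [30], [30], [30], [30], [30], [30], []],
     [[31, 32], [31], [31, 33], [31], [31], [31], [31], [31], [31], [31], [31], [31], [31], [31], [31], [31], [31], [31], [31], [31], [31], [31], [31], [31], [31], [31], [31], [31], [31], [31], [31], []],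
     [[32], [32, 33], [32], [32], [32], [32], [32], [32], [32], [32], [32], [32], [32], [32], [32], [32], [32], [32], [32], [32], [32], [32], [32], [32], [32], [32], [32], [32], [32], [32], [32], [32], []],
     [[33], [33], [33], [33], [33], [33], [33], [33], [33], [33], [33], [33], [33], [33], [33], [33], [33], [33], [33], [33], [33], [33], [33], [33], [33], [33], [33], [33], [33], [33], [33], [33], [33], []]],
    [[13], [1], [16], [11], [12], [7], [7, 8], [9], [9, 10], [5], [6], [0], [20], [21], [4], [22], [23], [19], [14], [15], [17], [18], [27], [28], [26], [24], [25], [29], [33], [31], [31, 32], [30], [34], [35]],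
    [0, 0, 0, 0, 0, 0, 0, 0, 2, 0, 0, 0, 0, 2, 0, 0, 0, 0, 0, 2, 0, 0, 0, 0, 0, 0, 0, 0, 0, 0, 2, 0, 0, 0]⟩

/-- Images of the generators: `x g * a = a * prodT x w` for the entries `(g, w)`, `a` the representative 2. -/
def conjTab2 : List (ℕ × List ℕ) :=
  [(42, [47]), (50, [50]), (51, [56]), (36, [40]), (37, [41]), (43, [43]), (44, [43, 44]), (52, [52]), (53, [52, 53]), (40, [36]), (41, [37]), (47, [42]), (45, [48]), (46, [49]), (56, [51]), (54, [57]), (55, [58]), (59, [59]), (48, [45]), (49, [46]), (57, [54]), (58, [55]), (60, [62]), (61, [63]), (64, [64]), (62, [60]), (63, [61]), (65, [65]), (66, [69]), (67, [67]), (68, [67, 68]), (69, [66]), (70, [70]), (71, [71])]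

/-- Representative 3. -/
def stab3 : StabDatum :=
  ⟨[0, 1, 2, 3, 4, 7, 8, 9, 10, 11, 12, 13, 14, 15, 16, 17, 18, 19, 20, 21, 22, 23, 24, 25, 26, 27, 28, 29, 30, 31, 32, 33, 34, 35],
    [[[]],
     [[1, 4], []],
     [[2, 5, 11], [2], []],
     [[3, 6, 11], [3], [3], []],
     [[4], [4], [4, 7, 14], [4, 8, 14], []],
     [[5], [5, 7, 17], [5], [5, 11], [5], []],
     [[6], [6, 8, 17], [6, 11], [6], [6], [6], []],
     [[7], [7], [7], [7, 14], [7], [7], [7, 17], []],
     [[8], [8], [8, 14], [8], [8], [8, 17], [8], [8], []],
     [[9, 12, 24], [9], [9], [9], [9, 15, 27], [9, 18], [9, 18, 19], [9, 20], [9, 20, 21], []],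
     [[10, 13, 24], [10], [10], [10], [10, 16, 27], [10, 19], [10, 18], [10, 21], [10, 20], [10], []],
     [[11], [11, 14], [11], [11], [11, 17], [11], [11], [11], [11], [11], [11], []],
     [[12], [12, 15, 28], [12, 18], [12, 18, 19], [12], [12], [12], [12, 22], [12, 22, 23], [12], [12, 24], [12], []],
     [[13], [13, 16, 28], [13, 19], [13, 18], [13], [13], [13], [13, 23], [13, 22], [13, 24], [13], [13], [13], []],
     [[14, 17], [14], [14], [14], [14], [14], [14], [14], [14], [14], [14], [14], [14, 25, 32], [14, 26, 32], []],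
     [[15], [15], [15, 20], [15, 20, 21], [15], [15, 22], [15, 22, 23], [15], [15], [15], [15, 27], [15, 25, 33], [15], [15, 28], [15], []],
     [[16], [16], [16, 21], [16, 20], [16], [16, 23], [16, 22], [16], [16], [16, 27], [16], [16, 26, 33], [16, 28], [16], [16], [16], []],
     [[17], [17], [17], [17], [17], [17], [17], [17], [17], [17, 25, 31], [17, 26, 31], [17], [17], [17], [17], [17], [17], []],
     [[18], [18, 20, 31], [18], [18], [18, 22, 32], [18], [18], [18, 25], [18, 26], [18], [18], [18], [18], [18], [18], [18, 29], [18, 30], [18], []],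
     [[19], [19, 21, 31], [19], [19], [19, 23, 32], [19], [19], [19, 26], [19, 25, 26], [19], [19], [19], [19], [19], [19], [19, 29, 30], [19, 29], [19], [19], []],
     [[20, 22, 33], [20], [20], [20], [20], [20, 25], [20, 26], [20], [20], [20], [20], [20], [20, 29], [20, 30], [20], [20], [20], [20], [20], [20, 31], []],
     [[21, 23, 33], [21], [21], [21], [21], [21, 26], [21, 25, 26], [21], [21], [21], [21], [21], [21, 29, 30], [21, 29], [21], [21], [21], [21], [21, 31], [21], [21], []],
     [[22], [22], [22, 25], [22, 26], [22], [22], [22], [22], [22], [22, 29], [22, 30], [22], [22], [22], [22], [22], [22], [22], [22], [22, 32], [22], [22, 33], []],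
     [[23], [23], [23, 26], [23, 25, 26], [23], [23], [23], [23], [23], [23, 29, 30], [23, 29], [23], [23], [23], [23], [23], [23], [23], [23, 32], [23], [23, 33], [23], [23], []],
     [[24], [24, 27], [24], [24], [24, 28], [24], [24], [24, 29, 33], [24, 30, 33], [24], [24], [24], [24], [24], [24, 31], [24], [24], [24, 32], [24], [24], [24], [24], [24], [24], []],
     [[25], [25], [25], [25], [25], [25], [25], [25], [25], [25], [25, 31], [25], [25], [25, 32], [25], [25], [25, 33], [25], [25], [25], [25], [25], [25], [25], [25], []],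
     [[26], [26], [26], [26], [26], [26], [26], [26], [26], [26, 31], [26], [26], [26, 32], [26], [26], [26, 33], [26], [26], [26], [26], [26], [26], [26], [26], [26], [26], []],
     [[27, 28], [27], [27], [27], [27], [27, 29, 32], [27, 30, 32], [27], [27], [27], [27], [27, 31], [27], [27], [27], [27], [27], [27, 33], [27], [27], [27], [27], [27], [27], [27], [27], [27], []],
     [[28], [28], [28, 29, 31], [28, 30, 31], [28], [28], [28], [28], [28], [28], [28], [28, 32], [28], [28], [28, 33], [28], [28], [28], [28], [28], [28], [28], [28], [28], [28], [28], [28], [28], []],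
     [[29], [29], [29], [29, 31], [29], [29], [29, 32], [29], [29, 33], [29], [29], [29], [29], [29], [29], [29], [29], [29], [29], [29], [29], [29], [29], [29], [29], [29], [29], [29], [29], []],
     [[30], [30], [30, 31], [30], [30], [30, 32], [30], [30, 33], [30], [30], [30], [30], [30], [30], [30], [30], [30], [30], [30], [30], [30], [30], [30], [30], [30], [30], [30], [30], [30], [30], []],
     [[31, 32], [31], [31], [31], [31, 33], [31], [31], [31], [31], [31], [31], [31], [31], [31], [31], [31], [31], [31], [31], [31], [31], [31], [31], [31], [31], [31], [31], [31], [31], [31], [31], []],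
     [[32], [32, 33], [32], [32], [32], [32], [32], [32], [32], [32], [32], [32], [32], [32], [32], [32], [32], [32], [32], [32], [32], [32], [32], [32], [32], [32], [32], [32], [32], [32], [32], [32], []],
     [[33], [33], [33], [33], [33], [33], [33], [33], [33], [33], [33], [33], [33], [33], [33], [33], [33], [33], [33], [33], [33], [33], [33], [33], [33], [33], [33], [33], [33], [33], [33], [33], [33], []]],
    [[0], [1], [11], [12], [4], [14], [15], [17], [18], [2], [3], [26], [7], [8], [29], [9], [10], [30], [20], [20, 21], [22], [22, 23], [24], [24, 25], [13], [31], [32], [16], [19], [27], [28], [33], [34], [35]],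
    [0, 0, 0, 0, 0, 0, 0, 0, 2, 0, 0, 0, 0, 0, 0, 0, 2, 0, 0, 2, 0, 2, 0, 2, 0, 0, 2, 0, 0, 0, 2, 0, 0, 0]⟩

/-- Images of the generators: `x g * a = a * prodT x w` for the entries `(g, w)`, `a` the representative 3. -/
def conjTab3 : List (ℕ × List ℕ) :=
  [(42, [42]), (50, [50]), (38, [40]), (39, [41]), (51, [51]), (43, [45]), (44, [46]), (52, [54]), (53, [55]), (40, [38]), (41, [39]), (47, [64]), (45, [43]), (46, [44]), (56, [65]), (54, [52]), (55, [53]), (59, [66]), (48, [48]), (49, [48, 49]), (57, [57]), (58, [57, 58]), (60, [60]), (61, [60, 61]), (64, [47]), (62, [67]), (63, [68]), (65, [56]), (66, [59]), (67, [62]), (68, [63]), (69, [69]), (70, [70]), (71, [71])]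

/-- Representative 4. -/
def stab4 : StabDatum :=
  ⟨[0, 1, 2, 3, 4, 5, 6, 7, 8, 9, 10, 11, 12, 13, 14, 15, 16, 17, 18, 19, 20, 21, 22, 23, 24, 25, 26, 27, 28, 29, 30, 31, 32, 33, 34, 35],
    [[[]],
     [[1, 4], []],
     [[2, 7, 13], [2], []],
     [[3, 8, 13], [3], [3], []],
     [[4], [4], [4, 9, 16], [4, 10, 16], []],
     [[5], [5], [5, 11], [5, 12], [5], []],
     [[6], [6], [6, 12], [6, 11, 12], [6], [6], []],
     [[7], [7, 9, 19], [7], [7, 13], [7], [7, 14], [7, 15], []],
     [[8], [8, 10, 19], [8, 13], [8], [8], [8, 15], [8, 14, 15], [8], []],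
     [[9], [9], [9], [9, 16], [9], [9, 17], [9, 18], [9], [9, 19], []],
     [[10], [10], [10, 16], [10], [10], [10, 18], [10, 17, 18], [10, 19], [10], [10], []],
     [[11, 14, 26], [11], [11], [11], [11, 17, 29], [11], [11], [11, 20], [11, 20, 21], [11, 22], [11, 22, 23], []],
     [[12, 15, 26], [12], [12], [12], [12, 18, 29], [12], [12], [12, 21], [12, 20], [12, 23], [12, 22], [12], []],
     [[13], [13, 16], [13], [13], [13, 19], [13, 20, 26], [13, 21, 26], [13], [13], [13], [13], [13], [13], []],
     [[14], [14, 17, 30], [14, 20], [14, 20, 21], [14], [14], [14], [14], [14], [14, 24], [14, 24, 25], [14], [14, 26], [14], []],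
     [[15], [15, 18, 30], [15, 21], [15, 20], [15], [15], [15], [15], [15], [15, 25], [15, 24], [15, 26], [15], [15], [15], []],
     [[16, 19], [16], [16], [16], [16], [16, 22, 29], [16, 23, 29], [16], [16], [16], [16], [16], [16], [16], [16, 27, 34], [16, 28, 34], []],
     [[17], [17], [17, 22], [17, 22, 23], [17], [17], [17], [17, 24], [17, 24, 25], [17], [17], [17], [17, 29], [17, 27, 35], [17], [17, 30], [17], []],
     [[18], [18], [18, 23], [18, 22], [18], [18], [18], [18, 25], [18, 24], [18], [18], [18, 29], [18], [18, 28, 35], [18, 30], [18], [18], [18], []],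
     [[19], [19], [19], [19], [19], [19, 24, 30], [19, 25, 30], [19], [19], [19], [19], [19, 27, 33], [19, 28, 33], [19], [19], [19], [19], [19], [19], []],
     [[20], [20, 22, 33], [20], [20], [20, 24, 34], [20], [20, 26], [20], [20], [20, 27], [20, 28], [20], [20], [20], [20], [20], [20], [20, 31], [20, 32], [20], []],
     [[21], [21, 23, 33], [21], [21], [21, 25, 34], [21, 26], [21], [21], [21], [21, 28], [21, 27, 28], [21], [21], [21], [21], [21], [21], [21, 31, 32], [21, 31], [21], [21], []],
     [[22, 24, 35], [22], [22], [22], [22], [22], [22, 29], [22, 27], [22, 28], [22], [22], [22], [22], [22], [22, 31], [22, 32], [22], [22], [22], [22], [22], [22, 33], []],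
     [[23, 25, 35], [23], [23], [23], [23], [23, 29], [23], [23, 28], [23, 27, 28], [23], [23], [23], [23], [23], [23, 31, 32], [23, 31], [23], [23], [23], [23], [23, 33], [23], [23], []],
     [[24], [24], [24, 27], [24, 28], [24], [24], [24, 30], [24], [24], [24], [24], [24, 31], [24, 32], [24], [24], [24], [24], [24], [24], [24], [24], [24, 34], [24], [24, 35], []],
     [[25], [25], [25, 28], [25, 27, 28], [25], [25, 30], [25], [25], [25], [25], [25], [25, 31, 32], [25, 31], [25], [25], [25], [25], [25], [25], [25], [25, 34], [25], [25, 35], [25], [25], []],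
     [[26], [26, 29], [26], [26], [26, 30], [26], [26], [26], [26], [26, 31, 35], [26, 32, 35], [26], [26], [26], [26], [26], [26, 33], [26], [26], [26, 34], [26], [26], [26], [26], [26], [26], []],
     [[27], [27], [27], [27], [27], [27, 31], [27, 31, 32], [27], [27], [27], [27], [27], [27, 33], [27], [27], [27, 34], [27], [27], [27, 35], [27], [27], [27], [27], [27], [27], [27], [27], []],
     [[28], [28], [28], [28], [28], [28, 32], [28, 31], [28], [28], [28], [28], [28, 33], [28], [28], [28, 34], [28], [28], [28, 35], [28], [28], [28], [28], [28], [28], [28], [28], [28], [28], []],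
     [[29, 30], [29], [29], [29], [29], [29], [29], [29, 31, 34], [29, 32, 34], [29], [29], [29], [29], [29, 33], [29], [29], [29], [29], [29], [29, 35], [29], [29], [29], [29], [29], [29], [29], [29], [29], []],
     [[30], [30], [30, 31, 33], [30, 32, 33], [30], [30], [30], [30], [30], [30], [30], [30], [30], [30, 34], [30], [30], [30, 35], [30], [30], [30], [30], [30], [30], [30], [30], [30], [30], [30], [30], [30], []],
     [[31], [31], [31], [31, 33], [31], [31], [31], [31], [31, 34], [31], [31, 35], [31], [31], [31], [31], [31], [31], [31], [31], [31], [31], [31], [31], [31], [31], [31], [31], [31], [31], [31], [31], []],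
     [[32], [32], [32, 33], [32], [32], [32], [32], [32, 34], [32], [32, 35], [32], [32], [32], [32], [32], [32], [32], [32], [32], [32], [32], [32], [32], [32], [32], [32], [32], [32], [32], [32], [32], [32], []],
     [[33, 34], [33], [33], [33], [33, 35], [33], [33], [33], [33], [33], [33], [33], [33], [33], [33], [33], [33], [33], [33], [33], [33], [33], [33], [33], [33], [33], [33], [33], [33], [33], [33], [33], [33], []],
     [[34], [34, 35], [34], [34], [34], [34], [34], [34], [34], [34], [34], [34], [34], [34], [34], [34], [34], [34], [34], [34], [34], [34], [34], [34], [34], [34], [34], [34], [34], [34], [34], [34], [34], [34], []],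
     [[35], [35], [35], [35], [35], [35], [35], [35], [35], [35], [35], [35], [35], [35], [35], [35], [35], [35], [35], [35], [35], [35], [35], [35], [35], [35], [35], [35], [35], [35], [35], [35], [35], [35], [35], []]],
    [[0], [1], [2, 3], [2], [4], [5, 6], [5], [7, 8], [7], [9, 10], [9], [12], [11, 12], [13], [15], [14, 15], [16], [18], [17, 18], [19], [20, 21], [20], [22, 23], [22], [24, 25], [24], [26], [28], [27, 28], [29], [30], [31, 32], [31], [33], [34], [35]],
    [0, 0, 0, 0, 0, 0, 0, 1, 3, 1, 3, 1, 2, 0, 3, 2, 0, 1, 2, 0, 3, 1, 3, 1, 3, 1, 0, 1, 2, 0, 0, 1, 3, 0, 0, 0]⟩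

/-- Images of the generators: `x g * a = a * prodT x w` for the entries `(g, w)`, `a` the representative 4. -/
def conjTab4 : List (ℕ × List ℕ) :=
  [(42, [42]), (50, [50]), (38, [38, 39]), (39, [38]), (51, [51]), (36, [36, 37]), (37, [36]), (43, [43, 44]), (44, [43]), (52, [52, 53]), (53, [52]), (40, [41]), (41, [40, 41]), (47, [47]), (45, [46]), (46, [45, 46]), (56, [56]), (54, [55]), (55, [54, 55]), (59, [59]), (48, [48, 49]), (49, [48]), (57, [57, 58]), (58, [57]), (60, [60, 61]), (61, [60]), (64, [64]), (62, [63]), (63, [62, 63]), (65, [65]), (66, [66]), (67, [67, 68]), (68, [67]), (69, [69]), (70, [70]), (71, [71])]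

/-- Representative 5. -/
def stab5 : StabDatum :=
  ⟨[0, 1, 2, 3, 4, 5, 6, 7, 8, 9, 10, 11, 12, 13, 14, 15, 16, 17, 18, 19, 20, 21, 22, 23, 24, 25, 26, 27, 28, 29, 30, 31, 32, 33, 34, 35],
    [[[]],
     [[1, 4], []],
     [[2, 7, 13], [2], []],
     [[3, 8, 13], [3], [3], []],
     [[4], [4], [4, 9, 16], [4, 10, 16], []],
     [[5], [5], [5, 11], [5, 12], [5], []],
     [[6], [6], [6, 12], [6, 11, 12], [6], [6], []],
     [[7], [7, 9, 19], [7], [7, 13], [7], [7, 14], [7, 15], []],
     [[8], [8, 10, 19], [8, 13], [8], [8], [8, 15], [8, 14, 15], [8], []],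
     [[9], [9], [9], [9, 16], [9], [9, 17], [9, 18], [9], [9, 19], []],
     [[10], [10], [10, 16], [10], [10], [10, 18], [10, 17, 18], [10, 19], [10], [10], []],
     [[11, 14, 26], [11], [11], [11], [11, 17, 29], [11], [11], [11, 20], [11, 20, 21], [11, 22], [11, 22, 23], []],
     [[12, 15, 26], [12], [12], [12], [12, 18, 29], [12], [12], [12, 21], [12, 20], [12, 23], [12, 22], [12], []],
     [[13], [13, 16], [13], [13], [13, 19], [13, 20, 26], [13, 21, 26], [13], [13], [13], [13], [13], [13], []],
     [[14], [14, 17, 30], [14, 20], [14, 20, 21], [14], [14], [14], [14], [14], [14, 24], [14, 24, 25], [14], [14, 26], [14], []],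
     [[15], [15, 18, 30], [15, 21], [15, 20], [15], [15], [15], [15], [15], [15, 25], [15, 24], [15, 26], [15], [15], [15], []],
     [[16, 19], [16], [16], [16], [16], [16, 22, 29], [16, 23, 29], [16], [16], [16], [16], [16], [16], [16], [16, 27, 34], [16, 28, 34], []],
     [[17], [17], [17, 22], [17, 22, 23], [17], [17], [17], [17, 24], [17, 24, 25], [17], [17], [17], [17, 29], [17, 27, 35], [17], [17, 30], [17], []],
     [[18], [18], [18, 23], [18, 22], [18], [18], [18], [18, 25], [18, 24], [18], [18], [18, 29], [18], [18, 28, 35], [18, 30], [18], [18], [18], []],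
     [[19], [19], [19], [19], [19], [19, 24, 30], [19, 25, 30], [19], [19], [19], [19], [19, 27, 33], [19, 28, 33], [19], [19], [19], [19], [19], [19], []],
     [[20], [20, 22, 33], [20], [20], [20, 24, 34], [20], [20, 26], [20], [20], [20, 27], [20, 28], [20], [20], [20], [20], [20], [20], [20, 31], [20, 32], [20], []],
     [[21], [21, 23, 33], [21], [21], [21, 25, 34], [21, 26], [21], [21], [21], [21, 28], [21, 27, 28], [21], [21], [21], [21], [21], [21], [21, 31, 32], [21, 31], [21], [21], []],
     [[22, 24, 35], [22], [22], [22], [22], [22], [22, 29], [22, 27], [22, 28], [22], [22], [22], [22], [22], [22, 31], [22, 32], [22], [22], [22], [22], [22], [22, 33], []],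
     [[23, 25, 35], [23], [23], [23], [23], [23, 29], [23], [23, 28], [23, 27, 28], [23], [23], [23], [23], [23], [23, 31, 32], [23, 31], [23], [23], [23], [23], [23, 33], [23], [23], []],
     [[24], [24], [24, 27], [24, 28], [24], [24], [24, 30], [24], [24], [24], [24], [24, 31], [24, 32], [24], [24], [24], [24], [24], [24], [24], [24], [24, 34], [24], [24, 35], []],
     [[25], [25], [25, 28], [25, 27, 28], [25], [25, 30], [25], [25], [25], [25], [25], [25, 31, 32], [25, 31], [25], [25], [25], [25], [25], [25], [25], [25, 34], [25], [25, 35], [25], [25], []],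
     [[26], [26, 29], [26], [26], [26, 30], [26], [26], [26], [26], [26, 31, 35], [26, 32, 35], [26], [26], [26], [26], [26], [26, 33], [26], [26], [26, 34], [26], [26], [26], [26], [26], [26], []],
     [[27], [27], [27], [27], [27], [27, 31], [27, 31, 32], [27], [27], [27], [27], [27], [27, 33], [27], [27], [27, 34], [27], [27], [27, 35], [27], [27], [27], [27], [27], [27], [27], [27], []],
     [[28], [28], [28], [28], [28], [28, 32], [28, 31], [28], [28], [28], [28], [28, 33], [28], [28], [28, 34], [28], [28], [28, 35], [28], [28], [28], [28], [28], [28], [28], [28], [28], [28], []],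
     [[29, 30], [29], [29], [29], [29], [29], [29], [29, 31, 34], [29, 32, 34], [29], [29], [29], [29], [29, 33], [29], [29], [29], [29], [29], [29, 35], [29], [29], [29], [29], [29], [29], [29], [29], [29], []],
     [[30], [30], [30, 31, 33], [30, 32, 33], [30], [30], [30], [30], [30], [30], [30], [30], [30], [30, 34], [30], [30], [30, 35], [30], [30], [30], [30], [30], [30], [30], [30], [30], [30], [30], [30], [30], []],
     [[31], [31], [31], [31, 33], [31], [31], [31], [31], [31, 34], [31], [31, 35], [31], [31], [31], [31], [31], [31], [31], [31], [31], [31], [31], [31], [31], [31], [31], [31], [31], [31], [31], [31], []],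
     [[32], [32], [32, 33], [32], [32], [32], [32], [32, 34], [32], [32, 35], [32], [32], [32], [32], [32], [32], [32], [32], [32], [32], [32], [32], [32], [32], [32], [32], [32], [32], [32], [32], [32], [32], []],
     [[33, 34], [33], [33], [33], [33, 35], [33], [33], [33], [33], [33], [33], [33], [33], [33], [33], [33], [33], [33], [33], [33], [33], [33], [33], [33], [33], [33], [33], [33], [33], [33], [33], [33], [33], []],
     [[34], [34, 35], [34], [34], [34], [34], [34], [34], [34], [34], [34], [34], [34], [34], [34], [34], [34], [34], [34], [34], [34], [34], [34], [34], [34], [34], [34], [34], [34], [34], [34], [34], [34], [34], []],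
     [[35], [35], [35], [35], [35], [35], [35], [35], [35], [35], [35], [35], [35], [35], [35], [35], [35], [35], [35], [35], [35], [35], [35], [35], [35], [35], [35], [35], [35], [35], [35], [35], [35], [35], [35], []]],
    [[0], [1], [2, 3], [2], [4], [5, 6], [5], [7, 8], [7], [9, 10], [9], [12], [11, 12], [13], [15], [14, 15], [16], [18], [17, 18], [19], [20, 21], [20], [22, 23], [22], [24, 25], [24], [26], [28], [27, 28], [29], [30], [31, 32], [31], [33], [34], [35]],
    [0, 0, 0, 0, 0, 0, 0, 1, 3, 1, 3, 1, 2, 0, 3, 2, 0, 1, 2, 0, 3, 1, 3, 1, 3, 1, 0, 1, 2, 0, 0, 1, 3, 0, 0, 0]⟩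

/-- Images of the generators: `x g * a = a * prodT x w` for the entries `(g, w)`, `a` the representative 5. -/
def conjTab5 : List (ℕ × List ℕ) :=
  [(42, [42]), (50, [50]), (38, [38, 39]), (39, [38]), (51, [51]), (36, [36, 37]), (37, [36]), (43, [43, 44]), (44, [43]), (52, [52, 53]), (53, [52]), (40, [41]), (41, [40, 41]), (47, [47]), (45, [46]), (46, [45, 46]), (56, [56]), (54, [55]), (55, [54, 55]), (59, [59]), (48, [48, 49]), (49, [48]), (57, [57, 58]), (58, [57]), (60, [60, 61]), (61, [60]), (64, [64]), (62, [63]), (63, [62, 63]), (65, [65]), (66, [66]), (67, [67, 68]), (68, [67]), (69, [69]), (70, [70]), (71, [71])]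

/-- The data by representative. -/
def stabTab : List StabDatum := [stab0, stab1, stab2, stab3, stab4, stab5]

/-- The conjugation tables by representative. -/
def conjTabs : List (List (ℕ × List ℕ)) := [conjTab0, conjTab1, conjTab2, conjTab3, conjTab4, conjTab5]

end Cfsg.Agent.Lib.Compute.E6Two
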