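import Cfsg.Agent.Lib.Compute.E6Two.PosSys
import Cfsg.Agent.Lib.Compute.E6Two.StabData

/-! Kernel checks of the stable deformation on the standard positive system. -/

set_option autoImplicit false
set_option maxRecDepth 100000

namespace Cfsg.Agent.Lib.Compute.E6Two

open Cfsg.Agent.Lib.Compute.Schur

/-- Codes `0, 1, 2, 3` for the values. -/
noncomputable def posVal (n : ℕ) : ℕ :=
  (valA pvTab (sysPos.var n) % 2).toNat + 2 * (valB pvTab (sysPos.var n) % 2).toNat

/-- Sum of values. -/
noncomputable def parV (f : ℕ → ℕ) : List ℕ → ℕ
  | [] => 0
  | n :: l => Nat.xor (f n) (parV f l)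

/-- Image of a word in local positions. -/
def imgW (D : StabDatum) (u : List ℕ) : List ℕ := u.flatMap fun a => D.img.getD a []

/-- Deviation of the image of a word. -/
noncomputable def devW (D : StabDatum) (u : List ℕ) : ℕ := parV (fun a => D.dev.getD a 0) u

/-- One rule is preserved. -/
noncomputable def ruleOK (D : StabDatum) (i j : ℕ) : Bool :=
  match (D.w.getD i []).getD j [] with
  | w =>
  forceNat (D.q.getD i 0) fun qi => forceNat (D.q.getD j 0) fun qj =>
  natListEq (w.map fun a => D.q.getD a 0) (sysPos.R.rhs qi qj) &&
  (w.all fun a => Nat.blt j a && Nat.blt a D.q.length) &&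
  (match (if i = j then [i, i] else [i, j]), (if i = j then w else j :: w) with
   | lhs, rhs =>
    match ev sysPos.R (imgW D lhs) [], ev sysPos.R (imgW D rhs) [] with
    | (n1, t1), (n2, t2) => natListEq n1 n2 &&
        Nat.beq (Nat.xor (parV posVal t1) (devW D lhs))
          (Nat.xor (Nat.xor (parV posVal t2) (devW D rhs)) (posVal (tix qi qj))))

/-- The datum describes an automorphism of the deformation on its positions. -/
noncomputable def lowStabOK (D : StabDatum) : Bool :=
  Nat.beq D.img.length D.q.length && Nat.beq D.dev.length D.q.length &&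
  (D.dev.all fun v => Nat.blt v 4) &&
  (D.img.all fun l => l.all fun a => Nat.blt a 36) &&
  ((List.range D.q.length).all fun i => Nat.blt (D.q.getD i 0) 36 &&
    (bif Nat.blt (i + 1) D.q.length then Nat.blt (D.q.getD i 0) (D.q.getD (i + 1) 0) else true)) &&
  ((List.range D.q.length).all fun i => (List.range (i + 1)).all fun j => ruleOK D i j)

/-- The local positions list the staying generators, and the images are the conjugates. -/
noncomputable def stayTabOK (k : ℕ) : Bool :=
  match stabTab.getD k ⟨[], [], [], []⟩, conjTabs.getD k [], stayTab.getD k [] with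
  | D, T, L => ((List.range D.q.length).all fun i =>
      match T[i]? with
      | none => false
      | some p => Nat.beq p.1 (sysPos.root (D.q.getD i 0)) &&
          natListEq p.2 ((D.img.getD i []).map sysPos.root)) &&
    (L.all fun g => D.q.any fun a => Nat.beq (sysPos.root a) g) &&
    (D.q.all fun a => L.any fun g => Nat.beq (sysPos.root a) g)

theorem stab0_ok : lowStabOK stab0 = true := by decide +kernel
theorem stab1_ok : lowStabOK stab1 = true := by decide +kernel
theorem stab2_ok : lowStabOK stab2 = true := by decide +kernel
theorem stab3_ok : lowStabOK stab3 = true := by decide +kernel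
theorem stab4_ok : lowStabOK stab4 = true := by decide +kernel
theorem stab5_ok : lowStabOK stab5 = true := by decide +kernel
theorem tab_ok : ((List.range 6).all stayTabOK) = true := by decide +kernel
theorem sq_zero : ((List.range 36).all fun i => Nat.beq (posVal (tix i i)) 0) = true := by decide +kernel

/-- A word with empty normal form and value `v`. -/
noncomputable def lowWitOK (u : List ℕ) (v : ℕ) : Bool :=
  match ev sysPos.R u [] with
  | (n, t) => natListEq n [] && Nat.beq (parV posVal t) v

theorem wit1_ok : lowWitOK [5, 27, 5, 27, 28, 6, 28, 6] 1 = true := by decide +kernel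
theorem wit2_ok : lowWitOK [2, 6, 2, 6, 5, 3, 5, 3] 2 = true := by decide +kernel

end Cfsg.Agent.Lib.Compute.E6Two
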