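import Cfsg.Agent.Lib.Compute.E6Two.Unip
import Cfsg.Agent.Lib.Compute.E6Two.StabData

/-!
The six representatives: four monomial elements of the orbits and two diagonal elements, and their action on
the generators.
-/

set_option autoImplicit false
set_option maxRecDepth 100000
set_option maxHeartbeats 400000

namespace Cfsg.Agent.Lib.Compute.E6Two

open Cfsg.Lie Cfsg.Agent.Lib.Chev Cfsg.Agent.Lib.ChevCent
open Cfsg.Agent.Lib.Twisted (e6Graph_facts GraphData e6Graph)
open Cfsg.Agent.Lib.Twisted.Core (rootedE6 chkGraph_E6 e6Twist e6Orbits Cls orbElt orbEltNeg orbN orbN_eq orbN_one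
  orbN_mul_orbN e6Orb)

/-- The word of a representative orbit. -/
def repOrb (j : ℕ) : List ℕ := [[1], [3], [2, 4], [0, 5]].getD j []

/-- The root elements at the fundamental roots of a word, with coefficient codes. -/
def simpW (L : List ℕ) (t : ℕ → ℕ) : W4 := L.map fun i => (chevE6.simple i, t i)

/-- The same at the negatives. -/
def simpNegW (L : List ℕ) (t : ℕ → ℕ) : W4 := L.map fun i => (ng chevE6 (chevE6.simple i), t i)

/-- Exponents of the diagonal representatives. -/
def torExp (k : ℕ) : ℕ → ℕ := fun i => ([[0, 0, 1, 0, 2, 0], [1, 0, 0, 0, 0, 2]].getD (k - 4) []).getD i 0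

/-- Exponents modulo three of the diagonal representatives at the roots. -/
def torWt (k r : ℕ) : ℕ :=
  ((((List.range 6).map fun i => (torExp k i : ℤ) * chevE6.cartan i r).sum) % 3).toNat

/-- The word of a representative of an orbit. -/
def chkMono (j : ℕ) : Bool :=
  match repTab.getD j [] with
  | [a, b, c] => Nat.beq a c && sameW (wordOf [a]) (simpW (repOrb j) fun _ => 1) &&
      sameW (wordOf [b]) (simpNegW (repOrb j) fun _ => 1)
  | _ => false

/-- The word of a diagonal representative. -/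
def chkTor (k : ℕ) : Bool :=
  match repTab.getD k [], repTab.getD (k - 2) [] with
  | [a, b, c, d, e, f, g, h, i], [p, q, r] => natListEq' [a, b, e, f] [a, b, a, b] &&
      natListEq' [g, h, i] [p, q, r] &&
      sameW (wordOf [a, b]) (simpW (repOrb (k - 2)) fun i => pow4 2 (torExp k i)) &&
      sameW (wordOf [c, d]) (simpNegW (repOrb (k - 2)) fun i => pow4 2 (3 - torExp k i))
  | _, _ => false
where
  natListEq' (u v : List ℕ) : Bool := decide (u = v)

/-- The image of a word under conjugation. -/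
def moveW (f : ℕ → ℕ) (g : ℕ → ℕ) (w : W4) : W4 := w.map fun t => (f t.1, mul4 (g t.1) t.2)

/-- A line of the conjugation table. -/
def conjOK (k : ℕ) (p : ℕ × List ℕ) : Bool :=
  (wordOf p.2).all (fun t => Nat.blt t.1 72) &&
  bif Nat.blt k 4 then sameW (moveW (perm E6.cert (repOrb k)) (fun _ => 1) (wordOf p.2)) (wordOf [p.1])
  else sameW (moveW (fun r => r) (fun r => pow4 2 (torWt k r)) (wordOf p.2)) (wordOf [p.1])

theorem chkMono_all : ((List.range 4).all chkMono) = true := by decide +kernel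

theorem chkTor_all : ([4, 5].all chkTor) = true := by decide +kernel

theorem conjOK_all : ((List.range 6).all fun k => (conjTabs.getD k []).all (conjOK k)) = true := by decide +kernel

theorem repOrb_eq (j : Fin 4) : repOrb j.val = e6Orb j := by fin_cases j <;> rfl

variable {K : Type*} [Field K] [Fintype K] (H : FieldData K)

namespace FieldData

/-- A representative as a matrix. -/
noncomputable def rep (k : ℕ) : GL chevE6.Idx K := valW H.ω (wordOf (repTab.getD k []))

theorem coe_rep (k : ℕ) : ((Schur.prodT H.x (repTab.getD k []) : ↥(twistedE6 K 2)) : GL chevE6.Idx K) = H.rep k :=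
  H.coe_prodT _

theorem rep_mem (k : ℕ) : H.rep k ∈ twistedE6 K 2 := H.coe_rep k ▸ Subtype.coe_prop _

theorem orbElt_val : ∀ {L : List ℕ} (hL : IsWord chevE6 L) (t : ℕ → ℕ),
    valW H.ω (simpW L t) = orbElt checked_E6 K L hL fun i => val4 H.ω (t i)
  | [], _, _ => rfl
  | i :: L, hL, t => by
    show valW H.ω ((chevE6.simple i, t i) :: simpW L t) = _
    rw [valW_cons, orbElt_val hL.cons.2 t]
    simp only [xg, orbElt, dif_pos (checked_E6.simple_lt hL.cons.1)]

theorem orbEltNeg_val : ∀ {L : List ℕ} (hL : IsWord chevE6 L) (t : ℕ → ℕ),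
    valW H.ω (simpNegW L t) = orbEltNeg checked_E6 K L hL fun i => val4 H.ω (t i)
  | [], _, _ => rfl
  | i :: L, hL, t => by
    show valW H.ω ((ng chevE6 (chevE6.simple i), t i) :: simpNegW L t) = _
    rw [valW_cons, orbEltNeg_val hL.cons.2 t]
    simp only [xg, orbEltNeg, dif_pos (Checked.ng_lt (checked_E6.simple_lt hL.cons.1))]

theorem val4_one : val4 H.ω 1 = 1 := by simp [val4]

theorem val4_neg_inv (n : ℕ) (hn : n ≤ 3) : -(val4 H.ω (pow4 2 n))⁻¹ = val4 H.ω (pow4 2 (3 - n)) := by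
  haveI := H.char_two
  rw [CharTwo.neg_eq]
  have : val4 H.ω (pow4 2 (3 - n)) * val4 H.ω (pow4 2 n) = 1 := by
    rw [val4_pow H.ω H.hω, val4_pow H.ω H.hω, ← pow_add, Nat.sub_add_cancel hn, ← val4_pow H.ω H.hω]
    simp [pow4, mul4, val4]
  exact (eq_inv_of_mul_eq_one_left this).symm

theorem torExp_le (k i : ℕ) : torExp k i ≤ 3 := by
  have h : ∀ a < 2, ∀ b < 6, ([[0, 0, 1, 0, 2, 0], [1, 0, 0, 0, 0, 2]].getD a []).getD b 0 ≤ 3 := by decide
  unfold torExp
  by_cases ha : k - 4 < 2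
  · by_cases hb : i < 6
    · exact h _ ha _ hb
    · rw [List.getD_eq_default]
      · exact Nat.zero_le _
      · have : ∀ a < 2, ([[0, 0, 1, 0, 2, 0], [1, 0, 0, 0, 0, 2]].getD a []).length = 6 := by decide
        rw [this _ ha]; omega
  · rw [List.getD_eq_default (l := [[0, 0, 1, 0, 2, 0], [1, 0, 0, 0, 0, 2]]) _ (by simp only [List.length_cons, List.length_nil]; omega)]
    simp

theorem omega_ne : H.ω ≠ 0 := by
  intro e
  have := H.hω
  rw [e, mul_zero, zero_add] at this
  exact one_ne_zero this.symm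

/-- The parameters of a diagonal representative. -/
noncomputable def torC (k : ℕ) : ℕ → Kˣ := fun i => Units.mk0 H.ω H.omega_ne ^ torExp k i

theorem rep_mono (j : Fin 4) : H.rep j.val = nProd checked_E6 K (e6Orb j) := by
  haveI := H.char_two
  have hc := List.all_eq_true.1 chkMono_all j.val (List.mem_range.2 j.2)
  have hL : IsWord chevE6 (e6Orb j) := H.O.isWordOrb j
  unfold chkMono at hc
  revert hc
  rw [rep]
  rcases repTab.getD j.val [] with _ | ⟨a, _ | ⟨b, _ | ⟨c, _ | ⟨d, l⟩⟩⟩⟩ <;> intro hc <;>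
    simp only [Bool.false_eq_true] at hc
  simp only [Bool.and_eq_true, natBeq_iff] at hc
  obtain ⟨⟨rfl, h1⟩, h2⟩ := hc
  have e1 := valW_of_sameW H.ω H.hω h1
  have e2 := valW_of_sameW H.ω H.hω h2
  rw [repOrb_eq] at e1 e2
  rw [show wordOf [a, b, a] = wordOf [a] ++ wordOf [b] ++ wordOf [a] by simp [wordOf],
    valW_append, valW_append, e1, e2, H.orbElt_val hL, H.orbEltNeg_val hL, H.val4_one, ← orbN_one checked_E6 hL,
    orbN_eq _ _ (show (e6Orb j).Pairwise _ from (H.O.facts j).2.2.2.2.2.1)]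
  simp [CharTwo.neg_eq]

theorem rep_tor (k : ℕ) (hk : k = 4 ∨ k = 5) : H.rep k = torusHom chevE6 K (H.torC k) := by
  haveI := H.char_two
  have hc := List.all_eq_true.1 chkTor_all k (by rcases hk with rfl | rfl <;> simp)
  have hj : k - 2 < 4 := by omega
  set j : Fin 4 := ⟨k - 2, hj⟩
  have hL : IsWord chevE6 (e6Orb j) := H.O.isWordOrb j
  have hm := H.rep_mono j
  unfold chkTor at hc
  revert hc hm
  rw [rep, rep]
  show _ → _ = _ → _
  rcases repTab.getD (k - 2) [] with _ | ⟨p, _ | ⟨q, _ | ⟨r, _ | ⟨d', l'⟩⟩⟩⟩ <;>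
    rcases repTab.getD k [] with _ | ⟨a, _ | ⟨b, _ | ⟨c, _ | ⟨d, _ | ⟨e, _ | ⟨f, _ | ⟨g, _ | ⟨h, _ | ⟨i, _ | ⟨z, l⟩⟩⟩⟩⟩⟩⟩⟩⟩⟩ <;>
    intro hc hm <;> simp only [Bool.false_eq_true] at hc
  simp only [Bool.and_eq_true, chkTor.natListEq', decide_eq_true_eq, List.cons.injEq, and_true] at hc
  obtain ⟨⟨⟨⟨-, -, rfl, rfl⟩, rfl, rfl, rfl⟩, h1⟩, h2⟩ := hc
  have e1 := valW_of_sameW H.ω H.hω h1
  have e2 := valW_of_sameW H.ω H.hω h2
  rw [repOrb_eq j] at e1 e2
  rw [show wordOf [e, f, c, d, e, f, g, h, i] = wordOf [e, f] ++ wordOf [c, d] ++ wordOf [e, f] ++ wordOf [g, h, i] by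
    simp [wordOf], valW_append, valW_append, valW_append, hm, e1, e2, H.orbElt_val hL, H.orbEltNeg_val hL]
  have hsupp : ∀ a < 6, a ∉ e6Orb j → torExp k a = 0 := by
    rcases hk with rfl | rfl
    · show ∀ a < 6, a ∉ [2, 4] → torExp 4 a = 0
      decide
    · show ∀ a < 6, a ∉ [0, 5] → torExp 5 a = 0
      decide
  have hor := orbN_mul_orbN (e6Twist H.φ) hL (H.O.facts j).2.2.2.2.1 (H.O.facts j).2.2.2.2.2.1 (H.torC k)
  rw [CharTwo.neg_eq, orbN_one, orbN_eq _ _ (show (e6Orb j).Pairwise _ from (H.O.facts j).2.2.2.2.2.1)] at hor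
  have hval : (fun i => val4 H.ω (pow4 2 (torExp k i))) = fun i => ((H.torC k i : Kˣ) : K) := funext fun i => by
    rw [val4_pow H.ω H.hω, torC, Units.val_pow_eq_pow_val]; simp [val4]
  have hneg : (fun i => val4 H.ω (pow4 2 (3 - torExp k i))) = fun i => -(((H.torC k i : Kˣ) : K))⁻¹ :=
    funext fun i => by
      rw [← H.val4_neg_inv _ (torExp_le k i)]
      exact congrArg (fun a : K => -a⁻¹) (congrFun hval i)
  rw [hval, hneg]
  refine Eq.trans hor (Twisted.Core.Twist.torusHom_congr fun a ha => ?_)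
  split_ifs with h'
  · rfl
  · rw [torC, hsupp a ha h', pow_zero]

theorem rep_cls (j : Fin 4) : Cls rootedE6 (H.O.system.wJ j) (H.rep j.val) := by
  rw [H.rep_mono j]
  exact Cls.of_word (H.O.isWordOrb j)

theorem rep_diag (k : ℕ) (hk : k = 4 ∨ k = 5) : H.rep k ∈ chevE6.diagonalSubgroup K := by
  rw [H.rep_tor k hk, rootedE6.diagonalSubgroup_eq]
  exact ⟨_, rfl⟩

theorem torusFun_torC (k : ℕ) (r : ℕ) :
    ((torusFun chevE6 (H.torC k) r : Kˣ) : K) = val4 H.ω (pow4 2 (torWt k r)) := by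
  haveI := H.char_two
  have hord : Units.mk0 H.ω H.omega_ne ^ 3 = 1 := Units.ext (by
    rw [Units.val_pow_eq_pow_val, Units.val_mk0, Units.val_one]
    have h1 := H.hω
    have two0 : (2 : K) = 0 := CharTwo.two_eq_zero
    linear_combination (H.ω - 1) * h1 + (H.ω - 1) * (H.ω + 1) * two0)
  have emod : ∀ z : ℤ, Units.mk0 H.ω H.omega_ne ^ (z % 3) = Units.mk0 H.ω H.omega_ne ^ z := fun z =>
    (zpow_eq_zpow_emod' z hord).symm
  rw [val4_pow H.ω H.hω, show val4 H.ω 2 = ((Units.mk0 H.ω H.omega_ne : Kˣ) : K) by simp [val4],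
    ← Units.val_pow_eq_pow_val]
  congr 1
  rw [← zpow_natCast, torWt, Int.toNat_of_nonneg (Int.emod_nonneg _ (by norm_num))]
  rw [emod]
  simp only [torusFun, torC, Twisted.Core.e6rank, Finset.prod_range_succ, Finset.prod_range_zero, one_mul,
    List.range_succ, List.range_zero, List.nil_append, List.map_cons, List.map_nil, List.map_append,
    List.sum_cons, List.sum_nil, List.sum_append, ← zpow_natCast, ← zpow_mul, ← zpow_add]
  congr 1
  ring

theorem rep_conj {k : ℕ} (hk : k < 6) {p : ℕ × List ℕ} (hp : p ∈ conjTabs.getD k []) :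
    H.x p.1 * Schur.prodT H.x (repTab.getD k []) =
      Schur.prodT H.x (repTab.getD k []) * Schur.prodT H.x p.2 := by
  haveI := H.char_two
  refine Subtype.ext ?_
  rw [Subgroup.coe_mul, Subgroup.coe_mul, H.coe_rep, H.coe_prodT]
  have hc := List.all_eq_true.1 (List.all_eq_true.1 conjOK_all k (List.mem_range.2 hk)) p hp
  simp only [conjOK, Bool.and_eq_true, List.all_eq_true, Nat.blt_eq] at hc
  obtain ⟨hlt, hc⟩ := hc
  have hx : (H.x p.1 : GL chevE6.Idx K) = valW H.ω (wordOf [p.1]) := by simp [x, wordOf]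
  have key : ∀ (f : ℕ → ℕ) (g : ℕ → ℕ) (a : GL chevE6.Idx K),
      (∀ r < 72, ∀ c, a * xg checked_E6 r (val4 H.ω c) = xg checked_E6 (f r) (val4 H.ω (mul4 (g r) c)) * a) →
      ∀ w : W4, (∀ t ∈ w, t.1 < 72) → a * valW H.ω w = valW H.ω (moveW f g w) * a := by
    intro f g a h w
    induction w with
    | nil => intro _; simp [moveW, valW]
    | cons t w ih =>
      intro hw
      rw [valW_cons, ← mul_assoc, h t.1 (hw t List.mem_cons_self) t.2, mul_assoc,
        ih fun s hs => hw s (List.mem_cons_of_mem _ hs), ← mul_assoc]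
      simp [moveW, valW]
  by_cases h4 : k < 4
  · rw [show Nat.blt k 4 = true by rw [Nat.blt_eq]; exact h4, cond_true] at hc
    rw [hx, ← valW_of_sameW H.ω H.hω hc, key (perm E6.cert (repOrb k)) (fun _ => 1) _ ?_ _ hlt]
    intro r hr c
    have hj := repOrb_eq ⟨k, h4⟩
    rw [H.rep_mono ⟨k, h4⟩, hj]
    have hL : IsWord chevE6 (e6Orb ⟨k, h4⟩) := H.O.isWordOrb ⟨k, h4⟩
    refine Units.ext ?_
    rw [Units.val_mul, Units.val_mul, coe_xg, coe_xg, checked_E6.nProd_mul_x hL (show r < chevE6.nroots from hr),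
      weta_cast, val4_mul H.ω H.hω, H.val4_one]
  · have hk' : k = 4 ∨ k = 5 := by omega
    rw [show Nat.blt k 4 = false by rw [← Bool.not_eq_true, Nat.blt_eq]; omega, cond_false] at hc
    rw [hx, ← valW_of_sameW H.ω H.hω hc, key (fun r => r) (fun r => pow4 2 (torWt k r)) _ ?_ _ hlt]
    intro r hr c
    rw [H.rep_tor k hk', val4_mul H.ω H.hω, ← H.torusFun_torC]
    unfold xg
    rw [dif_pos (show r < chevE6.nroots from hr), dif_pos (show r < chevE6.nroots from hr)]
    exact mul_inv_eq_iff_eq_mul.1 (checked_E6.conj_x (show r < chevE6.nroots from hr) _)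

end FieldData

end Cfsg.Agent.Lib.Compute.E6Two
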