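import Cfsg.Agent.Lib.Compute.E6Two.Gens
import Cfsg.Agent.Lib.ReeInv.Collect
import Cfsg.Agent.Lib.Twisted.Core.E6

/-!
Collection of products of root elements of type E6 whose coefficients lie in a field with four elements.
-/

set_option autoImplicit false

namespace Cfsg.Agent.Lib.Compute.E6Two

open Cfsg.Lie Cfsg.Agent.Lib.Chev Cfsg.Agent.Lib.ChevCent

/-- Products of codes `0, 1, 2, 3` of `0, 1, ω, ω + 1`. -/
def mul4 (a b : ℕ) : ℕ :=
  [0, 0, 0, 0, 0, 1, 2, 3, 0, 2, 3, 1, 0, 3, 1, 2].getD (4 * (a % 4) + b % 4) 0

def pow4 (a : ℕ) : ℕ → ℕ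
  | 0 => 1
  | n + 1 => mul4 a (pow4 a n)

/-- A word in root elements with coded coefficients. -/
abbrev W4 : Type := List (ℕ × ℕ)

/-- The commutator terms with odd coefficients. -/
def terms4 (q r b a : ℕ) : W4 :=
  ((cTerms E6.cert q r).filter fun c => decide (c.2.1 % 2 = 1)).map fun c =>
    (c.1, mul4 (pow4 b c.2.2.1) (pow4 a c.2.2.2))

/-- Multiply a word by a root element on the left, sorting by root. -/
def ins4 : ℕ → ℕ → ℕ → W4 → W4
  | 0, r, a, l => (r, a) :: l
  | _ + 1, r, a, [] => [(r, a)]
  | n + 1, r, a, (q, b) :: l =>
    bif Nat.beq a 0 then (q, b) :: l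
    else bif Nat.blt r q then (r, a) :: (q, b) :: l
    else bif Nat.beq r q then bif Nat.beq (a ^^^ b) 0 then l else (r, a ^^^ b) :: l
    else bif Nat.blt q r && !Nat.beq r (ng chevE6 q) && Nat.blt r chevE6.nroots then
      ins4 n q b (ins4 n r a ((terms4 q r b a).foldr (fun t acc => ins4 n t.1 t.2 acc) l))
    else (r, a) :: (q, b) :: l

def collect4 (w : W4) : W4 := w.foldr (fun t acc => ins4 40 t.1 t.2 acc) []

/-- The root elements of a word in the generators. -/
def wordOf (l : List ℕ) : W4 := l.flatMap fun n => genTab.getD n []

def w4Eq : W4 → W4 → Bool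
  | [], [] => true
  | (a, b) :: l, (c, d) :: m => Nat.beq a c && Nat.beq b d && w4Eq l m
  | _, _ => false

/-- Two words have the same collected form. -/
def sameW (v w : W4) : Bool := w4Eq (collect4 v) (collect4 w)

def relOK (e : List ℕ × List ℕ) : Bool := sameW (wordOf e.1) (wordOf e.2)

theorem w4Eq_eq : ∀ {v w : W4}, w4Eq v w = true → v = w
  | [], [], _ => rfl
  | [], _ :: _, h => by simp [w4Eq] at h
  | _ :: _, [], h => by simp [w4Eq] at h
  | (a, b) :: l, (c, d) :: m, h => by
    simp only [w4Eq, Bool.and_eq_true] at h
    rw [Nat.eq_of_beq_eq_true h.1.1, Nat.eq_of_beq_eq_true h.1.2, w4Eq_eq h.2]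

variable {K : Type*} [Field K] (ω : K)

/-- The field element with the given code. -/
def val4 (a : ℕ) : K := ([0, 1, ω, ω + 1] : List K).getD (a % 4) 0

theorem val4_mod (a : ℕ) : val4 ω (a % 4) = val4 ω a := by simp [val4]

/-- The value of a word. -/
noncomputable def valW (w : W4) : GL chevE6.Idx K :=
  (w.map fun t => xg checked_E6 t.1 (val4 ω t.2)).prod

theorem valW_cons (t : ℕ × ℕ) (w : W4) : valW ω (t :: w) = xg checked_E6 t.1 (val4 ω t.2) * valW ω w := by
  simp [valW]

theorem valW_append (v w : W4) : valW ω (v ++ w) = valW ω v * valW ω w := by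
  simp [valW, List.prod_append]

variable [CharP K 2]

theorem val4_xor (a b : ℕ) : val4 ω (a ^^^ b) = val4 ω a + val4 ω b := by
  rw [← val4_mod, ← val4_mod (a := a), ← val4_mod (a := b),
    show (a ^^^ b) % 4 = (a % 4) ^^^ (b % 4) from Nat.xor_mod_two_pow (n := 2)]
  have ha : a % 4 < 4 := Nat.mod_lt _ (by norm_num)
  have hb : b % 4 < 4 := Nat.mod_lt _ (by norm_num)
  have h1 : (1 : K) + 1 = 0 := CharTwo.add_self_eq_zero 1
  have h2 : ω + ω = 0 := CharTwo.add_self_eq_zero ω
  interval_cases a % 4 <;> interval_cases b % 4 <;> simp [val4] <;> grind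

variable (hω : ω * ω = ω + 1)
include hω

theorem val4_mul (a b : ℕ) : val4 ω (mul4 a b) = val4 ω a * val4 ω b := by
  unfold mul4
  rw [← val4_mod ω a, ← val4_mod ω b]
  have ha : a % 4 < 4 := Nat.mod_lt _ (by norm_num)
  have hb : b % 4 < 4 := Nat.mod_lt _ (by norm_num)
  have h1 : (1 : K) + 1 = 0 := CharTwo.add_self_eq_zero 1
  have h2 : ω + ω = 0 := CharTwo.add_self_eq_zero ω
  interval_cases a % 4 <;> interval_cases b % 4 <;> simp [val4] <;> grind

theorem val4_pow (a n : ℕ) : val4 ω (pow4 a n) = val4 ω a ^ n := by
  induction n with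
  | zero => simp [pow4, val4]
  | succ n ih => rw [pow4, val4_mul ω hω, ih, pow_succ']

theorem valW_terms {q r : ℕ} (b a : ℕ) :
    valW ω (terms4 q r b a) = ((cTerms E6.cert q r).map fun c =>
      xg checked_E6 c.1 ((c.2.1 : K) * val4 ω b ^ c.2.2.1 * val4 ω a ^ c.2.2.2)).prod := by
  unfold terms4
  induction cTerms E6.cert q r with
  | nil => simp [valW]
  | cons c l ih =>
    rw [List.map_cons, List.prod_cons, ← ih, List.filter_cons]
    by_cases hc : c.2.1 % 2 = 1
    · have e : (c.2.1 : K) = 1 := by
        have h2 : ((c.2.1 - 1 : ℤ) : K) = 0 := natCast_even (by omega)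
        rwa [Int.cast_sub, Int.cast_one, sub_eq_zero] at h2
      rw [if_pos (by simpa using hc), List.map_cons, valW_cons, val4_mul ω hω, val4_pow ω hω, val4_pow ω hω, e,
        one_mul]
    · rw [if_neg (by simpa using hc), natCast_even (show c.2.1 % 2 = 0 by omega), zero_mul, zero_mul, xg_zero,
        one_mul]

theorem valW_ins : ∀ (n r a : ℕ) (l : W4),
    valW ω (ins4 n r a l) = xg checked_E6 r (val4 ω a) * valW ω l := by
  intro n
  induction n with
  | zero => intro r a l; rw [ins4, valW_cons]
  | succ n ih =>
    intro r a l
    match l with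
    | [] => rw [ins4, valW_cons]
    | (q, b) :: l =>
      rw [ins4]
      cases ha : Nat.beq a 0
      · simp only [cond_false]
        cases h1 : Nat.blt r q
        · simp only [cond_false]
          cases h2 : Nat.beq r q
          · simp only [cond_false]
            cases h3 : Nat.blt q r && !Nat.beq r (ng chevE6 q) && Nat.blt r chevE6.nroots
            · simp only [cond_false, valW_cons]
            · simp only [cond_true]
              simp only [Bool.and_eq_true, Nat.blt_eq, Bool.not_eq_true'] at h3
              obtain ⟨⟨hqr, hng⟩, hr⟩ := h3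
              have hng' : r ≠ ng chevE6 q := fun e => by simp [e] at hng
              have hfold : ∀ T : W4, valW ω (T.foldr (fun t acc => ins4 n t.1 t.2 acc) l) =
                  valW ω T * valW ω l := by
                intro T
                induction T with
                | nil => simp [valW]
                | cons t T iT => rw [List.foldr_cons, ih, iT, valW_cons, mul_assoc]
              rw [ih, ih, hfold, valW_cons]
              have key : xg checked_E6 r (val4 ω a) * xg checked_E6 q (val4 ω b) =
                  xg checked_E6 q (val4 ω b) * xg checked_E6 r (val4 ω a) * valW ω (terms4 q r b a) := by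
                have e' := checked_E6.commutator_formula (show q < chevE6.nroots by omega) hr (by omega) hng'
                  (val4 ω b) (val4 ω a)
                rw [checked_E6.commWord_eq (show q < chevE6.nroots by omega) hr] at e'
                refine Units.ext ?_
                rw [valW_terms ω hω]
                simp only [Units.val_mul, coe_xg]
                rw [e']
                congr 1
                rw [CharTwo.neg_eq]
                induction cTerms E6.cert q r with
                | nil => simp [ChevalleyDatum.wordMat]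
                | cons c w iw =>
                  simp only [ChevalleyDatum.wordMat, List.map_cons, List.prod_cons, Units.val_mul] at iw ⊢
                  rw [iw, coe_xg]
              simp only [← mul_assoc]
              rw [key]
          · simp only [cond_true]
            obtain rfl := Nat.eq_of_beq_eq_true h2
            rw [valW_cons, ← mul_assoc, ← xg_add, ← val4_xor]
            cases hp : Nat.beq (a ^^^ b) 0
            · simp only [cond_false, valW_cons]
            · rw [Nat.eq_of_beq_eq_true hp]
              simp [val4, xg_zero]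
        · simp only [cond_true, valW_cons]
      · simp only [cond_true]
        rw [Nat.eq_of_beq_eq_true ha]
        simp [val4, xg_zero]

theorem valW_collect : ∀ w : W4, valW ω (collect4 w) = valW ω w
  | [] => rfl
  | t :: w => by
    have := valW_collect w
    simp only [collect4, List.foldr_cons] at this ⊢
    rw [valW_ins ω hω, this, valW_cons]

theorem valW_of_sameW {v w : W4} (h : sameW v w = true) : valW ω v = valW ω w := by
  rw [← valW_collect ω hω v, ← valW_collect ω hω w, w4Eq_eq h]

end Cfsg.Agent.Lib.Compute.E6Two
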