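import Cfsg.Agent.Lib.Compute.E6Two.Steps0
import Cfsg.Agent.Lib.Compute.E6Two.Steps1
import Cfsg.Agent.Lib.Compute.E6Two.Steps2
import Cfsg.Agent.Lib.Compute.E6Two.Steps3
import Cfsg.Agent.Lib.Compute.E6Two.Steps4
import Cfsg.Agent.Lib.Compute.E6Two.Steps5
import Cfsg.Agent.Lib.Compute.E6Two.Steps6

/-! The whole certificate. -/

set_option autoImplicit false
set_option maxRecDepth 100000
set_option maxHeartbeats 4000000

namespace Cfsg.Agent.Lib.Compute.E6Two

theorem ord_ok : ordOK pvTab ordTab = true := by decide +kernel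

theorem free20_ok : freeOK pvTab sys0 (Src.cons 8 1 1) 2 0 = true := by decide +kernel

theorem free02_ok : freeOK pvTab sys0 (Src.cons 21 17 17) 0 2 = true := by decide +kernel

/-- All step numbers. -/
def allMask : ℕ :=
  stepMask steps0 ||| stepMask steps1 ||| stepMask steps2 ||| stepMask steps3 ||| stepMask steps4 ||| stepMask steps5 ||| stepMask steps6 ||| stepMask steps7 ||| stepMask steps8 ||| stepMask steps9 ||| stepMask steps10 ||| stepMask steps11 ||| stepMask steps12 ||| stepMask steps13 ||| stepMask steps14 ||| stepMask steps15 ||| stepMask steps16 ||| stepMask steps17 ||| stepMask steps18 ||| stepMask steps19 ||| stepMask steps20 ||| stepMask steps21 ||| stepMask steps22 ||| stepMask steps23 ||| stepMask steps24 ||| stepMask steps25 ||| stepMask steps26 ||| stepMask steps27 ||| stepMask steps28 ||| stepMask steps29 ||| stepMask steps30 ||| stepMask steps31 ||| stepMask steps32 ||| stepMask steps33 ||| stepMask steps34 ||| stepMask steps35 ||| stepMask steps36 ||| stepMask steps37 ||| stepMask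 steps38 ||| stepMask steps39 ||| stepMask steps40 ||| stepMask steps41 ||| stepMask steps42 ||| stepMask steps43 ||| stepMask steps44 ||| stepMask steps45 ||| stepMask steps46 ||| stepMask steps47 ||| stepMask steps48 ||| stepMask steps49 ||| stepMask steps50 ||| stepMask steps51 ||| stepMask steps52 ||| stepMask steps53 ||| stepMask steps54 ||| stepMask steps55 ||| stepMask steps56 ||| stepMask steps57 ||| stepMask steps58 ||| stepMask steps59 ||| stepMask steps60 ||| stepMask steps61 ||| stepMask steps62 ||| stepMask steps63 ||| stepMask steps64 ||| stepMask steps65 ||| stepMask steps66 ||| stepMask steps67 ||| stepMask steps68 ||| stepMask steps69 ||| stepMask steps70 ||| stepMask steps71 ||| stepMask steps72 ||| stepMask steps73 ||| stepMask steps74 ||| stepMask steps75 ||| stepMask steps76 ||| stepMask steps77 ||| stepMask steps78 ||| stepMask steps79 ||| stepMask steps80 ||| stepMask steps81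

theorem allMask_ok : allMask = 2 ^ numRel - 2 ^ 74 := by decide +kernel

/-- All steps hold. -/
theorem good_all (k : ℕ) (h : 74 ≤ k) (h2 : k < numRel) : Good pvTab ordTab k := by
  have hk : allMask.testBit k = true := by
    rw [allMask_ok]
    exact testBit_two_pow_sub_two_pow h h2
  simp only [allMask, Nat.testBit_lor, Bool.or_eq_true, or_assoc] at hk
  rcases hk with h | h | h | h | h | h | h | h | h | h | h | h | h | h | h | h | h | h | h | h | h | h | h | h | h | h | h | h | h | h | h | h | h | h | h | h | h | h | h | h | h | h | h | h | h | h | h | h | h | h | h | h | h | h | h | h | h | h | h | h | h | h | h | h | h | h | h | h | h | h | h | h | h | h | h | h | h | h | h | h | h | h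
  · exact good_of_stepsOK sys0_ok _ steps0_ok k (mem_of_stepMask _ _ h)
  · exact good_of_stepsOK sys1_ok _ steps1_ok k (mem_of_stepMask _ _ h)
  · exact good_of_stepsOK sys2_ok _ steps2_ok k (mem_of_stepMask _ _ h)
  · exact good_of_stepsOK sys3_ok _ steps3_ok k (mem_of_stepMask _ _ h)
  · exact good_of_stepsOK sys4_ok _ steps4_ok k (mem_of_stepMask _ _ h)
  · exact good_of_stepsOK sys5_ok _ steps5_ok k (mem_of_stepMask _ _ h)
  · exact good_of_stepsOK sys6_ok _ steps6_ok k (mem_of_stepMask _ _ h)
  · exact good_of_stepsOK sys7_ok _ steps7_ok k (mem_of_stepMask _ _ h)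
  · exact good_of_stepsOK sys8_ok _ steps8_ok k (mem_of_stepMask _ _ h)
  · exact good_of_stepsOK sys9_ok _ steps9_ok k (mem_of_stepMask _ _ h)
  · exact good_of_stepsOK sys10_ok _ steps10_ok k (mem_of_stepMask _ _ h)
  · exact good_of_stepsOK sys11_ok _ steps11_ok k (mem_of_stepMask _ _ h)
  · exact good_of_stepsOK sys12_ok _ steps12_ok k (mem_of_stepMask _ _ h)
  · exact good_of_stepsOK sys13_ok _ steps13_ok k (mem_of_stepMask _ _ h)
  · exact good_of_stepsOK sys14_ok _ steps14_ok k (mem_of_stepMask _ _ h)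
  · exact good_of_stepsOK sys15_ok _ steps15_ok k (mem_of_stepMask _ _ h)
  · exact good_of_stepsOK sys16_ok _ steps16_ok k (mem_of_stepMask _ _ h)
  · exact good_of_stepsOK sys17_ok _ steps17_ok k (mem_of_stepMask _ _ h)
  · exact good_of_stepsOK sys18_ok _ steps18_ok k (mem_of_stepMask _ _ h)
  · exact good_of_stepsOK sys19_ok _ steps19_ok k (mem_of_stepMask _ _ h)
  · exact good_of_stepsOK sys20_ok _ steps20_ok k (mem_of_stepMask _ _ h)
  · exact good_of_stepsOK sys21_ok _ steps21_ok k (mem_of_stepMask _ _ h)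
  · exact good_of_stepsOK sys22_ok _ steps22_ok k (mem_of_stepMask _ _ h)
  · exact good_of_stepsOK sys23_ok _ steps23_ok k (mem_of_stepMask _ _ h)
  · exact good_of_stepsOK sys24_ok _ steps24_ok k (mem_of_stepMask _ _ h)
  · exact good_of_stepsOK sys25_ok _ steps25_ok k (mem_of_stepMask _ _ h)
  · exact good_of_stepsOK sys26_ok _ steps26_ok k (mem_of_stepMask _ _ h)
  · exact good_of_stepsOK sys27_ok _ steps27_ok k (mem_of_stepMask _ _ h)
  · exact good_of_stepsOK sys28_ok _ steps28_ok k (mem_of_stepMask _ _ h)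
  · exact good_of_stepsOK sys29_ok _ steps29_ok k (mem_of_stepMask _ _ h)
  · exact good_of_stepsOK sys30_ok _ steps30_ok k (mem_of_stepMask _ _ h)
  · exact good_of_stepsOK sys31_ok _ steps31_ok k (mem_of_stepMask _ _ h)
  · exact good_of_stepsOK sys32_ok _ steps32_ok k (mem_of_stepMask _ _ h)
  · exact good_of_stepsOK sys33_ok _ steps33_ok k (mem_of_stepMask _ _ h)
  · exact good_of_stepsOK sys34_ok _ steps34_ok k (mem_of_stepMask _ _ h)
  · exact good_of_stepsOK sys35_ok _ steps35_ok k (mem_of_stepMask _ _ h)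
  · exact good_of_stepsOK sys36_ok _ steps36_ok k (mem_of_stepMask _ _ h)
  · exact good_of_stepsOK sys37_ok _ steps37_ok k (mem_of_stepMask _ _ h)
  · exact good_of_stepsOK sys38_ok _ steps38_ok k (mem_of_stepMask _ _ h)
  · exact good_of_stepsOK sys39_ok _ steps39_ok k (mem_of_stepMask _ _ h)
  · exact good_of_stepsOK sys40_ok _ steps40_ok k (mem_of_stepMask _ _ h)
  · exact good_of_stepsOK sys41_ok _ steps41_ok k (mem_of_stepMask _ _ h)
  · exact good_of_stepsOK sys42_ok _ steps42_ok k (mem_of_stepMask _ _ h)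
  · exact good_of_stepsOK sys43_ok _ steps43_ok k (mem_of_stepMask _ _ h)
  · exact good_of_stepsOK sys44_ok _ steps44_ok k (mem_of_stepMask _ _ h)
  · exact good_of_stepsOK sys45_ok _ steps45_ok k (mem_of_stepMask _ _ h)
  · exact good_of_stepsOK sys46_ok _ steps46_ok k (mem_of_stepMask _ _ h)
  · exact good_of_stepsOK sys47_ok _ steps47_ok k (mem_of_stepMask _ _ h)
  · exact good_of_stepsOK sys48_ok _ steps48_ok k (mem_of_stepMask _ _ h)
  · exact good_of_stepsOK sys49_ok _ steps49_ok k (mem_of_stepMask _ _ h)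
  · exact good_of_stepsOK sys50_ok _ steps50_ok k (mem_of_stepMask _ _ h)
  · exact good_of_stepsOK sys51_ok _ steps51_ok k (mem_of_stepMask _ _ h)
  · exact good_of_stepsOK sys52_ok _ steps52_ok k (mem_of_stepMask _ _ h)
  · exact good_of_stepsOK sys53_ok _ steps53_ok k (mem_of_stepMask _ _ h)
  · exact good_of_stepsOK sys54_ok _ steps54_ok k (mem_of_stepMask _ _ h)
  · exact good_of_stepsOK sys55_ok _ steps55_ok k (mem_of_stepMask _ _ h)
  · exact good_of_stepsOK sys56_ok _ steps56_ok k (mem_of_stepMask _ _ h)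
  · exact good_of_stepsOK sys57_ok _ steps57_ok k (mem_of_stepMask _ _ h)
  · exact good_of_stepsOK sys58_ok _ steps58_ok k (mem_of_stepMask _ _ h)
  · exact good_of_stepsOK sys59_ok _ steps59_ok k (mem_of_stepMask _ _ h)
  · exact good_of_stepsOK sys60_ok _ steps60_ok k (mem_of_stepMask _ _ h)
  · exact good_of_stepsOK sys61_ok _ steps61_ok k (mem_of_stepMask _ _ h)
  · exact good_of_stepsOK sys62_ok _ steps62_ok k (mem_of_stepMask _ _ h)
  · exact good_of_stepsOK sys63_ok _ steps63_ok k (mem_of_stepMask _ _ h)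
  · exact good_of_stepsOK sys64_ok _ steps64_ok k (mem_of_stepMask _ _ h)
  · exact good_of_stepsOK sys65_ok _ steps65_ok k (mem_of_stepMask _ _ h)
  · exact good_of_stepsOK sys66_ok _ steps66_ok k (mem_of_stepMask _ _ h)
  · exact good_of_stepsOK sys67_ok _ steps67_ok k (mem_of_stepMask _ _ h)
  · exact good_of_stepsOK sys68_ok _ steps68_ok k (mem_of_stepMask _ _ h)
  · exact good_of_stepsOK sys69_ok _ steps69_ok k (mem_of_stepMask _ _ h)
  · exact good_of_stepsOK sys70_ok _ steps70_ok k (mem_of_stepMask _ _ h)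
  · exact good_of_stepsOK sys71_ok _ steps71_ok k (mem_of_stepMask _ _ h)
  · exact good_of_stepsOK sys72_ok _ steps72_ok k (mem_of_stepMask _ _ h)
  · exact good_of_stepsOK sys73_ok _ steps73_ok k (mem_of_stepMask _ _ h)
  · exact good_of_stepsOK sys74_ok _ steps74_ok k (mem_of_stepMask _ _ h)
  · exact good_of_stepsOK sys75_ok _ steps75_ok k (mem_of_stepMask _ _ h)
  · exact good_of_stepsOK sys76_ok _ steps76_ok k (mem_of_stepMask _ _ h)
  · exact good_of_stepsOK sys77_ok _ steps77_ok k (mem_of_stepMask _ _ h)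
  · exact good_of_stepsOK sys78_ok _ steps78_ok k (mem_of_stepMask _ _ h)
  · exact good_of_stepsOK sys79_ok _ steps79_ok k (mem_of_stepMask _ _ h)
  · exact good_of_stepsOK sys80_ok _ steps80_ok k (mem_of_stepMask _ _ h)
  · exact good_of_stepsOK sys81_ok _ steps81_ok k (mem_of_stepMask _ _ h)

/-- The linear certificate: all deviations lie in a group generated by two central involutions. -/
theorem exists_deviations {Y : Type*} [Group Y] {X : ℕ → Y} (hc : ∀ g < numRel, ζ X g ∈ Subgroup.center Y)
    (hunit : ∀ t < 72, ζ X (getP 16 ordTab t) = 1) :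
    ∃ a ∈ Subgroup.center Y, ∃ b ∈ Subgroup.center Y, a ^ 2 = 1 ∧ b ^ 2 = 1 ∧
      a = ζ X (getP 16 ordTab 72) ∧ b = ζ X (getP 16 ordTab 73) ∧
      ∀ g < numRel, ζ X g = a ^ valA pvTab g * b ^ valB pvTab g :=
  exists_zeta ord_ok good_all sys0_ok sys0_ok free20_ok free02_ok hc hunit

end Cfsg.Agent.Lib.Compute.E6Two
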