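import Cfsg.Agent.Lib.Compute.E6Two.Fixed
import Cfsg.Agent.Lib.Schur.TwistE6Layers

/-!
The fixed part of a group of positive roots closed in layers is generated by the generators in it.
-/

set_option autoImplicit false
set_option maxRecDepth 8000
set_option maxHeartbeats 400000

namespace Cfsg.Agent.Lib.Compute.E6Two

open Cfsg.Lie Cfsg.Agent.Lib.Chev Cfsg.Agent.Lib.ChevCent
open Cfsg.Agent.Lib.Twisted (e6Graph_facts GraphData e6Graph)
open Cfsg.Agent.Lib.Twisted.Core (rootedE6 chkGraph_E6 e6Twist e6Orbits)
open Cfsg.Agent.Lib.Schur.TwistLift (RootLayers oSet iSet iSet_succ)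

/-- The orbits of positive roots with the given one moved to the end. -/
def layersWith (k : ℕ) : List (List ℕ) :=
  let o := [[46], [39], [37, 42], [36, 56]].getD k []
  Schur.TwistE6.e6Layers.filter (fun l => !decide (l = o)) ++ bif Nat.blt k 4 then [o] else []

/-- The check on a list of layers. -/
def chkLay (os : List (List ℕ)) : Bool :=
  allN 72 (fun r => Nat.blt r 36 || os.flatten.contains r) &&
  allN os.length (fun j => (os.getD j []).all fun s =>
    Nat.ble 36 s && Nat.blt s 72 && (os.getD j []).contains (e6Graph.root s) &&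
    !(os.take j).flatten.contains s &&
    allN 72 (fun r => Nat.blt r 36 || Nat.beq r s ||
      (cTerms E6.cert r s).all fun c => (os.take j).flatten.contains c.1) &&
    (os.getD j []).all fun r => Nat.beq r s || (cTerms E6.cert r s).isEmpty)

/-- A layer is a fixed root or a pair, with generators among the given ones. -/
def chkGens (S : List ℕ) (os : List (List ℕ)) : Bool :=
  os.all fun o =>
    match o with
    | [r] => S.any fun n => decide (genTab.getD n [] = [(r, 1)])
    | [r, s] => (S.any fun n => decide (genTab.getD n [] = [(r, 1), (s, 1)])) &&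
        (S.any fun n => decide (genTab.getD n [] = [(r, 2), (s, 3)])) && Nat.blt r s
    | _ => false

theorem chkLay_all : ((List.range 5).all fun k => chkLay (layersWith k)) = true := by decide +kernel

theorem mem_flatten_take {os : List (List ℕ)} {j r : ℕ} :
    r ∈ (os.take j).flatten ↔ r ∈ iSet os j := by
  simp only [List.mem_flatten]
  constructor
  · rintro ⟨o, ho, hr⟩
    obtain ⟨i, hi, e⟩ := List.mem_iff_getElem.1 ho
    rw [List.length_take, lt_min_iff] at hi
    refine ⟨i, hi.1, ?_⟩
    show r ∈ os.getD i []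
    rw [List.getD_eq_getElem _ _ hi.2]
    rw [List.getElem_take] at e
    rw [e]; exact hr
  · rintro ⟨i, hi, hr⟩
    have hr' : r ∈ os.getD i [] := hr
    by_cases hi' : i < os.length
    · rw [List.getD_eq_getElem _ _ hi'] at hr'
      exact ⟨_, List.mem_iff_getElem.2 ⟨i, by rw [List.length_take]; exact lt_min hi hi', List.getElem_take ..⟩, hr'⟩
    · rw [List.getD_eq_default _ _ (not_lt.1 hi')] at hr'; simp at hr'

theorem rootLayers_of_chk {os : List (List ℕ)} (h : chkLay os = true) :
    RootLayers chevE6 E6.cert e6Graph.root os := by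
  simp only [chkLay, Bool.and_eq_true, allN_iff, List.all_eq_true, Bool.or_eq_true, Nat.blt_eq, Nat.ble_eq,
    List.contains_iff_mem, natBeq_iff, Bool.not_eq_true', List.isEmpty_iff] at h
  obtain ⟨hcov, hall⟩ := h
  refine ⟨fun j hj r hr => ⟨(hall j hj r hr).1.1.1.1.1, (hall j hj r hr).1.1.1.1.2⟩,
    fun j hj r hr => (hall j hj r hr).1.1.1.2, fun r hr => mem_flatten_take.1 ?_, fun j hj r hr hi => ?_,
    fun j hj s hs r hr hne c hc => mem_flatten_take.1 ?_, fun j hj s hs r hr hne => ?_⟩
  · rw [List.take_length]
    exact (hcov r hr.2).resolve_left (not_lt.2 hr.1)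
  · have h1 := (hall j hj r hr).1.1.2
    rw [List.contains_iff_mem.2 (mem_flatten_take.2 hi)] at h1
    exact Bool.noConfusion h1
  · exact (((hall j hj s hs).1.2 r hr.2).resolve_left (fun e => e.elim (not_lt.2 hr.1) hne)) c hc
  · exact ((hall j hj s hs).2 r hr).resolve_left hne

variable {K : Type*} [Field K] [Fintype K] (H : FieldData K)

namespace FieldData

/-- The group generated by the generators in a list, inside the general linear group. -/
noncomputable def gGrp (S : List ℕ) : Subgroup (GL chevE6.Idx K) :=
  (Subgroup.closure (H.x '' {n | n ∈ S})).map (twistedE6 K 2).subtype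

theorem valW_mem_gGrp {S : List ℕ} {n : ℕ} (hn : n ∈ S) : valW H.ω (genTab.getD n []) ∈ H.gGrp S :=
  ⟨H.x n, Subgroup.subset_closure ⟨n, hn, rfl⟩, rfl⟩

/-- A fixed element of one layer. -/
theorem layer_mem {os : List (List ℕ)} (L : RootLayers chevE6 E6.cert e6Graph.root os) {S : List ℕ}
    {j : ℕ} (hS : chkGens S [os.getD j []] = true) (hj : j < os.length) {v : GL chevE6.Idx K}
    (hv : v ∈ rootGen chevE6 K (oSet os j)) (hf : H.T.sig v = v) : v ∈ H.gGrp S := by
  haveI := H.char_two
  have hc := List.all_eq_true.1 hS _ (List.mem_singleton.2 rfl)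
  have hset : oSet os j = {r | r ∈ os.getD j []} := rfl
  have hp : ∀ r ∈ os.getD j [], r ∈ posSet chevE6 := L.pos j hj
  have hrho : ∀ r ∈ os.getD j [], e6Graph.root r ∈ os.getD j [] := L.rho j hj
  have horth := L.orth j hj
  rw [hset] at hv
  simp only [oSet, Set.mem_setOf_eq] at horth
  generalize os.getD j [] = o at hc hp hrho horth hv
  match o, hc with
  | [r], hc =>
    obtain ⟨n, hn, e⟩ := List.any_eq_true.1 hc
    have e := of_decide_eq_true e
    have hr := hp r (by simp)
    have hcl : ClosedSet chevE6 E6.cert {a | a ∈ [r]} := by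
      intro a ha b hb h1 _ c hc'
      simp only [Set.mem_setOf_eq, List.mem_singleton] at ha hb
      exact absurd (hb.trans ha.symm) h1
    obtain ⟨t, -, et⟩ := checked_E6.exists_prod (F := K) [r] (List.pairwise_singleton _ _)
      (fun a ha => hp a ha) hcl v hv
    have hv' : v = xg checked_E6 r (t r) := Units.ext (by
      rw [et, coe_xg]; simp [ChevalleyDatum.wordMat])
    subst hv'
    rw [H.sig_xg hr.2] at hf
    have hroot : e6Graph.root r = r := by simpa using hrho r (by simp)
    rw [hroot] at hf
    have hfix : H.φ (t r) = t r := by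
      have := ChevCent.word_injective (F := K) rootedE6 (L := [r]) (List.pairwise_singleton _ _)
        (fun a ha => hp a ha) (f := fun _ => H.φ (t r)) (g := fun _ => t r)
        (by simpa [ChevCent.word] using hf) r (by simp)
      exact this
    rcases H.cases (t r) with h | h | h | h
    · rw [h, show val4 H.ω 0 = 0 by simp [val4], xg_zero]; exact one_mem _
    · have := H.valW_mem_gGrp hn
      rw [e] at this
      rw [h]; simpa [valW] using this
    all_goals
      exfalso
      rw [h, H.phi_val4] at hfix
      simp [val4, mul4] at hfix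
  | [r, s], hc =>
    simp only [Bool.and_eq_true, List.any_eq_true, decide_eq_true_eq, Nat.blt_eq] at hc
    obtain ⟨⟨⟨n, hn, e⟩, ⟨m, hm, e'⟩⟩, hrs⟩ := hc
    have hr := hp r (by simp)
    have hs := hp s (by simp)
    have hcl : ClosedSet chevE6 E6.cert {a | a ∈ [r, s]} := by
      intro a ha b hb h1 _ c hc'
      rw [horth b hb a ha (Ne.symm h1)] at hc'
      simp at hc'
    have hpw : [r, s].Pairwise (· < ·) := by simp [hrs]
    obtain ⟨t, -, et⟩ := checked_E6.exists_prod (F := K) [r, s] hpw (fun a ha => hp a ha) hcl v hv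
    have hv' : v = xg checked_E6 r (t r) * xg checked_E6 s (t s) := Units.ext (by
      rw [et, Units.val_mul, coe_xg, coe_xg]; simp [ChevalleyDatum.wordMat])
    subst hv'
    -- the partner of the first root
    have hne : e6Graph.root r ≠ r := by
      intro hfx
      have h1 := List.all_eq_true.1 genOK_all (genTab.getD n [])
      have hlt : n < genTab.length := by
        by_contra hh
        rw [List.getD_eq_default _ _ (not_lt.1 hh)] at e
        exact absurd e (by simp)
      specialize h1 (by rw [List.getD_eq_getElem _ _ hlt]; exact List.getElem_mem _)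
      rw [e] at h1
      simp only [genOK, Bool.and_eq_true, natBeq_iff] at h1
      exact Nat.ne_of_lt hrs (hfx.symm.trans h1.1.1.1.1.2)
    have hrr : e6Graph.root r = s := by
      have := hrho r (by simp); simpa [hne] using this
    have hss : e6Graph.root s = r := by
      have := hrho s (by simp)
      simp only [List.mem_cons, List.not_mem_nil, or_false] at this
      refine this.resolve_right fun h => hne ?_
      have h' := congrArg Fin.val ((GraphData.rootEquiv e6Graph_facts).injective
        (a₁ := (⟨r, hr.2⟩ : Fin chevE6.nroots)) (a₂ := ⟨s, hs.2⟩) (Fin.ext (hrr.trans h.symm)))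
      exact absurd h' (Nat.ne_of_lt hrs)
    have hcomm : Commute (xg checked_E6 r (H.φ (t s))) (xg checked_E6 s (H.φ (t r))) := by
      refine xg_commute checked_E6 hr.2 hs.2 (Checked.ne_ng_of_pos hr hs checked_E6.two_mul_half) (Or.inr ?_) _ _
      rw [evenTerms, horth s (by simp) r (by simp) (Nat.ne_of_lt hrs)]
      rfl
    rw [H.T.sig_mul (H.mem_group _ _) (H.mem_group _ _), H.sig_xg hr.2, H.sig_xg hs.2, hrr, hss, ← hcomm.eq] at hf
    have hfix : H.φ (t r) = t s := by
      have := ChevCent.word_injective (F := K) rootedE6 (L := [r, s]) hpw (fun a ha => hp a ha)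
        (f := fun a => if a = r then H.φ (t s) else H.φ (t r)) (g := t)
        (by simpa [ChevCent.word, Nat.ne_of_gt hrs] using hf) s (by simp)
      simpa [Nat.ne_of_gt hrs] using this
    rw [← hfix]
    have hn' := H.valW_mem_gGrp hn
    have hm' := H.valW_mem_gGrp hm
    rw [e] at hn'
    rw [e'] at hm'
    simp only [valW, List.map_cons, List.map_nil, List.prod_cons, List.prod_nil, mul_one] at hn' hm'
    rcases H.cases (t r) with h | h | h | h <;> rw [h, H.phi_val4]
    · rw [show mul4 0 0 = 0 from rfl, show val4 H.ω 0 = 0 by simp [val4], xg_zero, xg_zero, mul_one]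
      exact one_mem _
    · exact hn'
    · exact hm'
    · have h3 := mul_mem hn' hm'
      rw [show val4 H.ω 3 = val4 H.ω 1 + val4 H.ω 2 from val4_xor H.ω 1 2,
        show val4 H.ω (mul4 3 3) = val4 H.ω 1 + val4 H.ω 3 from val4_xor H.ω 1 3, xg_add, xg_add]
      have hc : Commute (xg checked_E6 r (val4 H.ω 2)) (xg checked_E6 s (val4 H.ω 1)) := by
        refine xg_commute checked_E6 hr.2 hs.2 (Checked.ne_ng_of_pos hr hs checked_E6.two_mul_half) (Or.inr ?_) _ _
        rw [evenTerms, horth s (by simp) r (by simp) (Nat.ne_of_lt hrs)]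
        rfl
      convert h3 using 1
      calc _ = xg checked_E6 r (val4 H.ω 1) * (xg checked_E6 r (val4 H.ω 2) * xg checked_E6 s (val4 H.ω 1)) *
            xg checked_E6 s (val4 H.ω 3) := by group
        _ = _ := by rw [hc.eq]; group

/-- The factors of a fixed product of a layer and the layers before are fixed. -/
theorem split_fixed {os : List (List ℕ)} (L : RootLayers chevE6 E6.cert e6Graph.root os) {n : ℕ}
    (hn : n < os.length) {a b : GL chevE6.Idx K} (ha : a ∈ rootGen chevE6 K (oSet os n))
    (hb : b ∈ rootGen chevE6 K (iSet os n)) (hf : H.T.sig (a * b) = a * b) :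
    H.T.sig a = a ∧ H.T.sig b = b := by
  have hrho : ∀ (r : Fin chevE6.nroots), (H.T.rho r).val = e6Graph.root r.val := fun r => rfl
  have hsig : H.T.sig a ∈ rootGen chevE6 K (oSet os n) :=
    H.T.sig_rootGen (fun r hr => (L.pos n hn hr).2) (fun r hr => by rw [hrho]; exact L.rho n hn _ hr) ha
  have hsigI : H.T.sig b ∈ rootGen chevE6 K (iSet os n) :=
    H.T.sig_rootGen (fun r hr => (L.iSet_pos hn.le hr).2) (fun r hr => by
      obtain ⟨i, hi, hri⟩ := hr
      exact ⟨i, hi, by rw [hrho]; exact L.rho i (hi.trans hn) _ hri⟩) hb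
  rw [H.T.sig_mul (rootGen_le_group (fun r hr => (L.pos n hn hr).2) ha)
    (rootGen_le_group (fun r hr => (L.iSet_pos hn.le hr).2) hb)] at hf
  have h1 : a⁻¹ * H.T.sig a = b * (H.T.sig b)⁻¹ := by
    calc a⁻¹ * H.T.sig a = a⁻¹ * (H.T.sig a * H.T.sig b) * (H.T.sig b)⁻¹ := by group
      _ = _ := by rw [hf]; group
  have h2 : a⁻¹ * H.T.sig a = 1 := RootLayers.rootGen_disjoint rootedE6 (L.pos n hn) (L.iSet_pos hn.le)
    (L.closed_oSet hn) (L.closed_iSet hn.le) (L.disjoint n hn) (mul_mem (inv_mem ha) hsig)
    (h1 ▸ mul_mem hb (inv_mem hsigI))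
  exact ⟨(inv_mul_eq_one.1 h2).symm, (mul_inv_eq_one.1 (h1 ▸ h2)).symm⟩

/-- A fixed element of the first layers. -/
theorem iSet_mem {os : List (List ℕ)} (L : RootLayers chevE6 E6.cert e6Graph.root os) {S : List ℕ}
    {n : ℕ} (hn : n ≤ os.length) (hS : chkGens S (os.take n) = true) {g : GL chevE6.Idx K}
    (hg : g ∈ rootGen chevE6 K (iSet os n)) (hf : H.T.sig g = g) : g ∈ H.gGrp S := by
  induction n generalizing g with
  | zero =>
    have he : iSet os 0 = ∅ := Set.eq_empty_of_forall_notMem fun r ⟨i, hi, _⟩ => Nat.not_lt_zero i hi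
    have : g = 1 := by simpa [he, rootGen] using hg
    rw [this]; exact one_mem _
  | succ n ih =>
    have hn' : n < os.length := hn
    have hle : rootGen chevE6 K (iSet os (n + 1)) ≤
        rootGen chevE6 K (oSet os n) ⊔ rootGen chevE6 K (iSet os n) := by
      refine (Subgroup.closure_le _).2 ?_
      rintro x ⟨r, t, hr, e⟩
      rw [iSet_succ] at hr
      rcases hr with hr | hr
      exacts [Subgroup.mem_sup_right (mem_rootGen hr e), Subgroup.mem_sup_left (mem_rootGen hr e)]
    have hg' : g ∈ (↑(rootGen chevE6 K (oSet os n) ⊔ rootGen chevE6 K (iSet os n)) : Set (GL chevE6.Idx K)) :=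
      hle hg
    rw [Subgroup.coe_mul_of_left_le_normalizer_right _ _
      ((L.oGrp_le_pos rootedE6 hn').trans (L.pos_le_normalizer rootedE6 hn'.le))] at hg'
    obtain ⟨a, ha, b, hb, e⟩ := hg'
    have e' : a * b = g := e
    obtain ⟨haf, hbf⟩ := H.split_fixed L hn' ha hb (e' ▸ hf)
    rw [← e']
    refine mul_mem ?_ (ih hn'.le ?_ hb hbf)
    · have h1 : chkGens S [os.getD n []] = true := by
        simp only [chkGens, List.all_eq_true] at hS ⊢
        intro o ho
        rw [List.mem_singleton] at ho
        subst ho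
        refine hS _ (List.mem_take_iff_getElem.2 ⟨n, by omega, ?_⟩)
        rw [List.getD_eq_getElem _ _ hn']
      exact H.layer_mem L h1 hn' ha haf
    · simp only [chkGens, List.all_eq_true] at hS ⊢
      intro o ho
      exact hS o ((List.take_sublist_take_left (l := os) (Nat.le_succ n)).subset ho)

end FieldData

end Cfsg.Agent.Lib.Compute.E6Two
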